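import Mathlib.GroupTheory.Sylow
import Mathlib.GroupTheory.Nilpotent

/-!
Small general lemmas used by the proofs of S1185..S1263.
-/

namespace Cfsg.Agent.H39

variable {G : Type*} [Group G]

theorem mem_map_conj {H : Subgroup G} {g x : G} :
    x ∈ H.map (MulAut.conj g).toMonoidHom ↔ g⁻¹ * x * g ∈ H := by
  constructor
  · rintro ⟨y, hy, rfl⟩
    simpa [mul_assoc] using hy
  · intro h
    exact ⟨g⁻¹ * x * g, h, by simp [mul_assoc]⟩

theorem conj_mem_map_conj {H : Subgroup G} {g x : G} (hx : x ∈ H) :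
    g * x * g⁻¹ ∈ H.map (MulAut.conj g).toMonoidHom := by
  rw [mem_map_conj]; simpa [mul_assoc] using hx

theorem map_conj_map_conj (H : Subgroup G) (a b : G) :
    (H.map (MulAut.conj b).toMonoidHom).map (MulAut.conj a).toMonoidHom
      = H.map (MulAut.conj (a * b)).toMonoidHom := by
  ext x
  simp [mul_assoc]

theorem map_conj_one (H : Subgroup G) : H.map (MulAut.conj (1 : G)).toMonoidHom = H := by
  ext x; simp

theorem card_map_conj (H : Subgroup G) (g : G) :
    Nat.card (H.map (MulAut.conj g).toMonoidHom) = Nat.card H :=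
  (Nat.card_congr (H.equivMapOfInjective _ (MulAut.conj g).injective).toEquiv).symm

theorem map_conj_of_mem {H : Subgroup G} {g : G} (hg : g ∈ H) :
    H.map (MulAut.conj g).toMonoidHom = H := by
  ext x
  rw [mem_map_conj]
  rw [H.mul_mem_cancel_right hg, H.mul_mem_cancel_left (H.inv_mem hg)]

theorem mem_normalizer_iff_map_conj {H : Subgroup G} {g : G} :
    g ∈ Subgroup.normalizer (H : Set G) ↔ H.map (MulAut.conj g).toMonoidHom = H :=
  Subgroup.mem_normalizer_iff_map_conj_eq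

theorem mem_normalizer_of_conj_mem [Finite G] {H : Subgroup G} {g : G}
    (h : ∀ x ∈ H, g * x * g⁻¹ ∈ H) : g ∈ Subgroup.normalizer (H : Set G) := by
  rw [mem_normalizer_iff_map_conj]
  refine Subgroup.eq_of_le_of_card_ge ?_ (card_map_conj H g).ge
  rintro _ ⟨x, hx, rfl⟩
  simpa using h x hx

/-- Normalizers grow in `p`-groups. -/
theorem exists_mem_normalizer_not_mem [Finite G] {p : ℕ} [Fact p.Prime] {Q R : Subgroup G}
    (hR : IsPGroup p R) (hQR : Q < R) :
    ∃ x ∈ R, x ∉ Q ∧ x ∈ Subgroup.normalizer (Q : Set G) := by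
  have hnil : Group.IsNilpotent R := hR.isNilpotent
  have hlt : Q.subgroupOf R < ⊤ := by
    rw [lt_top_iff_ne_top]
    intro h
    exact hQR.not_ge (Subgroup.subgroupOf_eq_top.mp h)
  obtain ⟨x, hx, hxQ⟩ := SetLike.exists_of_lt (Group.normalizerCondition_of_isNilpotent _ hlt)
  refine ⟨(x : G), x.2, fun h => hxQ h, mem_normalizer_of_conj_mem fun y hy => ?_⟩
  have := (Subgroup.mem_normalizer_iff.mp hx ⟨y, hQR.le hy⟩).mp (by simpa [Subgroup.mem_subgroupOf] using hy)
  simpa [Subgroup.mem_subgroupOf] using this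

end Cfsg.Agent.H39

namespace Cfsg.Agent.H39

variable {G : Type*} [Group G]

/-- Every `p`-subgroup can be conjugated into a given Sylow `p`-subgroup. -/
theorem exists_conj_le_sylow [Finite G] {p : ℕ} [Fact p.Prime] {R : Subgroup G} (hR : IsPGroup p R)
    (T : Sylow p G) : ∃ x : G, ∀ r ∈ R, x * r * x⁻¹ ∈ (T : Subgroup G) := by
  obtain ⟨Q, hQ⟩ := hR.exists_le_sylow
  obtain ⟨x, hx⟩ := MulAction.exists_smul_eq G Q T
  refine ⟨x, fun r hr => ?_⟩
  rw [← hx]
  exact Subgroup.smul_mem_pointwise_smul _ (MulAut.conj x) _ (hQ hr)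

/-- A `p`-subgroup of `K` is conjugate inside `K` into a Sylow `p`-subgroup contained in `K`. -/
theorem exists_conj_mem_le_sylow [Finite G] {p : ℕ} [Fact p.Prime] {R K : Subgroup G}
    (hR : IsPGroup p R) (hRK : R ≤ K) (T : Sylow p G) (hTK : (T : Subgroup G) ≤ K) :
    ∃ x ∈ K, ∀ r ∈ R, x * r * x⁻¹ ∈ (T : Subgroup G) := by
  obtain ⟨x, hx⟩ := exists_conj_le_sylow (hR.comap_subtype (K := K)) (T.subtype hTK)
  refine ⟨x.1, x.2, fun r hr => ?_⟩
  have := hx ⟨r, hRK hr⟩ hr
  exact this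

end Cfsg.Agent.H39
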