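import Mathlib.GroupTheory.OrderOfElement
import Mathlib.GroupTheory.Perm.Cycle.Type

/-!
Pairs of involutions.
-/

namespace Cfsg.Agent.H39

variable {G : Type*} [Group G]

theorem inv_eq_of_orderOf_eq_two {a : G} (ha : orderOf a = 2) : a⁻¹ = a := by
  refine inv_eq_of_mul_eq_one_left ?_
  rw [← sq, ← ha]; exact pow_orderOf_eq_one a

theorem mul_self_of_orderOf_eq_two {a : G} (ha : orderOf a = 2) : a * a = 1 := by
  rw [← sq, ← ha]; exact pow_orderOf_eq_one a

theorem ne_one_of_orderOf_eq_two {a : G} (ha : orderOf a = 2) : a ≠ 1 := fun h => by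
  rw [h, orderOf_one] at ha; omega

theorem orderOf_eq_two_of_mul_self {a : G} (h : a * a = 1) (hne : a ≠ 1) : orderOf a = 2 :=
  orderOf_eq_prime (by rwa [sq]) hne

theorem orderOf_conj (g a : G) : orderOf (g * a * g⁻¹) = orderOf a := by
  have := orderOf_injective (MulAut.conj g).toMonoidHom (MulAut.conj g).injective a
  simpa using this

/-- Two involutions invert their product. -/
theorem conj_mul_involutions {a b : G} (ha : orderOf a = 2) (hb : orderOf b = 2) :
    a * (b * a) * a⁻¹ = (b * a)⁻¹ := by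
  rw [mul_inv_rev, inv_eq_of_orderOf_eq_two ha, inv_eq_of_orderOf_eq_two hb, mul_assoc, mul_assoc,
    mul_self_of_orderOf_eq_two ha, mul_one]

/-- If `a` inverts `d` then conjugating `d ^ m * a` by `d ^ i` adds `2 i` to the exponent. -/
theorem zpow_conj_mul {a d : G} (hd : a * d * a⁻¹ = d⁻¹) (i m : ℤ) :
    d ^ i * (d ^ m * a) * (d ^ i)⁻¹ = d ^ (m + 2 * i) * a := by
  have h : a * d ^ (-i) = d ^ i * a := by
    have := conj_zpow (i := -i) (a := a) (b := d)
    rw [hd, zpow_neg, inv_zpow, inv_inv] at this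
    have := congrArg (· * a) this
    simp only [zpow_neg] at this ⊢
    simpa [mul_assoc] using this.symm
  calc d ^ i * (d ^ m * a) * (d ^ i)⁻¹ = d ^ i * d ^ m * (a * d ^ (-i)) := by
        rw [zpow_neg]; simp [mul_assoc]
    _ = d ^ i * d ^ m * d ^ i * a := by rw [h]; simp [mul_assoc]
    _ = _ := by rw [← zpow_add, ← zpow_add]; congr 2; ring

/-- If the product of two involutions has odd order they are conjugate by an element of the cyclic
group they generate, inverted by both. -/
theorem exists_conj_of_odd {a b : G} (ha : orderOf a = 2) (hb : orderOf b = 2)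
    (hodd : Odd (orderOf (b * a))) :
    ∃ k : G, k ∈ Subgroup.zpowers (b * a) ∧ k * k = b * a ∧ a * k * a⁻¹ = k⁻¹ ∧
      k * a * k⁻¹ = b := by
  obtain ⟨j, hj⟩ := hodd
  set d := b * a with hd
  refine ⟨d ^ (j + 1), ⟨((j + 1 : ℕ) : ℤ), zpow_natCast _ _⟩, ?_, ?_, ?_⟩
  · rw [← pow_add, show j + 1 + (j + 1) = (2 * j + 1) + 1 by ring, ← hj, pow_succ, pow_orderOf_eq_one,
      one_mul]
  · rw [← conj_pow, conj_mul_involutions ha hb, inv_pow]
  · have h := zpow_conj_mul (conj_mul_involutions ha hb) ((j + 1 : ℕ) : ℤ) 0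
    rw [zpow_zero, one_mul, zpow_natCast] at h
    rw [h, show (0 : ℤ) + 2 * ((j + 1 : ℕ) : ℤ) = ((2 * j + 1 + 1 : ℕ) : ℤ) by push_cast; ring,
      zpow_natCast, pow_succ, ← hj, pow_orderOf_eq_one, one_mul, mul_assoc,
      mul_self_of_orderOf_eq_two ha, mul_one]

/-- If the product of two involutions has even order, the dihedral group they generate has a
central involution. -/
theorem exists_central_involution [Finite G] {a b : G} (ha : orderOf a = 2) (hb : orderOf b = 2)
    (heven : Even (orderOf (b * a))) :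
    ∃ w : G, orderOf w = 2 ∧ w ∈ Subgroup.zpowers (b * a) ∧ Commute w a ∧ Commute w b := by
  obtain ⟨l, hl⟩ := heven
  have hpos := orderOf_pos (b * a)
  set d := b * a with hd
  have hw : orderOf (d ^ l) = 2 := by
    rw [orderOf_pow_of_dvd (by omega) (hl ▸ ⟨2, by ring⟩), hl]
    exact Nat.div_eq_of_eq_mul_left (by omega) (by ring)
  have hca : Commute (d ^ l) a := by
    have : a * d ^ l * a⁻¹ = d ^ l := by
      rw [← conj_pow, conj_mul_involutions ha hb, inv_pow, inv_eq_of_orderOf_eq_two hw]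
    exact (mul_inv_eq_iff_eq_mul.mp this).symm
  refine ⟨d ^ l, hw, ⟨(l : ℤ), zpow_natCast _ _⟩, hca, ?_⟩
  have : b = d * a := by rw [hd, mul_assoc, mul_self_of_orderOf_eq_two ha, mul_one]
  rw [this]
  exact (Commute.pow_self d l).mul_right hca

theorem commute_of_mem_zpowers {a x y : G} (h : Commute a x) (hy : y ∈ Subgroup.zpowers x) :
    Commute a y := by
  obtain ⟨n, rfl⟩ := hy
  exact h.zpow_right n

end Cfsg.Agent.H39
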