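import Cfsg.Prelude.Def_Involutions
import Cfsg.Agent.H39.Basic
import Cfsg.Agent.H39.Dihedral
import Mathlib.GroupTheory.GroupAction.Quotient

/-!
Elementary theory of strongly embedded subgroups: involutions fix exactly one coset, there is one
class of involutions, and exactly `#involutions of H` involutions interchange two given cosets.
-/

namespace Cfsg.Agent.H39

variable {G : Type*} [Group G] [Finite G] {H : Subgroup G}

theorem se_mem_of_conj (hH : Cfsg.IsStronglyEmbedded H) {t g : G} (ht : orderOf t = 2)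
    (htH : t ∈ H) (hg : g * t * g⁻¹ ∈ H) : g ∈ H := by
  by_contra hgH
  have hodd := hH.2.2 g hgH
  have hdvd := Subgroup.orderOf_dvd_natCard (H ⊓ H.map (MulAut.conj g).toMonoidHom)
    ⟨hg, conj_mem_map_conj htH⟩
  rw [orderOf_conj, ht, ← even_iff_two_dvd] at hdvd
  exact (Nat.not_even_iff_odd.mpr hodd) hdvd

theorem se_smul_mk_eq_iff {t g : G} :
    t • (QuotientGroup.mk g : G ⧸ H) = QuotientGroup.mk g ↔ g⁻¹ * t * g ∈ H := by
  rw [MulAction.Quotient.smul_mk, QuotientGroup.eq, smul_eq_mul]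
  constructor <;> intro h <;> have := H.inv_mem h <;> simpa [mul_assoc] using this

/-- An involution fixes at most one coset of a strongly embedded subgroup. -/
theorem se_fix_unique (hH : Cfsg.IsStronglyEmbedded H) {t : G} (ht : orderOf t = 2) {x y : G ⧸ H}
    (hx : t • x = x) (hy : t • y = y) : x = y := by
  induction x using QuotientGroup.induction_on with
  | _ a =>
  induction y using QuotientGroup.induction_on with
  | _ b =>
  rw [se_smul_mk_eq_iff] at hx hy
  apply QuotientGroup.eq.mpr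
  have h : (b⁻¹ * a) * (a⁻¹ * t * a) * (b⁻¹ * a)⁻¹ ∈ H := by simpa [mul_assoc] using hy
  have ho : orderOf (a⁻¹ * t * a) = 2 := by
    have := orderOf_conj a⁻¹ t
    rw [inv_inv] at this
    rw [this, ht]
  simpa using H.inv_mem (se_mem_of_conj hH ho hx h)

theorem se_exists_involution (hH : Cfsg.IsStronglyEmbedded H) : ∃ t : G, orderOf t = 2 ∧ t ∈ H := by
  obtain ⟨t, ht⟩ := exists_prime_orderOf_dvd_card' 2 (even_iff_two_dvd.mp hH.2.1)
  exact ⟨t.1, by rw [Subgroup.orderOf_coe, ht], t.2⟩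

/-- A strongly embedded subgroup contains a Sylow 2-subgroup. -/
theorem se_exists_sylow_le (hH : Cfsg.IsStronglyEmbedded H) :
    ∃ R : Sylow 2 G, (R : Subgroup G) ≤ H := by
  obtain ⟨P⟩ : Nonempty (Sylow 2 H) := inferInstance
  set Q : Subgroup G := (P : Subgroup H).map H.subtype with hQ
  have hQH : Q ≤ H := Subgroup.map_subtype_le _
  obtain ⟨R, hR⟩ := (P.2.map H.subtype).exists_le_sylow
  refine ⟨R, ?_⟩
  rcases eq_or_lt_of_le hR with heq | hlt
  · exact heq ▸ hQH
  exfalso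
  obtain ⟨x, hxR, hxQ, hxN⟩ := exists_mem_normalizer_not_mem R.2 hlt
  have hPne : (P : Subgroup H) ≠ ⊥ := P.ne_bot_of_dvd_card (even_iff_two_dvd.mp hH.2.1)
  have hQp : IsPGroup 2 Q := P.2.map H.subtype
  obtain ⟨k, hk⟩ := IsPGroup.iff_card.mp hQp
  have hk0 : k ≠ 0 := fun h => hPne (by
    rw [h, pow_zero, hQ, Subgroup.card_map_of_injective H.subtype_injective] at hk
    exact Subgroup.card_eq_one.mp hk)
  obtain ⟨t, ht⟩ := exists_prime_orderOf_dvd_card' 2 (hk ▸ dvd_pow_self 2 hk0)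
  have htH : (t : G) ∈ H := hQH t.2
  have hxH : x ∈ H := se_mem_of_conj hH (by rw [Subgroup.orderOf_coe, ht]) htH
    (hQH ((Subgroup.mem_normalizer_iff.mp hxN _).mp t.2))
  have hW : IsPGroup 2 (((R : Subgroup G) ⊓ H).subgroupOf H) :=
    (R.2.to_le inf_le_left).comap_subtype (K := H)
  have hmax := P.is_maximal' hW (fun y hy => ⟨hR ⟨y, hy, rfl⟩, y.2⟩)
  apply hxQ
  have : (⟨x, hxH⟩ : H) ∈ (P : Subgroup H) := by rw [← hmax]; exact ⟨hxR, hxH⟩
  exact ⟨⟨x, hxH⟩, this, rfl⟩

theorem se_exists_conj_mem (hH : Cfsg.IsStronglyEmbedded H) {u : G} (hu : orderOf u = 2) :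
    ∃ g : G, g⁻¹ * u * g ∈ H := by
  obtain ⟨R, hR⟩ := se_exists_sylow_le hH
  have hz : IsPGroup 2 (Subgroup.zpowers u) :=
    IsPGroup.of_card (n := 1) (by rw [Nat.card_zpowers, hu, pow_one])
  obtain ⟨x, hx⟩ := exists_conj_le_sylow hz R
  exact ⟨x⁻¹, by simpa using hR (hx u (Subgroup.mem_zpowers u))⟩

theorem se_exists_fix (hH : Cfsg.IsStronglyEmbedded H) {u : G} (hu : orderOf u = 2) :
    ∃ x : G ⧸ H, u • x = x := by
  obtain ⟨g, hg⟩ := se_exists_conj_mem hH hu
  exact ⟨QuotientGroup.mk g, se_smul_mk_eq_iff.mpr hg⟩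

/-- Two involutions fixing different cosets have product of odd order, so they are conjugate by
an involution interchanging the two cosets. -/
theorem se_exists_swap (hH : Cfsg.IsStronglyEmbedded H) {s u : G} (hs : orderOf s = 2)
    (hu : orderOf u = 2) {x y : G ⧸ H} (hxy : x ≠ y) (hsx : s • x = x) (huy : u • y = y) :
    ∃ w : G, orderOf w = 2 ∧ w • x = y ∧ w • y = x ∧ w * s * w⁻¹ = u := by
  rcases Nat.even_or_odd (orderOf (u * s)) with heven | hodd
  · exfalso
    obtain ⟨w, hw, -, hws, hwu⟩ := exists_central_involution hs hu heven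
    have hwx : w • x = x := se_fix_unique hH hs (by rw [← mul_smul, ← hws.eq, mul_smul, hsx]) hsx
    have hwy : w • y = y := se_fix_unique hH hu (by rw [← mul_smul, ← hwu.eq, mul_smul, huy]) huy
    exact hxy (se_fix_unique hH hw hwx hwy)
  obtain ⟨k, -, -, hkinv, hkc⟩ := exists_conj_of_odd hs hu hodd
  have hs2 := mul_self_of_orderOf_eq_two hs
  have hww : (k * s) * (k * s) = 1 := by
    rw [inv_eq_of_orderOf_eq_two hs] at hkinv
    calc (k * s) * (k * s) = k * (s * k * s) := by simp [mul_assoc]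
      _ = 1 := by rw [hkinv, mul_inv_cancel]
  have hkx : k • x = y := se_fix_unique hH hu (by
    rw [← hkc, ← mul_smul, inv_mul_cancel_right, mul_smul, hsx]) huy
  have hwx : (k * s) • x = y := by rw [mul_smul, hsx, hkx]
  refine ⟨k * s, orderOf_eq_two_of_mul_self hww fun h => hxy ?_, hwx, ?_, ?_⟩
  · rw [h, one_smul] at hwx; exact hwx
  · rw [← hwx, ← mul_smul, hww, one_smul]
  · rw [mul_inv_rev, inv_eq_of_orderOf_eq_two hs]
    calc k * s * s * (s * k⁻¹) = k * (s * s) * s * k⁻¹ := by simp [mul_assoc]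
      _ = u := by rw [hs2, mul_one, hkc]

theorem se_card_fix (x : G ⧸ H) :
    Nat.card {t : G // orderOf t = 2 ∧ t • x = x} = Nat.card {t : G // orderOf t = 2 ∧ t ∈ H} := by
  induction x using QuotientGroup.induction_on with
  | _ a =>
  refine Nat.card_congr ((MulAut.conj a⁻¹).toEquiv.subtypeEquiv fun t => ?_)
  simp only [se_smul_mk_eq_iff, MulEquiv.toEquiv_eq_coe, MulEquiv.coe_toEquiv, MulAut.conj_apply,
    inv_inv]
  have := orderOf_conj a⁻¹ t
  rw [inv_inv] at this
  rw [this]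

theorem se_card_fix_le_swap (hH : Cfsg.IsStronglyEmbedded H) (x y : G ⧸ H) :
    Nat.card {t : G // orderOf t = 2 ∧ t ∈ H} ≤ Nat.card {i : G // orderOf i = 2 ∧ i • x = y} := by
  by_cases hxy : x = y
  · subst hxy; rw [se_card_fix]
  obtain ⟨t₀, ht₀⟩ := se_exists_involution hH
  have : Nonempty {t : G // orderOf t = 2 ∧ t ∈ H} := ⟨⟨t₀, ht₀⟩⟩
  have hm : 0 < Nat.card {t : G // orderOf t = 2 ∧ t ∈ H} := Nat.card_pos
  choose w hw using fun (p : {t : G // orderOf t = 2 ∧ t • x = x} ×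
      {t : G // orderOf t = 2 ∧ t • y = y}) =>
    se_exists_swap hH p.1.2.1 p.2.2.1 hxy p.1.2.2 p.2.2.2
  let f : {t : G // orderOf t = 2 ∧ t • x = x} × {t : G // orderOf t = 2 ∧ t • y = y} →
      {i : G // orderOf i = 2 ∧ i • x = y} × {t : G // orderOf t = 2 ∧ t • y = y} :=
    fun p => (⟨w p, (hw p).1, (hw p).2.1⟩, p.2)
  have hf : Function.Injective f := by
    intro p q h
    simp only [f, Prod.mk.injEq, Subtype.mk.injEq] at h
    refine Prod.ext (Subtype.ext ?_) h.2
    have h1 := (hw p).2.2.2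
    rw [h.1, h.2, ← (hw q).2.2.2] at h1
    exact mul_left_cancel (mul_right_cancel h1)
  have hle := Nat.card_le_card_of_injective f hf
  rw [Nat.card_prod, Nat.card_prod, se_card_fix, se_card_fix] at hle
  exact Nat.le_of_mul_le_mul_right hle hm

/-- Exactly as many involutions map a coset to another one as there are involutions in `H`. -/
theorem se_card_swap (hH : Cfsg.IsStronglyEmbedded H) (x y : G ⧸ H) :
    Nat.card {i : G // orderOf i = 2 ∧ i • x = y} = Nat.card {t : G // orderOf t = 2 ∧ t ∈ H} := by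
  classical
  have := Fintype.ofFinite G
  have := Fintype.ofFinite (G ⧸ H)
  choose p hp using fun (u : {t : G // orderOf t = 2}) => se_exists_fix hH u.2
  let e₁ : {t : G // orderOf t = 2} ≃ Σ y : G ⧸ H, {i : G // orderOf i = 2 ∧ i • x = y} :=
    { toFun := fun u => ⟨u.1 • x, u.1, u.2, rfl⟩
      invFun := fun q => ⟨q.2.1, q.2.2.1⟩
      left_inv := fun u => rfl
      right_inv := fun ⟨y, i, hi, hiy⟩ => by subst hiy; rfl }
  let e₂ : {t : G // orderOf t = 2} ≃ Σ y : G ⧸ H, {i : G // orderOf i = 2 ∧ i • y = y} :=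
    { toFun := fun u => ⟨p u, u.1, u.2, hp u⟩
      invFun := fun q => ⟨q.2.1, q.2.2.1⟩
      left_inv := fun u => rfl
      right_inv := fun ⟨y, i, hi, hiy⟩ => by
        obtain rfl : p ⟨i, hi⟩ = y := se_fix_unique hH hi (hp ⟨i, hi⟩) hiy
        rfl }
  have hsum := Nat.card_congr (e₁.symm.trans e₂)
  rw [Nat.card_sigma, Nat.card_sigma] at hsum
  simp only [se_card_fix] at hsum
  exact ((Finset.sum_eq_sum_iff_of_le fun y _ => se_card_fix_le_swap hH x y).mp hsum.symm y
    (Finset.mem_univ y)).symm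

/-- `H ∩ uHu⁻¹` is transitive on the involutions of `H`. -/
theorem se_transitive (hH : Cfsg.IsStronglyEmbedded H) {u : G} (huH : u ∉ H) {s t : G}
    (hs : orderOf s = 2) (hsH : s ∈ H) (ht : orderOf t = 2) (htH : t ∈ H) :
    ∃ d ∈ (H ⊓ H.map (MulAut.conj u).toMonoidHom), d * s * d⁻¹ = t := by
  set x : G ⧸ H := QuotientGroup.mk 1 with hx
  set y : G ⧸ H := QuotientGroup.mk u with hy
  have hxy : x ≠ y := fun h => huH (by simpa using QuotientGroup.eq.mp h)
  have hfix : ∀ a ∈ H, a • x = x := fun a ha => se_smul_mk_eq_iff.mpr (by simpa using ha)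
  have ho : orderOf (u * s * u⁻¹) = 2 := by rw [orderOf_conj, hs]
  have hu1 : (u * s * u⁻¹) • y = y := se_smul_mk_eq_iff.mpr (by simpa [mul_assoc] using hsH)
  obtain ⟨w, hw, hwx, hwy, hwc⟩ := se_exists_swap hH hs ho hxy (hfix s hsH) hu1
  obtain ⟨w', hw', hw'x, hw'y, hw'c⟩ := se_exists_swap hH ht ho hxy (hfix t htH) hu1
  refine ⟨w'⁻¹ * w, ?_, ?_⟩
  · have h1 : (w'⁻¹ * w) • x = x := by rw [mul_smul, hwx, inv_smul_eq_iff, hw'x]
    have h2 : (w'⁻¹ * w) • y = y := by rw [mul_smul, hwy, inv_smul_eq_iff, hw'y]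
    refine ⟨by simpa using se_smul_mk_eq_iff.mp h1, mem_map_conj.mpr (se_smul_mk_eq_iff.mp h2)⟩
  · calc w'⁻¹ * w * s * (w'⁻¹ * w)⁻¹ = w'⁻¹ * (w * s * w⁻¹) * w' := by simp [mul_assoc]
      _ = t := by rw [hwc, ← hw'c]; simp [mul_assoc]

theorem se_involutions_conj (hH : Cfsg.IsStronglyEmbedded H) {a b : G} (ha : orderOf a = 2)
    (hb : orderOf b = 2) : IsConj a b := by
  obtain ⟨g, hg⟩ := se_exists_conj_mem hH ha
  obtain ⟨g', hg'⟩ := se_exists_conj_mem hH hb
  obtain ⟨u, huH⟩ : ∃ u : G, u ∉ H := by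
    by_contra h
    push Not at h
    exact hH.1 (eq_top_iff.mpr fun x _ => h x)
  have hoa := orderOf_conj g⁻¹ a
  have hob := orderOf_conj g'⁻¹ b
  rw [inv_inv] at hoa hob
  obtain ⟨d, -, hd⟩ := se_transitive hH huH (hoa.trans ha) hg (hob.trans hb) hg'
  refine isConj_iff.mpr ⟨g' * d * g⁻¹, ?_⟩
  have := congrArg (fun y => g' * y * g'⁻¹) hd
  simpa [mul_assoc] using this

end Cfsg.Agent.H39
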