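import Mathlib.GroupTheory.Perm.Basic
import Mathlib.GroupTheory.PGroup
import Mathlib.GroupTheory.SpecificGroups.Cyclic
import Mathlib.Algebra.Group.End
import Mathlib.Algebra.Ring.GeomSum
import Mathlib.RingTheory.Coprime.Lemmas
import Mathlib.Data.ZMod.Basic
import Mathlib.GroupTheory.OrderOfElement

/-!
Automorphisms of odd order of a 2-group: small criteria for fixing elements.
-/

namespace Cfsg.Agent.H39

variable {X : Type*} [Group X]

/-- In a finite cyclic subgroup, an element is in the subgroup generated by any other element of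
the same order. -/
theorem mem_zpowers_of_orderOf_eq [Finite X] {w k k' : X} (hk : k ∈ Subgroup.zpowers w)
    (hk' : k' ∈ Subgroup.zpowers w) (ho : orderOf k' = orderOf k) : k' ∈ Subgroup.zpowers k := by
  classical
  have := Fintype.ofFinite X
  let s : Finset (Subgroup.zpowers w) := Finset.univ.filter fun v => v ^ orderOf k = 1
  let t : Finset (Subgroup.zpowers w) :=
    Finset.univ.filter fun v => (v : X) ∈ Subgroup.zpowers k
  have hts : t ⊆ s := by
    intro v hv
    simp only [t, s, Finset.mem_filter, Finset.mem_univ, true_and] at hv ⊢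
    apply Subtype.ext
    rw [Subgroup.coe_pow, Subgroup.coe_one]
    exact orderOf_dvd_iff_pow_eq_one.mp (orderOf_dvd_of_mem_zpowers hv)
  have hs : s.card ≤ orderOf k := IsCyclic.card_pow_eq_one_le (orderOf_pos k)
  have ht : t.card = orderOf k := by
    rw [← Fintype.card_subtype, ← Nat.card_eq_fintype_card, ← Nat.card_zpowers]
    refine Nat.card_congr
      { toFun := fun v => ⟨v.1, v.2⟩
        invFun := fun v => ⟨⟨v.1, ?_⟩, v.2⟩
        left_inv := fun v => rfl
        right_inv := fun v => rfl }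
    exact (Subgroup.zpowers_le.mpr hk) v.2
  have hmem : (⟨k', hk'⟩ : Subgroup.zpowers w) ∈ t := by
    rw [Finset.eq_of_subset_of_card_le hts (by omega)]
    simp only [s, Finset.mem_filter, Finset.mem_univ, true_and]
    apply Subtype.ext
    rw [Subgroup.coe_pow, Subgroup.coe_one, ← ho, pow_orderOf_eq_one]
  simpa [t] using hmem

theorem mulAut_pow_apply (φ : MulAut X) (r : ℕ) (a : X) : (φ ^ r) a = (fun b => φ b)^[r] a := by
  induction r with
  | zero => rfl
  | succ r ih => rw [pow_succ', MulAut.mul_apply, ih, Function.iterate_succ_apply']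

theorem fix_step (hX : IsPGroup 2 X) {φ : MulAut X} (hφ : Odd (orderOf φ)) {u : X}
    (hk : φ (φ u * u⁻¹) = φ u * u⁻¹) : φ u = u := by
  set k := φ u * u⁻¹ with hkdef
  have hu : φ u = k * u := by rw [hkdef, inv_mul_cancel_right]
  have hi : ∀ i : ℕ, (φ ^ i) u = k ^ i * u := by
    intro i
    induction i with
    | zero => simp
    | succ i ih => rw [pow_succ', MulAut.mul_apply, ih, map_mul, map_pow, hk, hu, ← mul_assoc,
        ← pow_succ]
  have h1 := hi (orderOf φ)
  rw [pow_orderOf_eq_one, MulAut.one_apply] at h1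
  have h2 : k ^ orderOf φ = 1 := by simpa using h1.symm
  obtain ⟨j, hj⟩ := hX k
  have h3 : k = 1 := by
    rw [← orderOf_eq_one_iff]
    refine Nat.eq_one_of_dvd_coprimes ?_ (orderOf_dvd_of_pow_eq_one hj)
      (orderOf_dvd_of_pow_eq_one h2)
    exact Nat.Coprime.pow_left _ hφ.coprime_two_left
  rw [hu, h3, one_mul]

theorem fix_cyclic (hX : IsPGroup 2 X) {φ : MulAut X} (hφ : Odd (orderOf φ)) {u : X}
    (hu : φ u ∈ Subgroup.zpowers u) : φ u = u := by
  obtain ⟨i, hi⟩ := hu
  have hi' : φ u = u ^ i := hi.symm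
  have hp : ∀ r : ℕ, (φ ^ r) u = u ^ (i ^ r) := by
    intro r
    induction r with
    | zero => simp
    | succ r ih =>
      rw [pow_succ', MulAut.mul_apply, ih, map_zpow, hi', ← zpow_mul, ← pow_succ']
  have h1 := hp (orderOf φ)
  rw [pow_orderOf_eq_one, MulAut.one_apply] at h1
  have h2 : (orderOf u : ℤ) ∣ i ^ orderOf φ - 1 := by
    rw [orderOf_dvd_iff_zpow_eq_one, zpow_sub, zpow_one, ← h1, mul_inv_cancel]
  obtain ⟨j, hj⟩ := hX u
  obtain ⟨k, -, hk⟩ := (Nat.dvd_prime_pow Nat.prime_two).mp (orderOf_dvd_of_pow_eq_one hj)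
  rw [hi']
  rcases k with _ | k
  · rw [pow_zero, orderOf_eq_one_iff] at hk
    simp [hk]
  have hdvd2 : (2 : ℤ) ∣ i ^ orderOf φ - 1 :=
    dvd_trans ⟨2 ^ k, by rw [hk]; push_cast; ring⟩ h2
  have hodd : Odd i := by
    by_contra he
    rw [Int.not_odd_iff_even] at he
    have : (2 : ℤ) ∣ i ^ orderOf φ := dvd_pow he.two_dvd hφ.pos.ne'
    exact absurd ((dvd_sub_right this).mp hdvd2) (by norm_num)
  have hs : ¬ (2 : ℤ) ∣ ∑ l ∈ Finset.range (orderOf φ), i ^ l := by
    intro h
    have h0 := (ZMod.intCast_zmod_eq_zero_iff_dvd _ 2).mpr h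
    have hi1 : (i : ZMod 2) = 1 := ZMod.intCast_eq_one_iff_odd.mpr hodd
    push_cast at h0
    simp only [hi1, one_pow, Finset.sum_const, Finset.card_range, nsmul_eq_mul, mul_one] at h0
    rw [ZMod.natCast_eq_zero_iff_even] at h0
    exact (Nat.not_even_iff_odd.mpr hφ) h0
  rw [← geom_sum_mul, hk] at h2
  have h4 : ((2 ^ (k + 1) : ℕ) : ℤ) ∣ i - 1 := by
    push_cast at h2 ⊢
    obtain ⟨a, ha⟩ := Int.not_even_iff_odd.mp (mt Even.two_dvd hs)
    exact (IsCoprime.pow_left (⟨-a, 1, by rw [ha]; ring⟩ : IsCoprime (2 : ℤ) _)).dvd_of_dvd_mul_left h2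
  rw [← hk, orderOf_dvd_iff_zpow_eq_one, zpow_sub, zpow_one] at h4
  exact mul_inv_eq_one.mp h4

theorem fix_pair {φ : MulAut X} (hφ : Odd (orderOf φ)) {u v : X} (hu : φ u = u ∨ φ u = v)
    (hv : φ v = u ∨ φ v = v) : φ u = u := by
  rcases hu with e | e
  · exact e
  rcases hv with e' | e'
  · have hp : ∀ i : ℕ, (φ ^ (2 * i)) u = u := by
      intro i
      induction i with
      | zero => simp
      | succ i ih =>
        rw [mul_add, pow_add, MulAut.mul_apply, show 2 * 1 = 2 from rfl, pow_two,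
          MulAut.mul_apply, e, e', ih]
    obtain ⟨i, hi⟩ := hφ
    have h1 : (φ ^ orderOf φ) u = u := by rw [pow_orderOf_eq_one]; rfl
    rwa [hi, pow_succ', MulAut.mul_apply, hp] at h1
  · rw [φ.injective (e.trans e'.symm), e']

theorem isPGroup_mulAut [Finite X] (h : ∀ φ : MulAut X, Odd (orderOf φ) → φ = 1) :
    IsPGroup 2 (MulAut X) := by
  intro φ
  obtain ⟨k, l, hl, hkl⟩ := Nat.exists_eq_pow_mul_and_not_dvd (orderOf_pos φ).ne' 2 (by norm_num)
  refine ⟨k, h _ ?_⟩
  rw [orderOf_pow' φ (pow_ne_zero k two_ne_zero), hkl, Nat.gcd_mul_right_left,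
    Nat.mul_div_cancel_left _ (by positivity)]
  exact Nat.not_even_iff_odd.mp fun he => hl he.two_dvd

end Cfsg.Agent.H39
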