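import Cfsg.Agent.H39.SemiDihedral
import Mathlib.GroupTheory.SpecificGroups.KleinFour
import Mathlib.GroupTheory.SpecificGroups.Quaternion

/-!
Four-subgroups and quaternion subgroups of order 8 of a quasi-dihedral group.
-/

namespace Cfsg.Agent.H39

variable {S : Type*} [Group S]

theorem quaternion_facts :
    (∀ g : QuaternionGroup 2, g ^ 4 = 1) ∧
    (∀ g : QuaternionGroup 2, g * g = 1 → g = 1 ∨ g = QuaternionGroup.a 2) := by
  constructor <;> decide

theorem klein_mul_self {T : Subgroup S} (hT : IsKleinFour T) {t : S} (ht : t ∈ T) : t * t = 1 := by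
  have := hT
  exact congrArg Subtype.val (IsKleinFour.mul_self (⟨t, ht⟩ : T))

namespace SDGen

variable [Finite S] {m : ℕ} {x y : S} (h : SDGen m x y)
include h

theorem klein_char {T : Subgroup S} (hT : IsKleinFour T) :
    ∃ k : ℤ, ∀ g : S, g ∈ T ↔ g = 1 ∨ g = x ^ (4 * 2 ^ m : ℤ) ∨ g = x ^ (2 * k) * y ∨
      g = x ^ (4 * 2 ^ m : ℤ) * (x ^ (2 * k) * y) := by
  classical
  set z := x ^ (4 * 2 ^ m : ℤ) with hz
  have hord : ∀ t ∈ T, t ≠ 1 → t = z ∨ ∃ k : ℤ, t = x ^ (2 * k) * y := fun t ht h1 =>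
    h.mem_ord_two t (orderOf_eq_two_of_mul_self (klein_mul_self hT ht) h1)
  have hc : Nat.card T = 4 := hT.card_four
  -- an element outside the cyclic subgroup
  obtain ⟨a, ha, k, rfl⟩ : ∃ a ∈ T, ∃ k : ℤ, a = x ^ (2 * k) * y := by
    by_contra hcon
    push Not at hcon
    have hsub : (T : Set S) ⊆ ({1, z} : Set S) := fun t ht => by
      by_cases h1 : t = 1
      · exact Or.inl h1
      · rcases hord t ht h1 with e | ⟨k, e⟩
        · exact Or.inr e
        · exact absurd e (hcon t ht k)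
    have := Set.ncard_le_ncard hsub
    rw [← Nat.card_coe_set_eq, show Nat.card (T : Set S) = 4 from hc] at this
    have := this.trans (Set.ncard_insert_le _ _)
    simp at this
  set a := x ^ (2 * k) * y with hadef
  have haa : a * a = 1 := mul_self_of_orderOf_eq_two (h.orderOf_out_even k)
  have hzT : z ∈ T := by
    by_contra hzT
    have hsub : (T : Set S) ⊆ ({1, a} : Set S) := fun t ht => by
      by_cases h1 : t = 1
      · exact Or.inl h1
      rcases hord t ht h1 with e | ⟨l, e⟩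
      · exact absurd (e ▸ ht) hzT
      refine Or.inr ?_
      by_contra hta
      have hta' : t ≠ a := hta
      have hmem : t * a ∈ T := mul_mem ht ha
      have hne : t * a ≠ 1 := fun e1 => hta' (by
        calc t = t * a * a := by rw [mul_assoc, haa, mul_one]
          _ = a := by rw [e1, one_mul])
      rcases hord _ hmem hne with e1 | ⟨p, e1⟩
      · exact hzT (e1 ▸ hmem)
      · rw [e, hadef, h.out_mul_out] at e1
        exact h.out_ne_in _ _ e1.symm
    have := Set.ncard_le_ncard hsub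
    rw [← Nat.card_coe_set_eq, show Nat.card (T : Set S) = 4 from hc] at this
    have := this.trans (Set.ncard_insert_le _ _)
    simp at this
  refine ⟨k, fun g => ?_⟩
  constructor
  · intro hg
    by_cases h1 : g = 1
    · exact Or.inl h1
    rcases hord g hg h1 with e | ⟨l, e⟩
    · exact Or.inr (Or.inl e)
    right; right
    by_cases hga : g = a
    · exact Or.inl hga
    right
    have hne : g * a ≠ 1 := fun e1 => hga (by
      calc g = g * a * a := by rw [mul_assoc, haa, mul_one]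
        _ = a := by rw [e1, one_mul])
    rcases hord _ (mul_mem hg ha) hne with e1 | ⟨p, e1⟩
    · rw [← e1, mul_assoc, haa, mul_one]
    · rw [e, hadef, h.out_mul_out] at e1
      exact absurd e1.symm (h.out_ne_in _ _)
  · rintro (rfl | rfl | rfl | rfl)
    · exact T.one_mem
    · exact hzT
    · exact ha
    · exact mul_mem hzT ha

theorem klein_conj {T₁ T₂ : Subgroup S} (h₁ : IsKleinFour T₁) (h₂ : IsKleinFour T₂) :
    ∃ s : S, T₁.map (MulAut.conj s).toMonoidHom = T₂ := by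
  obtain ⟨k₁, hk₁⟩ := h.klein_char h₁
  obtain ⟨k₂, hk₂⟩ := h.klein_char h₂
  obtain ⟨s, hs⟩ := isConj_iff.mp (h.isConj_out_of_dvd (2 * k₂) (k₁ - k₂))
  rw [show 2 * k₂ + 2 * (k₁ - k₂) = 2 * k₁ by ring] at hs
  refine ⟨s, Subgroup.eq_of_le_of_card_ge ?_ ?_⟩
  · rintro _ ⟨t, ht, rfl⟩
    show s * t * s⁻¹ ∈ T₂
    rw [hk₂]
    have hzc : s * x ^ (4 * 2 ^ m : ℤ) * s⁻¹ = x ^ (4 * 2 ^ m : ℤ) := by
      rw [h.z_central, mul_inv_cancel_right]
    rcases (hk₁ t).mp ht with rfl | rfl | rfl | rfl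
    · left; simp
    · exact Or.inr (Or.inl hzc)
    · exact Or.inr (Or.inr (Or.inl hs))
    · exact Or.inr (Or.inr (Or.inr (by rw [← conj_mul, hzc, hs])))
  · rw [card_map_conj, h₁.card_four, h₂.card_four]

theorem klein_centralizer {T : Subgroup S} (hT : IsKleinFour T) :
    Subgroup.centralizer (T : Set S) = T := by
  obtain ⟨k, hk⟩ := h.klein_char hT
  set a := x ^ (2 * k) * y with hadef
  have ha : a ∈ T := (hk a).mpr (Or.inr (Or.inr (Or.inl rfl)))
  refine le_antisymm (fun g hg => ?_) (fun g hg => Subgroup.mem_centralizer_iff.mpr fun t ht => ?_)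
  · have hga : a * g = g * a := Subgroup.mem_centralizer_iff.mp hg a ha
    rcases h.cases_elem g with ⟨j, rfl⟩ | ⟨j, rfl⟩
    · rw [hk]
      rcases h.commute_out_in (i := 2 * k) (j := j)
        (by rw [← hadef, ← hga, mul_inv_cancel_right]) with e | e
      · exact Or.inl e
      · exact Or.inr (Or.inl e)
    · obtain ⟨l, hl⟩ : ∃ l : ℤ, x ^ j * y * a = x ^ l := ⟨_, h.out_mul_out j (2 * k)⟩
      have hla : a * x ^ l = x ^ l * a := by
        rw [← hl, ← mul_assoc, hga]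
      have hmem : x ^ l ∈ T := by
        rw [hk]
        rcases h.commute_out_in (i := 2 * k) (j := l)
          (by rw [← hadef, ← hla, mul_inv_cancel_right]) with e | e
        · exact Or.inl e
        · exact Or.inr (Or.inl e)
      rw [← hl] at hmem
      exact (T.mul_mem_cancel_right ha).mp hmem
  · have := hT
    exact congrArg Subtype.val (mul_comm_of_exponent_two IsKleinFour.exponent_two ⟨t, ht⟩ ⟨g, hg⟩)

theorem klein_relIndex {T : Subgroup S} (hT : IsKleinFour T) :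
    T.relIndex (Subgroup.normalizer (T : Set S)) = 2 := by
  obtain ⟨k, hk⟩ := h.klein_char hT
  set a := x ^ (2 * k) * y with hadef
  set z := x ^ (4 * 2 ^ m : ℤ) with hz
  set w := x ^ (2 * 2 ^ m : ℤ) with hw
  have ha : a ∈ T := (hk a).mpr (Or.inr (Or.inr (Or.inl rfl)))
  have hzT : z ∈ T := (hk z).mpr (Or.inr (Or.inl rfl))
  have hwa : w * a * w⁻¹ = z * a := by
    rw [hw, hadef, hz, h.conj_out, in_mul_out, h.out_eq_out]
    exact ⟨-(2 ^ m), by ring⟩
  have hzz : z * z = 1 := mul_self_of_orderOf_eq_two h.orderOf_z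
  have hzc : ∀ g : S, g * z * g⁻¹ = z := fun g => by rw [h.z_central, mul_inv_cancel_right]
  have hwN : w ∈ Subgroup.normalizer (T : Set S) := mem_normalizer_of_conj_mem fun t ht => by
    rcases (hk t).mp ht with rfl | rfl | rfl | rfl
    · simp
    · rw [hzc]; exact hzT
    · rw [hwa]; exact mul_mem hzT ha
    · rw [← conj_mul, hzc, hwa]; exact mul_mem hzT (mul_mem hzT ha)
  have hcent : ∀ b : S, b * a * b⁻¹ = a → b ∈ T := fun b hb => by
    rw [← h.klein_centralizer hT, Subgroup.mem_centralizer_iff]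
    intro t ht
    have e : b * t * b⁻¹ = t := by
      rcases (hk t).mp ht with rfl | rfl | rfl | rfl
      · simp
      · exact hzc b
      · exact hb
      · rw [← conj_mul, hzc, hb]
    exact (mul_inv_eq_iff_eq_mul.mp e).symm
  have hwT : w ∉ T := fun hmem => by
    have e : w * a * w⁻¹ = a := by
      rw [← h.klein_centralizer hT, Subgroup.mem_centralizer_iff] at hmem
      rw [← hmem a ha, mul_inv_cancel_right]
    rw [hwa] at e
    exact ne_one_of_orderOf_eq_two h.orderOf_z (mul_eq_right.mp e)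
  have hww : w * w = z := by rw [hw, hz, ← zpow_add]; congr 1; ring
  rw [Subgroup.relIndex, Subgroup.index_eq_two_iff]
  refine ⟨⟨w, hwN⟩, fun b => ?_⟩
  simp only [Subgroup.mem_subgroupOf, Subgroup.coe_mul]
  have hbn := b.2
  rw [Subgroup.mem_normalizer_iff] at hbn
  rcases (hk _).mp ((hbn a).mp ha) with e | e | e | e
  · exact absurd (conj_eq_one_iff.mp e) fun e1 => h.out_ne_in (2 * k) 0 (by rw [zpow_zero]; exact e1)
  · exfalso
    have : a = (b : S)⁻¹ * z * (b : S)⁻¹⁻¹ := by rw [← e]; simp [mul_assoc]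
    rw [hzc] at this
    exact h.out_ne_in _ _ this
  · exact Or.inr ⟨hcent _ e, fun e1 => hwT ((T.mul_mem_cancel_left (hcent _ e)).mp e1)⟩
  · have hb1 : w⁻¹ * (b : S) ∈ T := hcent _ (by
      calc w⁻¹ * (b : S) * a * (w⁻¹ * (b : S))⁻¹ = w⁻¹ * ((b : S) * a * (b : S)⁻¹) * w := by
            simp [mul_assoc]
        _ = a := by rw [e, ← hwa]; simp [mul_assoc])
    have hb2 : (b : S) * w = (w * (w⁻¹ * (b : S)) * w⁻¹) * (w * w) := by simp [mul_assoc]
    refine Or.inl ⟨?_, fun hbT => ?_⟩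
    · rw [hb2, hww]
      exact mul_mem ((Subgroup.mem_normalizer_iff.mp hwN _).mp hb1) hzT
    · exact hwT (by simpa using mul_mem hbT (inv_mem hb1))

theorem quat_char {Q : Subgroup S} (e : Q ≃* QuaternionGroup 2) :
    ∃ i : ℤ, ∀ g : S, g ∈ Q ↔ ∃ k : ℤ, g = x ^ (2 * 2 ^ m * k : ℤ) ∨
      g = x ^ (2 * 2 ^ m * k : ℤ) * (x ^ (2 * i + 1) * y) := by
  classical
  set w := x ^ (2 * 2 ^ m : ℤ) with hw
  have hcard : Nat.card Q = 8 := by
    rw [Nat.card_congr e.toEquiv, Nat.card_eq_fintype_card]; rfl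
  have h4 : ∀ g ∈ Q, g ^ 4 = 1 := fun g hg => by
    have := quaternion_facts.1 (e ⟨g, hg⟩)
    rw [← map_pow, ← map_one e] at this
    exact congrArg Subtype.val (e.injective this)
  have hinv2 : ∀ a b : S, a ∈ Q → b ∈ Q → orderOf a = 2 → orderOf b = 2 → a = b := by
    intro a b ha hb hoa hob
    have key : ∀ c : S, ∀ hc : c ∈ Q, orderOf c = 2 → e ⟨c, hc⟩ = QuaternionGroup.a 2 := by
      intro c hc hoc
      refine (quaternion_facts.2 _ ?_).resolve_left fun e1 => ?_
      · rw [← map_mul, ← map_one e]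
        exact congrArg e (Subtype.ext (mul_self_of_orderOf_eq_two hoc))
      · rw [← map_one e] at e1
        exact ne_one_of_orderOf_eq_two hoc (congrArg Subtype.val (e.injective e1))
    exact congrArg Subtype.val (e.injective ((key a ha hoa).trans (key b hb hob).symm))
  -- powers of `x` in `Q` are powers of `w`
  have hin : ∀ j : ℤ, x ^ j ∈ Q → x ^ j ∈ ({1, w, w * w, w⁻¹} : Finset S) := by
    intro j hj
    have := h4 _ hj
    rw [← zpow_natCast, ← zpow_mul, ← zpow_zero x, h.zpow_eq] at this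
    obtain ⟨c, hc⟩ := this
    have hjc : j = 2 * 2 ^ m * c := by push_cast at hc; linarith
    simp only [Finset.mem_insert, Finset.mem_singleton, hw, ← zpow_add, ← zpow_neg, ← zpow_zero x,
      h.zpow_eq, hjc]
    rcases Int.even_or_odd c with ⟨d, hd⟩ | ⟨d, hd⟩ <;> rcases Int.even_or_odd d with ⟨f, hf⟩ | ⟨f, hf⟩ <;>
      subst hd hf
    · exact Or.inl ⟨f, by ring⟩
    · exact Or.inr (Or.inr (Or.inl ⟨f, by ring⟩))
    · exact Or.inr (Or.inl ⟨f, by ring⟩)
    · exact Or.inr (Or.inr (Or.inr ⟨f + 1, by ring⟩))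
  -- an element outside, necessarily of order four
  obtain ⟨b, hb, hbx⟩ : ∃ b ∈ Q, ∀ j : ℤ, b ≠ x ^ j := by
    by_contra hcon
    push Not at hcon
    have hsub : (Q : Set S) ⊆ (({1, w, w * w, w⁻¹} : Finset S) : Set S) := fun g hg => by
      obtain ⟨j, rfl⟩ := hcon g hg
      exact Finset.mem_coe.mpr (hin j hg)
    have h1 := Set.ncard_le_ncard hsub
    rw [← Nat.card_coe_set_eq, show Nat.card (Q : Set S) = 8 from hcard, Set.ncard_coe_finset] at h1
    have := h1.trans (Finset.card_le_four (a := 1) (b := w) (c := w * w) (d := w⁻¹))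
    omega
  obtain ⟨p, rfl⟩ : ∃ p : ℤ, b = x ^ p * y := (h.cases_elem b).resolve_left fun ⟨j, e⟩ => hbx j e
  set b := x ^ p * y with hbdef
  have hbq : b * b ∈ Q := mul_mem hb hb
  have hsub2 : (Q : Set S) ⊆ (({1, w, w * w, w⁻¹} : Finset S) : Set S) ∪
      (fun s => s * b) '' (({1, w, w * w, w⁻¹} : Finset S) : Set S) := by
    intro g hg
    rcases h.cases_elem g with ⟨j, rfl⟩ | ⟨j, rfl⟩
    · exact Or.inl (Finset.mem_coe.mpr (hin j hg))
    · refine Or.inr ⟨x ^ j * y * b⁻¹, ?_, inv_mul_cancel_right _ _⟩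
      have hmem : x ^ j * y * b⁻¹ ∈ Q := mul_mem hg (inv_mem hb)
      rw [hbdef, h.out_inv, h.out_mul_out] at hmem ⊢
      exact Finset.mem_coe.mpr (hin _ hmem)
  have hfour : (({1, w, w * w, w⁻¹} : Finset S) : Set S).ncard ≤ 4 := by
    rw [Set.ncard_coe_finset]; exact Finset.card_le_four
  have hun : ((({1, w, w * w, w⁻¹} : Finset S) : Set S) ∪
      (fun s => s * b) '' (({1, w, w * w, w⁻¹} : Finset S) : Set S)).ncard ≤ 8 :=
    (Set.ncard_union_le _ _).trans (by
      have := Set.ncard_image_le (f := fun s => s * b) (s := (({1, w, w * w, w⁻¹} : Finset S) : Set S))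
      omega)
  have hQ := Set.eq_of_subset_of_ncard_le hsub2 (by
    rw [← Nat.card_coe_set_eq (Q : Set S), show Nat.card (Q : Set S) = 8 from hcard]; exact hun)
  have hwQ : w ∈ Q := by rw [← SetLike.mem_coe, hQ]; exact Or.inl (by simp)
  have hwk : ∀ k : ℤ, x ^ (2 * 2 ^ m * k : ℤ) ∈ Q := fun k => by
    rw [zpow_mul]; exact Q.zpow_mem hwQ k
  obtain ⟨i, hpi⟩ : ∃ i : ℤ, p = 2 * i + 1 := by
    rcases Int.even_or_odd p with ⟨i, hi⟩ | hodd
    · exfalso
      have ho : orderOf b = 2 := by rw [hbdef, hi, ← two_mul]; exact h.orderOf_out_even i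
      refine h.out_ne_in p (4 * 2 ^ m) (hinv2 _ _ hb ?_ ho h.orderOf_z)
      rw [show (4 * 2 ^ m : ℤ) = 2 * 2 ^ m * 2 by ring]
      exact hwk 2
    · exact hodd
  refine ⟨i, fun g => ⟨fun hg => ?_, ?_⟩⟩
  · rw [← SetLike.mem_coe, hQ] at hg
    have hpow : ∀ s : S, s ∈ ({1, w, w * w, w⁻¹} : Finset S) → ∃ k : ℤ, s = x ^ (2 * 2 ^ m * k : ℤ) := by
      intro s hs
      simp only [Finset.mem_insert, Finset.mem_singleton] at hs
      rcases hs with rfl | rfl | rfl | rfl
      · exact ⟨0, by simp⟩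
      · exact ⟨1, by rw [mul_one]⟩
      · exact ⟨2, by rw [hw, ← zpow_add]; congr 1; ring⟩
      · exact ⟨-1, by rw [hw, ← zpow_neg]; congr 1; ring⟩
    rcases hg with hg | ⟨s, hs, rfl⟩
    · obtain ⟨k, hk⟩ := hpow g (Finset.mem_coe.mp hg); exact ⟨k, Or.inl hk⟩
    · obtain ⟨k, hk⟩ := hpow s (Finset.mem_coe.mp hs)
      exact ⟨k, Or.inr (by rw [hk, hbdef, hpi])⟩
  · rintro ⟨k, rfl | rfl⟩
    · exact hwk k
    · rw [← hpi]; exact mul_mem (hwk k) hb

theorem quat_conj {Q₁ Q₂ : Subgroup S} (e₁ : Q₁ ≃* QuaternionGroup 2) (e₂ : Q₂ ≃* QuaternionGroup 2) :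
    ∃ s : S, Q₁.map (MulAut.conj s).toMonoidHom = Q₂ := by
  obtain ⟨i₁, hi₁⟩ := h.quat_char e₁
  obtain ⟨i₂, hi₂⟩ := h.quat_char e₂
  refine ⟨x ^ ((i₂ - i₁) * (1 + 2 * 2 ^ m)), Subgroup.eq_of_le_of_card_ge ?_ ?_⟩
  · rintro _ ⟨t, ht, rfl⟩
    simp only [MulEquiv.coe_toMonoidHom, MulAut.conj_apply]
    rw [hi₂]
    obtain ⟨k, rfl | rfl⟩ := (hi₁ t).mp ht
    · exact ⟨k, Or.inl (by rw [((Commute.refl x).zpow_zpow _ _).eq, mul_inv_cancel_right])⟩
    · refine ⟨k, Or.inr ?_⟩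
      rw [in_mul_out (2 * 2 ^ m * k), h.conj_out, in_mul_out, h.out_eq_out]
      exact ⟨-(2 ^ m * (i₂ - i₁)), by ring⟩
  · rw [card_map_conj, Nat.card_congr e₁.toEquiv, Nat.card_congr e₂.toEquiv]

theorem quat_centralizer {Q : Subgroup S} (e : Q ≃* QuaternionGroup 2) :
    Subgroup.centralizer (Q : Set S) = (Subgroup.center Q).map Q.subtype := by
  obtain ⟨i, hi⟩ := h.quat_char e
  refine le_antisymm (fun g hg => ?_) ?_
  · have hgQ : g ∈ Q := by
      rw [Subgroup.mem_centralizer_iff] at hg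
      have hw := hg _ ((hi _).mpr ⟨1, Or.inl rfl⟩)
      have hb := hg _ ((hi _).mpr ⟨0, Or.inr rfl⟩)
      rw [mul_zero, zpow_zero, one_mul] at hb
      rcases h.cases_elem g with ⟨j, rfl⟩ | ⟨j, rfl⟩
      · rcases h.commute_out_in (i := 2 * i + 1) (j := j) (by rw [← hb, mul_inv_cancel_right]) with e1 | e1
        · rw [e1]; exact Q.one_mem
        · rw [e1]; exact (hi _).mpr ⟨2, Or.inl (by congr 1; ring)⟩
      · exfalso
        have := mul_inv_eq_iff_eq_mul.mpr hw.symm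
        rw [h.out_conj_in, h.zpow_eq] at this
        obtain ⟨c, hc⟩ := this
        have hM : (0 : ℤ) < 2 ^ m := by positivity
        have : (1 : ℤ) = 2 * (2 ^ m - c) := by
          apply mul_left_cancel₀ (show (4 * 2 ^ m : ℤ) ≠ 0 by positivity)
          linarith
        omega
    refine ⟨⟨g, hgQ⟩, Subgroup.mem_center_iff.mpr fun t => Subtype.ext ?_, rfl⟩
    exact Subgroup.mem_centralizer_iff.mp hg t t.2
  · rintro _ ⟨c, hc, rfl⟩
    rw [Subgroup.mem_centralizer_iff]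
    intro t ht
    exact congrArg Subtype.val (Subgroup.mem_center_iff.mp hc ⟨t, ht⟩)

theorem quat_relIndex {Q : Subgroup S} (e : Q ≃* QuaternionGroup 2) :
    Q.relIndex (Subgroup.normalizer (Q : Set S)) = 2 := by
  obtain ⟨i, hi⟩ := h.quat_char e
  set b := x ^ (2 * i + 1) * y with hbdef
  set v := x ^ (2 ^ m : ℤ) with hv
  have hpowQ : ∀ j : ℤ, x ^ j ∈ Q ↔ (2 * 2 ^ m : ℤ) ∣ j := by
    intro j
    rw [hi]
    constructor
    · rintro ⟨k, hk | hk⟩
      · rw [h.zpow_eq] at hk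
        obtain ⟨c, hc⟩ := hk
        exact ⟨k + 4 * c, by linarith⟩
      · rw [in_mul_out] at hk
        exact absurd hk.symm (h.out_ne_in _ _)
    · rintro ⟨k, rfl⟩; exact ⟨k, Or.inl rfl⟩
  have hbQ : b ∈ Q := (hi b).mpr ⟨0, Or.inr (by simp [hbdef])⟩
  have hvN : v ∈ Subgroup.normalizer (Q : Set S) := mem_normalizer_of_conj_mem fun t ht => by
    obtain ⟨k, rfl | rfl⟩ := (hi t).mp ht
    · rw [((Commute.refl x).zpow_zpow _ _).eq, mul_inv_cancel_right]; exact (hi _).mpr ⟨k, Or.inl rfl⟩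
    · refine (hi _).mpr ⟨k + 1 - 2 * 2 ^ m, Or.inr ?_⟩
      rw [hv, hbdef, in_mul_out (2 * 2 ^ m * k), h.conj_out, in_mul_out, h.out_eq_out]
      exact ⟨0, by ring⟩
  have hvQ : v ∉ Q := by
    rw [hv, hpowQ]
    rintro ⟨c, hc⟩
    have : (1 : ℤ) = 2 * c := by
      apply mul_left_cancel₀ (show (2 ^ m : ℤ) ≠ 0 by positivity)
      linarith
    omega
  have hvv : v * v ∈ Q := by rw [hv, ← zpow_add, hpowQ]; exact ⟨1, by ring⟩
  -- powers of `x` in the normalizer are powers of `v`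
  have hnorm : ∀ j : ℤ, x ^ j ∈ Subgroup.normalizer (Q : Set S) → (2 ^ m : ℤ) ∣ j := by
    intro j hj
    obtain ⟨k, hk | hk⟩ := (hi _).mp ((Subgroup.mem_normalizer_iff.mp hj b).mp hbQ)
    · rw [hbdef, h.conj_out] at hk; exact absurd hk (h.out_ne_in _ _)
    · rw [hbdef, h.conj_out, in_mul_out, h.out_eq_out] at hk
      obtain ⟨c, hc⟩ := hk
      exact ⟨2 * j + k + 4 * c, by linarith⟩
  rw [Subgroup.relIndex, Subgroup.index_eq_two_iff]
  refine ⟨⟨v, hvN⟩, fun g => ?_⟩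
  simp only [Subgroup.mem_subgroupOf, Subgroup.coe_mul]
  have hdich : (g : S) ∈ Q ∨ (g : S) * v ∈ Q := by
    -- reduce to a power of `x`
    obtain ⟨q, hq, j, hj⟩ : ∃ q ∈ Q, ∃ j : ℤ, q * (g : S) = x ^ j := by
      rcases h.cases_elem (g : S) with ⟨j, hj⟩ | ⟨j, hj⟩
      · exact ⟨1, Q.one_mem, j, by rw [one_mul, hj]⟩
      · exact ⟨b, hbQ, _, by rw [hj, hbdef, h.out_mul_out]⟩
    have hjN : x ^ j ∈ Subgroup.normalizer (Q : Set S) := hj ▸ mul_mem (Subgroup.le_normalizer hq) g.2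
    obtain ⟨c, hc⟩ := hnorm j hjN
    rcases Int.even_or_odd c with ⟨d, hd⟩ | ⟨d, hd⟩
    · left
      rw [← Q.mul_mem_cancel_left hq, hj, hpowQ]
      exact ⟨d, by rw [hc, hd]; ring⟩
    · right
      rw [← Q.mul_mem_cancel_left hq, ← mul_assoc, hj, hv, ← zpow_add, hpowQ]
      exact ⟨d + 1, by rw [hc, hd]; ring⟩
  rcases hdich with e1 | e1
  · exact Or.inr ⟨e1, fun e2 => hvQ ((Q.mul_mem_cancel_left e1).mp e2)⟩
  · exact Or.inl ⟨e1, fun e2 => hvQ ((Q.mul_mem_cancel_left e2).mp e1)⟩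

end SDGen

end Cfsg.Agent.H39
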