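import Cfsg.Agent.H39.WreathSubgroups
import Cfsg.Agent.H39.SemiDihedralSubgroups

/-!
Four-subgroups and classes of involutions of a wreathed group.
-/

namespace Cfsg.Agent.H39

variable {S : Type*} [Group S]

theorem klein_mk {a b : S} (ha : orderOf a = 2) (hb : orderOf b = 2) (hab : a ≠ b)
    (hc : a * b = b * a) :
    ∃ T : Subgroup S, IsKleinFour T ∧ ∀ g, g ∈ T ↔ g = 1 ∨ g = a ∨ g = b ∨ g = a * b := by
  have haa := mul_self_of_orderOf_eq_two ha
  have hbb := mul_self_of_orderOf_eq_two hb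
  have h1 : a * (a * b) = b := by rw [← mul_assoc, haa, one_mul]
  have h2 : b * (a * b) = a := by rw [← mul_assoc, ← hc, mul_assoc, hbb, mul_one]
  have h3 : a * b * a = b := by rw [hc, mul_assoc, haa, mul_one]
  have h4 : a * b * b = a := by rw [mul_assoc, hbb, mul_one]
  have h5 : a * b * (a * b) = 1 := by rw [← mul_assoc, h3, hbb]
  let T : Subgroup S :=
    { carrier := {g | g = 1 ∨ g = a ∨ g = b ∨ g = a * b}
      one_mem' := Or.inl rfl
      mul_mem' := by
        rintro u v (rfl | rfl | rfl | rfl) (rfl | rfl | rfl | rfl) <;>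
          simp only [Set.mem_setOf_eq, one_mul, mul_one, haa, hbb, h1, h2, h3, h4, h5, ← hc] <;>
          tauto
      inv_mem' := by
        rintro u (rfl | rfl | rfl | rfl) <;>
          simp only [Set.mem_setOf_eq, inv_one, inv_eq_of_orderOf_eq_two ha,
            inv_eq_of_orderOf_eq_two hb, inv_eq_of_mul_eq_one_right h5] <;>
          tauto }
  have hne1 := ne_one_of_orderOf_eq_two ha
  have hne2 := ne_one_of_orderOf_eq_two hb
  have hab1 : a * b ≠ 1 := fun e => hab <| by
    calc a = a * b * b := h4.symm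
      _ = b := by rw [e, one_mul]
  have hab2 : a * b ≠ a := fun e => hne2 (by simpa using e)
  have hab3 : a * b ≠ b := fun e => hne1 (by simpa using e)
  have hcard : Nat.card T = 4 := by
    rw [show Nat.card T = Nat.card ({1, a, b, a * b} : Set S) from Nat.card_congr
      (Equiv.subtypeEquivRight fun g => by rfl), Nat.card_coe_set_eq]
    rw [Set.ncard_insert_of_notMem, Set.ncard_insert_of_notMem, Set.ncard_pair]
    · exact hab3.symm
    · simp [hab, hab2.symm]
    · simp [hne1.symm, hne2.symm, hab1.symm]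
  refine ⟨T, ⟨hcard, ?_⟩, fun g => Iff.rfl⟩
  have hdvd : Monoid.exponent T ∣ 2 := Monoid.exponent_dvd_of_forall_pow_eq_one fun t => by
    apply Subtype.ext
    rw [Subgroup.coe_pow, Subgroup.coe_one, pow_two]
    rcases t.2 with e | e | e | e <;> rw [e] <;> first | exact mul_one 1 | exact haa | exact hbb | exact h5
  rcases (Nat.dvd_prime Nat.prime_two).mp hdvd with e | e
  · exfalso
    have := Monoid.exp_eq_one_iff.mp e
    have : Nat.card T ≤ 1 := Finite.card_le_one_iff_subsingleton.mpr this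
    omega
  · exact e

theorem klein_eq_of_le [Finite S] {T U : Subgroup S} (hT : IsKleinFour T) (hU : IsKleinFour U)
    (hle : T ≤ U) : T = U :=
  Subgroup.eq_of_le_of_card_ge hle (by rw [hT.card_four, hU.card_four])

namespace WGen

variable {m : ℕ} {x y z : S} (h : WGen m x y z)
include h

theorem orderOf_in_two {a b : ℤ} (ha : (4 * 2 ^ m : ℤ) ∣ 2 * a) (hb : (4 * 2 ^ m : ℤ) ∣ 2 * b)
    (hne : ¬ ((4 * 2 ^ m : ℤ) ∣ a ∧ (4 * 2 ^ m : ℤ) ∣ b)) : orderOf (x ^ a * y ^ b) = 2 := by
  refine orderOf_eq_two_of_mul_self ?_ fun e => hne (h.pq_eq_one.mp e)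
  rw [h.mul_in, h.pq_eq_one, ← two_mul, ← two_mul]
  exact ⟨ha, hb⟩

theorem conj_z (a : ℤ) :
    x ^ a * y ^ (0 : ℤ) * z * (x ^ a * y ^ (0 : ℤ))⁻¹ = x ^ a * y ^ (-a) * z := by
  simpa using h.conj_out_by_in a 0 0 0

theorem classes_involutions [Finite S] :
    Nat.card {C : ConjClasses S // ∃ t : S, orderOf t = 2 ∧ ConjClasses.mk t = C} = 3 := by
  set H : ℤ := 2 * 2 ^ m with hH
  have hd : (4 * 2 ^ m : ℤ) ∣ 2 * H := ⟨1, by rw [hH]; ring⟩
  have hh : ¬ (4 * 2 ^ m : ℤ) ∣ H := h.half_not_dvd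
  have e : {C : ConjClasses S | ∃ t : S, orderOf t = 2 ∧ ConjClasses.mk t = C} =
      {ConjClasses.mk (x ^ H * y ^ (0 : ℤ)), ConjClasses.mk (x ^ H * y ^ H), ConjClasses.mk z} := by
    ext C
    constructor
    · rintro ⟨t, ht, rfl⟩
      rcases h.mem_ord_two t ht with rfl | rfl | rfl | ⟨a, rfl⟩
      · exact Or.inl rfl
      · exact Or.inl (conjClasses_eq_of_conj (h.z_conj H 0)).symm
      · exact Or.inr (Or.inl rfl)
      · exact Or.inr (Or.inr (conjClasses_eq_of_conj (h.conj_z a)).symm)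
    · rintro (rfl | rfl | rfl)
      · exact ⟨_, h.orderOf_in_two hd (by simp) (fun e => hh e.1), rfl⟩
      · exact ⟨_, h.orderOf_in_two hd hd (fun e => hh e.1), rfl⟩
      · exact ⟨z, h.oz, rfl⟩
  rw [show Nat.card {C : ConjClasses S // ∃ t : S, orderOf t = 2 ∧ ConjClasses.mk t = C}
      = Set.ncard {C : ConjClasses S | ∃ t : S, orderOf t = 2 ∧ ConjClasses.mk t = C} from
    Nat.card_coe_set_eq _, e]
  have hnot : ∀ a b : ℤ, ConjClasses.mk (x ^ a * y ^ b) ≠ ConjClasses.mk z := by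
    intro a b e1
    obtain ⟨g, hg⟩ := isConj_iff.mp (ConjClasses.mk_eq_mk_iff_isConj.mp e1)
    have hn := Subgroup.normal_of_index_eq_two h.index_base
    exact h.z_not_mem_base (hg ▸ hn.conj_mem _ (h.in_mem_base a b) g)
  have hne : ConjClasses.mk (x ^ H * y ^ (0 : ℤ)) ≠ ConjClasses.mk (x ^ H * y ^ H) := by
    intro e1
    obtain ⟨g, hg⟩ := isConj_iff.mp (ConjClasses.mk_eq_mk_iff_isConj.mp e1.symm)
    rw [h.diag_central, mul_inv_cancel_right, h.pq_eq] at hg
    exact hh (by simpa using hg.2)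
  rw [Set.ncard_insert_of_notMem, Set.ncard_pair (hnot _ _)]
  rintro (e1 | e1)
  · exact hne e1
  · exact hnot _ _ e1

theorem klein_structure [Finite S] :
    ∃ T : Subgroup S, IsKleinFour T ∧ T.Normal ∧ (∃ T₀ : Subgroup S, IsKleinFour T₀ ∧ T₀ ≠ T) ∧
      ∀ T₁ T₂ : Subgroup S, IsKleinFour T₁ → IsKleinFour T₂ → T₁ ≠ T → T₂ ≠ T →
        ∃ s : S, T₁.map (MulAut.conj s).toMonoidHom = T₂ := by
  set H : ℤ := 2 * 2 ^ m with hH
  have hd : (4 * 2 ^ m : ℤ) ∣ 2 * H := ⟨1, by rw [hH]; ring⟩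
  have hh : ¬ (4 * 2 ^ m : ℤ) ∣ H := h.half_not_dvd
  have hu : orderOf (x ^ H * y ^ (0 : ℤ)) = 2 := h.orderOf_in_two hd (by simp) fun e => hh e.1
  have hv : orderOf (x ^ (0 : ℤ) * y ^ H) = 2 := h.orderOf_in_two (by simp) hd fun e => hh e.2
  have hc : orderOf (x ^ H * y ^ H) = 2 := h.orderOf_in_two hd hd fun e => hh e.1
  have huv : x ^ H * y ^ (0 : ℤ) * (x ^ (0 : ℤ) * y ^ H) = x ^ H * y ^ H := by simp
  obtain ⟨T, hT, hTm⟩ := klein_mk hu hv (fun e => hh (by simpa using (h.pq_eq.mp e).1))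
    (by rw [h.mul_in, h.mul_in]; simp)
  obtain ⟨T₀, hT₀, hT₀m⟩ := klein_mk h.oz hc (fun e => h.z_not_mem_base (e ▸ h.in_mem_base H H))
    (h.diag_central H z)
  have hT₀ne : T₀ ≠ T := by
    intro e
    have : z ∈ T := e ▸ (hT₀m z).mpr (Or.inr (Or.inl rfl))
    rcases (hTm z).mp this with e1 | e1 | e1 | e1
    · exact ne_one_of_orderOf_eq_two h.oz e1
    all_goals exact h.z_not_mem_base (e1 ▸ by first | exact h.in_mem_base _ _ | exact mul_mem (h.in_mem_base _ _) (h.in_mem_base _ _))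
  refine ⟨T, hT, ⟨fun g hg s => ?_⟩, ⟨T₀, hT₀, hT₀ne⟩, ?_⟩
  · rw [hTm, huv] at hg ⊢
    rcases h.cases_elem s with ⟨c, d, rfl⟩ | ⟨c, d, rfl⟩ <;> rcases hg with rfl | rfl | rfl | rfl <;>
      simp only [h.conj_in_by_in, h.conj_in_by_out, mul_one, mul_inv_cancel] <;> tauto
  -- any other four-group is a conjugate of `T₀`
  have key : ∀ U : Subgroup S, IsKleinFour U → U ≠ T →
      ∃ s : S, T₀.map (MulAut.conj s).toMonoidHom = U := by
    intro U hU hUT
    have hord : ∀ t ∈ U, t ≠ 1 → orderOf t = 2 := fun t ht h1 =>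
      orderOf_eq_two_of_mul_self (klein_mul_self hU ht) h1
    have hcomm : ∀ t ∈ U, ∀ t' ∈ U, t * t' = t' * t := fun t ht t' ht' => by
      have e : ∀ g ∈ U, g⁻¹ = g := fun g hg => inv_eq_of_mul_eq_one_right (klein_mul_self hU hg)
      calc t * t' = (t * t')⁻¹ := (e _ (mul_mem ht ht')).symm
        _ = t' * t := by rw [mul_inv_rev, e t ht, e t' ht']
    -- an involution outside the base
    obtain ⟨a, haU⟩ : ∃ a : ℤ, x ^ a * y ^ (-a) * z ∈ U := by
      by_contra hcon
      push Not at hcon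
      refine hUT (klein_eq_of_le hU hT fun t ht => ?_)
      rw [hTm, huv]
      by_cases h1 : t = 1
      · exact Or.inl h1
      rcases h.mem_ord_two t (hord t ht h1) with e | e | e | ⟨a, rfl⟩
      · exact Or.inr (Or.inl e)
      · exact Or.inr (Or.inr (Or.inl e))
      · exact Or.inr (Or.inr (Or.inr e))
      · exact absurd ht (hcon a)
    have hin : ∀ t ∈ U, t ≠ 1 → t ∈ h.base → t = x ^ H * y ^ H := by
      intro t ht h1 htb
      rcases h.mem_ord_two t (hord t ht h1) with rfl | rfl | e | ⟨c, rfl⟩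
      · exact absurd (h.commute_out_in.mp (hcomm _ ht _ haU)) (by simpa using hh)
      · exact absurd (h.commute_out_in.mp (hcomm _ ht _ haU)) (by simpa using hh)
      · exact e
      · exact absurd htb (h.out_not_mem_base _ _)
    have hcU : x ^ H * y ^ H ∈ U := by
      obtain ⟨t, ht, hne1, hne2⟩ : ∃ t ∈ U, t ≠ 1 ∧ t ≠ x ^ a * y ^ (-a) * z := by
        by_contra hcon
        push Not at hcon
        have hsub : (U : Set S) ⊆ {1, x ^ a * y ^ (-a) * z} := fun t ht => by
          by_cases h1 : t = 1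
          · exact Or.inl h1
          · exact Or.inr (hcon t ht h1)
        have h2 := Set.ncard_le_ncard hsub
        rw [← Nat.card_coe_set_eq, show Nat.card (U : Set S) = 4 from hU.card_four] at h2
        have := h2.trans (Set.ncard_insert_le _ _)
        simp at this
      by_cases htb : t ∈ h.base
      · exact hin t ht hne1 htb ▸ ht
      obtain ⟨c, d, rfl⟩ := (h.cases_elem t).resolve_left htb
      have hm := mul_mem ht haU
      have hne : x ^ c * y ^ d * z * (x ^ a * y ^ (-a) * z) ≠ 1 := fun e => hne2 <| by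
        rw [mul_eq_one_iff_eq_inv] at e
        rw [e, inv_eq_of_orderOf_eq_two (h.orderOf_out a)]
      have e := hin _ hm hne (by rw [h.out_mul_out]; exact h.in_mem_base _ _)
      exact e ▸ hm
    refine ⟨x ^ a * y ^ (0 : ℤ), Subgroup.eq_of_le_of_card_ge ?_ ?_⟩
    · rintro _ ⟨t, ht, rfl⟩
      show x ^ a * y ^ (0 : ℤ) * t * (x ^ a * y ^ (0 : ℤ))⁻¹ ∈ U
      rcases (hT₀m t).mp ht with rfl | rfl | rfl | rfl
      · simp [one_mem]
      · rw [h.conj_z]; exact haU
      · rw [h.conj_in_by_in]; exact hcU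
      · rw [← conj_mul, h.conj_z, h.conj_in_by_in]; exact mul_mem haU hcU
    · rw [card_map_conj, hU.card_four, hT₀.card_four]
  intro T₁ T₂ h₁ h₂ hn₁ hn₂
  obtain ⟨s₁, hs₁⟩ := key T₁ h₁ hn₁
  obtain ⟨s₂, hs₂⟩ := key T₂ h₂ hn₂
  refine ⟨s₂ * s₁⁻¹, ?_⟩
  rw [← hs₁, map_conj_map_conj, inv_mul_cancel_right, hs₂]

end WGen

end Cfsg.Agent.H39

namespace Cfsg.Agent.H39

/-- The involution of a generalised quaternion group is unique and spans the centre. -/
theorem quaternion_center_facts {k : ℕ} (hk : 2 ≤ k) :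
    (∀ g : QuaternionGroup k, g * g = 1 → g = 1 ∨ g = QuaternionGroup.a k) ∧
    (∀ g : QuaternionGroup k, (∀ u, g * u = u * g) → g = 1 ∨ g = QuaternionGroup.a k) := by
  have : NeZero (2 * k) := ⟨by omega⟩
  have hk0 : (k : ZMod (2 * k)) ≠ 0 := by
    rw [Ne, ZMod.natCast_eq_zero_iff]
    intro h
    exact absurd (Nat.le_of_dvd (by omega) h) (by omega)
  have h2i : ∀ i : ZMod (2 * k), i + i = 0 → i = 0 ∨ i = k := by
    intro i hi
    rw [← ZMod.natCast_zmod_val i, ← Nat.cast_add, ZMod.natCast_eq_zero_iff] at hi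
    obtain ⟨c, hc⟩ := hi
    have hv := i.val_lt
    have hc2 : c < 2 := by
      refine lt_of_mul_lt_mul_left (a := 2 * k) ?_ (Nat.zero_le _)
      omega
    interval_cases c
    · left; rw [← ZMod.natCast_zmod_val i, show i.val = 0 by omega, Nat.cast_zero]
    · right; rw [← ZMod.natCast_zmod_val i, show i.val = k by omega]
  refine ⟨fun g hg => ?_, fun g hg => ?_⟩
  · cases g with
    | a i =>
      rw [QuaternionGroup.a_mul_a, QuaternionGroup.one_def] at hg
      rcases h2i i (QuaternionGroup.a.inj hg) with rfl | rfl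
      · exact Or.inl QuaternionGroup.one_def.symm
      · exact Or.inr rfl
    | xa i =>
      rw [QuaternionGroup.xa_mul_xa, QuaternionGroup.one_def] at hg
      exact absurd (by simpa using QuaternionGroup.a.inj hg) hk0
  · cases g with
    | a i =>
      have e := hg (QuaternionGroup.xa 0)
      rw [QuaternionGroup.a_mul_xa, QuaternionGroup.xa_mul_a] at e
      have e' := QuaternionGroup.xa.inj e
      rcases h2i i (by linear_combination -e') with rfl | rfl
      · exact Or.inl QuaternionGroup.one_def.symm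
      · exact Or.inr rfl
    | xa i =>
      have e := hg (QuaternionGroup.a 1)
      rw [QuaternionGroup.a_mul_xa, QuaternionGroup.xa_mul_a] at e
      have e' := QuaternionGroup.xa.inj e
      have h2 : ((2 : ℕ) : ZMod (2 * k)) = 0 := by push_cast; linear_combination e'
      rw [ZMod.natCast_eq_zero_iff] at h2
      exact absurd (Nat.le_of_dvd (by omega) h2) (by omega)

end Cfsg.Agent.H39

namespace Cfsg.Agent.H39.WGen

variable {S : Type*} [Group S] {m : ℕ} {x y z : S} (h : WGen m x y z)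
include h

theorem quat_le_unique [Finite S] {Y : Subgroup S} (hc : Nat.card Y = 2 * 2 ^ (m + 2))
    (e : Y ≃* QuaternionGroup (2 ^ (m + 1))) : Y = h.quat := by
  refine Subgroup.eq_of_le_of_card_ge ?_ (by rw [hc, h.card_quat])
  have hk : 2 ≤ 2 ^ (m + 1) := Nat.le_self_pow (by omega) 2
  obtain ⟨f1, f2⟩ := quaternion_center_facts hk
  have hnc : ¬ IsMulCommutative Y := by
    intro hY
    have hA : ∀ u v : QuaternionGroup (2 ^ (m + 1)), u * v = v * u := fun u v => by
      obtain ⟨p, rfl⟩ := e.surjective u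
      obtain ⟨q, rfl⟩ := e.surjective v
      rw [← map_mul, ← map_mul, mul_comm']
    have h1 := f2 (QuaternionGroup.xa 0) (fun v => hA _ v)
    rcases h1 with h1 | h1
    · exact absurd (h1.trans QuaternionGroup.one_def) (fun h => nomatch h)
    · exact absurd h1 (fun h => nomatch h)
  have hinv : ∀ p q : Y, p ≠ 1 → q ≠ 1 → p * p = 1 → q * q = 1 → p = q := by
    intro p q hp hq hpp hqq
    have a1 : e p * e p = 1 := by rw [← map_mul, hpp, map_one]
    have a2 : e q * e q = 1 := by rw [← map_mul, hqq, map_one]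
    rcases f1 _ a1 with b1 | b1
    · exact absurd (e.map_eq_one_iff.mp b1) hp
    rcases f1 _ a2 with b2 | b2
    · exact absurd (e.map_eq_one_iff.mp b2) hq
    exact e.injective (b1.trans b2.symm)
  have hcen : ∀ p : Y, (∀ q : Y, p * q = q * p) → p * p = 1 := by
    intro p hp
    have a1 : ∀ u, e p * u = u * e p := fun u => by
      obtain ⟨q, rfl⟩ := e.surjective u
      rw [← map_mul, hp, map_mul]
    refine e.injective ?_
    rw [map_mul, map_one]
    rcases f2 _ a1 with b | b <;> rw [b]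
    · exact mul_one 1
    · rw [QuaternionGroup.a_mul_a, QuaternionGroup.one_def]
      congr 1
      have h0 : ((2 * 2 ^ (m + 1) : ℕ) : ZMod (2 * 2 ^ (m + 1))) = 0 := ZMod.natCast_self _
      push_cast at h0 ⊢
      linear_combination h0
  have hnb : ¬ Y ≤ h.base := by
    intro hle
    refine hnc ⟨⟨fun p q => Subtype.ext ?_⟩⟩
    have a := h.base_comm.is_comm.comm ⟨_, hle p.2⟩ ⟨_, hle q.2⟩
    simpa using congrArg Subtype.val a
  -- the square of an element outside the base is the involution of `Y`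
  have hout : ∀ a b : ℤ, x ^ a * y ^ b * z ∈ Y → (4 * 2 ^ m : ℤ) ∣ a + b - 2 * 2 ^ m := by
    intro a b hg
    have hsq : x ^ (a + b) * y ^ (b + a) ∈ Subgroup.center S :=
      h.in_mem_center.mpr (by simp [add_comm])
    have hsY : x ^ (a + b) * y ^ (b + a) ∈ Y := h.out_mul_out a b a b ▸ mul_mem hg hg
    have h4 : x ^ (a + b) * y ^ (b + a) * (x ^ (a + b) * y ^ (b + a)) = 1 :=
      congrArg Subtype.val (hcen ⟨_, hsY⟩ fun q =>
        Subtype.ext (Subgroup.mem_center_iff.mp hsq q.1).symm)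
    rw [h.mul_in, h.pq_eq_one] at h4
    obtain ⟨j, hj⟩ := h4.1
    have hab : a + b = 2 * 2 ^ m * j := by linarith
    rcases Int.even_or_odd j with ⟨i, rfl⟩ | ⟨i, rfl⟩
    · exfalso
      -- the element is then the unique involution, which lies in the base
      have hg2 : x ^ a * y ^ b * z * (x ^ a * y ^ b * z) = 1 := by
        rw [h.out_mul_out, h.pq_eq_one, add_comm b a, and_self_iff]
        exact ⟨i, by rw [hab]; ring⟩
      have h2 : Fact (Nat.Prime 2) := ⟨Nat.prime_two⟩
      have hcard := card_eq_two_mul_inf h.index_base hnb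
      obtain ⟨t, ht⟩ := exists_prime_orderOf_dvd_card' (G := (Y ⊓ h.base : Subgroup S)) 2 (by
        refine ⟨2 ^ (m + 1), ?_⟩
        rw [hc, pow_succ'] at hcard
        omega)
      have ht' : orderOf (t : S) = 2 := by rw [Subgroup.orderOf_coe, ht]
      have := hinv ⟨_, hg⟩ ⟨t, t.2.1⟩
        (fun e1 => h.out_ne_in a b 0 0 (by simpa using congrArg Subtype.val e1))
        (fun e1 => ne_one_of_orderOf_eq_two ht' (congrArg Subtype.val e1))
        (Subtype.ext hg2) (Subtype.ext (mul_self_of_orderOf_eq_two ht'))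
      have e2 : x ^ a * y ^ b * z = (t : S) := congrArg Subtype.val this
      exact h.out_not_mem_base a b (e2 ▸ t.2.2)
    · exact ⟨i, by rw [hab]; ring⟩
  intro g hg
  obtain ⟨g0, hg0, hg0b⟩ := SetLike.not_le_iff_exists.mp hnb
  obtain ⟨a, b, rfl⟩ := (h.cases_elem g0).resolve_left hg0b
  rcases h.cases_elem g with ⟨c, d, rfl⟩ | ⟨c, d, rfl⟩
  · have h1 := hout _ _ (h.out_mul_in a b c d ▸ mul_mem hg0 hg)
    exact h.in_mem_quat.mpr (dvd_of_eq' (h1.sub (hout a b hg0)) (by ring))
  · exact h.out_mem_quat.mpr (hout c d hg)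

end Cfsg.Agent.H39.WGen
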