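import Cfsg.Prelude.Def_CaseTheorems
import Cfsg.Agent.Fusion.Frobenius
import Cfsg.Agent.H39.Basic
import Cfsg.Agent.H39.Dihedral
import Cfsg.Agent.H39.OddAut
import Cfsg.Agent.H39.WreathKlein
import Mathlib.GroupTheory.SpecificGroups.Dihedral

/-!
A dihedral 2-subgroup of a finite group: four-subgroups, automorphisms of odd order, and fusion of
four-subgroups when it is a Sylow subgroup.
-/

namespace Cfsg.Agent.H39

universe u

variable {G : Type u} [Group G]

/-- `S` is dihedral of order `2 * (2 * l)`, generated by `c` of order `2 * l` and an involution `s`. -/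
structure DGen (S : Subgroup G) (l : ℕ) (c s : G) : Prop where
  lpos : 0 < l
  mem_c : c ∈ S
  mem_s : s ∈ S
  oc : orderOf c = 2 * l
  os : orderOf s = 2
  inv : s * c * s⁻¹ = c⁻¹
  out : s ∉ Subgroup.zpowers c
  cases : ∀ g ∈ S, g ∈ Subgroup.zpowers c ∨ g * s ∈ Subgroup.zpowers c

theorem exists_dGen [Finite G] (S : Subgroup G) (hS : IsPGroup 2 S) {m : ℕ} (hm : 2 ≤ m)
    (e : S ≃* DihedralGroup m) :
    ∃ (l : ℕ) (c s : G), m = 2 * l ∧ Nat.card S = 4 * l ∧ DGen S l c s := by
  have h2 : Fact (Nat.Prime 2) := ⟨Nat.prime_two⟩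
  have hcard : Nat.card S = 2 * m := by rw [Nat.card_congr e.toEquiv, DihedralGroup.nat_card]
  obtain ⟨k, hk⟩ := IsPGroup.iff_card.mp hS
  obtain ⟨l, rfl⟩ : ∃ l, m = 2 * l := by
    match k, hk with
    | 0, hk => omega
    | 1, hk => omega
    | k + 2, hk => exact ⟨2 ^ k, by rw [hcard, pow_succ', pow_succ'] at hk; omega⟩
  have hl : 0 < l := by omega
  have : NeZero (2 * l) := ⟨by omega⟩
  refine ⟨l, (e.symm (DihedralGroup.r 1) : G), (e.symm (DihedralGroup.sr 0) : G), rfl,
    hcard.trans (by ring), hl, SetLike.coe_mem _, SetLike.coe_mem _, ?_, ?_, ?_, ?_, ?_⟩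
  · rw [Subgroup.orderOf_coe, MulEquiv.orderOf_eq, DihedralGroup.orderOf_r_one]
  · rw [Subgroup.orderOf_coe, MulEquiv.orderOf_eq, DihedralGroup.orderOf_sr]
  · rw [← Subgroup.coe_inv, ← Subgroup.coe_mul, ← Subgroup.coe_mul, ← Subgroup.coe_inv,
      ← map_inv, ← map_inv, ← map_mul, ← map_mul, DihedralGroup.sr_mul_r, DihedralGroup.inv_sr,
      DihedralGroup.sr_mul_sr, DihedralGroup.inv_r]
    simp
  · rintro ⟨i, hi⟩
    have hi' : (e.symm (DihedralGroup.r 1)) ^ i = e.symm (DihedralGroup.sr 0) :=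
      Subtype.ext (by rw [Subgroup.coe_zpow]; exact hi)
    rw [← map_zpow, e.symm.injective.eq_iff, DihedralGroup.r_one_zpow] at hi'
    exact nomatch hi'
  · intro g hg
    rcases hx : e ⟨g, hg⟩ with i | i
    · left
      refine ⟨(i.val : ℤ), ?_⟩
      show (e.symm (DihedralGroup.r 1) : G) ^ (i.val : ℤ) = g
      rw [zpow_natCast, ← Subgroup.coe_pow, ← map_pow, DihedralGroup.r_one_pow, ZMod.natCast_zmod_val,
        ← hx, e.symm_apply_apply]
    · right
      refine ⟨((-i).val : ℤ), ?_⟩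
      show (e.symm (DihedralGroup.r 1) : G) ^ ((-i).val : ℤ) = g * _
      rw [zpow_natCast, ← Subgroup.coe_pow, ← map_pow, DihedralGroup.r_one_pow, ZMod.natCast_zmod_val,
        show g = ((e.symm (DihedralGroup.sr i) : S) : G) by rw [← hx, e.symm_apply_apply],
        ← Subgroup.coe_mul, ← map_mul, DihedralGroup.sr_mul_sr, zero_sub]

namespace DGen

variable {S : Subgroup G} {l : ℕ} {c s : G} (h : DGen S l c s)
include h

theorem zpow_mem (i : ℤ) : c ^ i ∈ S := S.zpow_mem h.mem_c i

theorem z_order : orderOf (c ^ l) = 2 := by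
  rw [orderOf_pow_of_dvd h.lpos.ne' (h.oc ▸ dvd_mul_left l 2), h.oc]
  exact Nat.mul_div_cancel _ h.lpos

theorem out_form {g : G} (hg : g ∈ S) (hgc : g ∉ Subgroup.zpowers c) :
    ∃ i : ℤ, g = c ^ i * s := by
  obtain ⟨i, hi⟩ := (h.cases g hg).resolve_left hgc
  exact ⟨i, by rw [show c ^ i = g * s from hi, mul_assoc, mul_self_of_orderOf_eq_two h.os, mul_one]⟩

theorem out_conj (i j : ℤ) : c ^ i * s * c ^ j * (c ^ i * s)⁻¹ = c ^ (-j) := by
  calc c ^ i * s * c ^ j * (c ^ i * s)⁻¹ = c ^ i * (s * c ^ j * s⁻¹) * (c ^ i)⁻¹ := by group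
    _ = c ^ i * (c⁻¹) ^ j * (c ^ i)⁻¹ := by rw [← conj_zpow, h.inv]
    _ = _ := by group

theorem out_not_mem (i : ℤ) : c ^ i * s ∉ Subgroup.zpowers c := fun hm =>
  h.out ((Subgroup.mul_mem_cancel_left _ (Subgroup.zpow_mem _ (Subgroup.mem_zpowers c) i)).mp hm)

theorem out_mul_self (i : ℤ) : c ^ i * s * (c ^ i * s) = 1 := by
  have e := h.out_conj 0 i
  rw [zpow_zero, one_mul, inv_eq_of_orderOf_eq_two h.os] at e
  calc c ^ i * s * (c ^ i * s) = c ^ i * (s * c ^ i * s) := by group
    _ = c ^ i * c ^ (-i) := by rw [e]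
    _ = 1 := by group

theorem orderOf_out (i : ℤ) : orderOf (c ^ i * s) = 2 :=
  orderOf_eq_two_of_mul_self (h.out_mul_self i) fun e => h.out_not_mem i (e ▸ one_mem _)

theorem z_mem : c ^ l ∈ S := S.pow_mem h.mem_c l

theorem z_central {g : G} (hg : g ∈ S) : g * c ^ l = c ^ l * g := by
  by_cases hgc : g ∈ Subgroup.zpowers c
  · obtain ⟨i, rfl⟩ := hgc
    rw [← zpow_natCast]
    exact ((Commute.refl c).zpow_zpow i l).eq
  · obtain ⟨i, rfl⟩ := h.out_form hg hgc
    refine mul_inv_eq_iff_eq_mul.mp ?_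
    rw [← zpow_natCast, h.out_conj, zpow_neg, zpow_natCast, inv_eq_of_orderOf_eq_two h.z_order]

theorem sq_one_cases [Finite G] {g : G} (hg : g ∈ Subgroup.zpowers c) (h1 : g * g = 1) :
    g = 1 ∨ g = c ^ l := by
  by_cases hne : g = 1
  · exact Or.inl hne
  right
  have ho := orderOf_eq_two_of_mul_self h1 hne
  obtain ⟨i, hi⟩ := mem_zpowers_of_orderOf_eq (Subgroup.pow_mem _ (Subgroup.mem_zpowers c) l) hg
    (ho.trans h.z_order.symm)
  rcases Int.even_or_odd i with ⟨j, rfl⟩ | ⟨j, rfl⟩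
  · refine absurd (hi.symm.trans ?_) hne
    show (c ^ l) ^ (j + j) = 1
    rw [zpow_add, ← mul_zpow' (c ^ l) (c ^ l) j (Commute.refl _),
      mul_self_of_orderOf_eq_two h.z_order, one_zpow]
  · rw [← hi]
    show (c ^ l) ^ (2 * j + 1) = c ^ l
    rw [zpow_add_one, zpow_mul, zpow_two, mul_self_of_orderOf_eq_two h.z_order, one_zpow, one_mul]
where
  mul_zpow' (a b : G) (j : ℤ) (hab : Commute a b) : (a * b) ^ j = a ^ j * b ^ j := hab.mul_zpow j

/-- A four-subgroup of `S` consists of `1`, the central involution and two reflections. -/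
theorem klein_char [Finite G] {U : Subgroup G} (hU : IsKleinFour U) (hUS : U ≤ S) :
    ∃ i : ℤ, c ^ i * s ∈ U ∧ c ^ l ∈ U ∧
      ∀ g, g ∈ U ↔ g = 1 ∨ g = c ^ l ∨ g = c ^ i * s ∨ g = c ^ l * (c ^ i * s) := by
  obtain ⟨g, hgU, hgc⟩ : ∃ g ∈ U, g ∉ Subgroup.zpowers c := by
    by_contra hcon
    push Not at hcon
    have hsub : (U : Set G) ⊆ {1, c ^ l} := fun t ht =>
      h.sq_one_cases (hcon t ht) (klein_mul_self hU ht)
    have h2 := Set.ncard_le_ncard hsub
    rw [← Nat.card_coe_set_eq, show Nat.card (U : Set G) = 4 from hU.card_four] at h2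
    have := h2.trans (Set.ncard_insert_le _ _)
    simp at this
  obtain ⟨i, rfl⟩ := h.out_form (hUS hgU) hgc
  have hz : c ^ l ∈ U := by
    obtain ⟨t, ht, hne1, hne2⟩ : ∃ t ∈ U, t ≠ 1 ∧ t ≠ c ^ i * s := by
      by_contra hcon
      push Not at hcon
      have hsub : (U : Set G) ⊆ {1, c ^ i * s} := fun t ht => by
        by_cases h1 : t = 1
        · exact Or.inl h1
        · exact Or.inr (hcon t ht h1)
      have h2 := Set.ncard_le_ncard hsub
      rw [← Nat.card_coe_set_eq, show Nat.card (U : Set G) = 4 from hU.card_four] at h2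
      have := h2.trans (Set.ncard_insert_le _ _)
      simp at this
    by_cases htc : t ∈ Subgroup.zpowers c
    · exact ((h.sq_one_cases htc (klein_mul_self hU ht)).resolve_left hne1) ▸ ht
    obtain ⟨j, rfl⟩ := h.out_form (hUS ht) htc
    have hm := mul_mem ht hgU
    have hin : c ^ j * s * (c ^ i * s) ∈ Subgroup.zpowers c := by
      have e := h.out_conj 0 i
      rw [zpow_zero, one_mul, inv_eq_of_orderOf_eq_two h.os] at e
      rw [show c ^ j * s * (c ^ i * s) = c ^ j * (s * c ^ i * s) by group, e, ← zpow_add]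
      exact Subgroup.zpow_mem _ (Subgroup.mem_zpowers c) _
    refine ((h.sq_one_cases hin (klein_mul_self hU hm)).resolve_left fun e => hne2 ?_) ▸ hm
    rw [mul_eq_one_iff_eq_inv] at e
    rw [e, inv_eq_of_orderOf_eq_two (h.orderOf_out i)]
  refine ⟨i, hgU, hz, ?_⟩
  obtain ⟨T, hT, hTm⟩ := klein_mk h.z_order (h.orderOf_out i)
    (fun e => h.out_not_mem i (e ▸ Subgroup.pow_mem _ (Subgroup.mem_zpowers c) l))
    (h.z_central (hUS hgU)).symm
  have hTU : T = U := klein_eq_of_le hT hU fun t ht => by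
    rcases (hTm t).mp ht with rfl | rfl | rfl | rfl
    exacts [one_mem _, hz, hgU, mul_mem hz hgU]
  rw [← hTU]; exact hTm

theorem klein_exists (i : ℤ) : ∃ U : Subgroup G, IsKleinFour U ∧ U ≤ S ∧ c ^ i * s ∈ U := by
  have hi : c ^ i * s ∈ S := mul_mem (h.zpow_mem i) h.mem_s
  obtain ⟨T, hT, hTm⟩ := klein_mk h.z_order (h.orderOf_out i)
    (fun e => h.out_not_mem i (e ▸ Subgroup.pow_mem _ (Subgroup.mem_zpowers c) l))
    (h.z_central hi).symm
  refine ⟨T, hT, fun t ht => ?_, (hTm _).mpr (Or.inr (Or.inr (Or.inl rfl)))⟩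
  rcases (hTm t).mp ht with rfl | rfl | rfl | rfl
  exacts [one_mem _, h.z_mem, hi, mul_mem h.z_mem hi]

/-- A subgroup of `S` that is not a four-group has no nontrivial automorphism of odd order. -/
theorem odd_aut_trivial [Finite G] (hS : IsPGroup 2 S) {H : Subgroup G} (hHS : H ≤ S)
    (hH : ¬ IsKleinFour H) (φ : MulAut H) (hφ : Odd (orderOf φ)) : φ = 1 := by
  have hP : IsPGroup 2 H := hS.to_le hHS
  have hsq : ∀ g : H, (g : G) ∉ Subgroup.zpowers c → g * g = 1 := fun g hg => by
    obtain ⟨i, hi⟩ := h.out_form (hHS g.2) hg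
    exact Subtype.ext (by rw [Subgroup.coe_mul, hi, h.out_mul_self]; rfl)
  by_cases hbig : ∃ u : H, (u : G) ∈ Subgroup.zpowers c ∧ u * u ≠ 1
  · obtain ⟨u, hu, hu2⟩ := hbig
    have hin : ∀ v : H, (v : G) ∈ Subgroup.zpowers c → v * v ≠ 1 → φ v = v := by
      intro v hv hv2
      have hφv : ((φ v : H) : G) ∈ Subgroup.zpowers c := by
        by_contra hcon
        have := hsq _ hcon
        rw [← map_mul, φ.map_eq_one_iff] at this
        exact hv2 this
      refine fix_cyclic hP hφ ?_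
      obtain ⟨i, hi⟩ := mem_zpowers_of_orderOf_eq hv hφv
        (by rw [Subgroup.orderOf_coe, Subgroup.orderOf_coe, MulEquiv.orderOf_eq])
      exact ⟨i, Subtype.ext (by rw [Subgroup.coe_zpow]; exact hi)⟩
    have hall : ∀ v : H, (v : G) ∈ Subgroup.zpowers c → φ v = v := by
      intro v hv
      by_cases hv2 : v * v = 1
      · have huv : (u * v) * (u * v) ≠ 1 := by
          intro e
          have hc : u * v = v * u := Subtype.ext (by
            obtain ⟨i, hi⟩ := hu; obtain ⟨j, hj⟩ := hv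
            simp only [Subgroup.coe_mul, ← hi, ← hj]
            exact ((Commute.refl c).zpow_zpow i j).eq)
          rw [mul_assoc, ← mul_assoc v, ← hc, mul_assoc u v v, hv2, mul_one] at e
          exact hu2 e
        have e := hin (u * v) (Subgroup.mul_mem _ hu hv) huv
        rw [map_mul, hin u hu hu2] at e
        exact mul_left_cancel e
      · exact hin v hv hv2
    ext v : 1
    rw [MulAut.one_apply]
    by_cases hv : (v : G) ∈ Subgroup.zpowers c
    · exact hall v hv
    refine fix_step hP hφ (hall _ ?_)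
    have hφv : ((φ v : H) : G) ∉ Subgroup.zpowers c := fun hm => hv (by
      rw [← φ.injective (hall _ hm)]; exact hm)
    obtain ⟨i, hi⟩ := h.out_form (hHS v.2) hv
    obtain ⟨j, hj⟩ := h.out_form (hHS (φ v).2) hφv
    rw [Subgroup.coe_mul, Subgroup.coe_inv, hi, hj,
      show c ^ j * s * (c ^ i * s)⁻¹ = c ^ (j - i) by group]
    exact Subgroup.zpow_mem _ (Subgroup.mem_zpowers c) _
  push Not at hbig
  have hexp : ∀ v : H, v * v = 1 := fun v => by
    by_cases hv : (v : G) ∈ Subgroup.zpowers c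
    · exact hbig v hv
    · exact hsq v hv
  by_cases hsub : Nat.card H ≤ 2
  · ext v : 1
    rw [MulAut.one_apply]
    by_contra hne
    have hv1 : v ≠ 1 := fun e => hne (by rw [e, map_one])
    have h3 : ({1, v, φ v} : Set H).ncard = 3 := by
      rw [Set.ncard_insert_of_notMem, Set.ncard_pair (Ne.symm hne)]
      rintro (e | e)
      · exact hv1 e.symm
      · exact hv1 (φ.map_eq_one_iff.mp e.symm)
    have := Set.ncard_le_card ({1, v, φ v} : Set H)
    omega
  exfalso
  apply hH
  have hle : Nat.card H ≤ 4 := by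
    classical
    have hzH : ∀ v : H, (v : G) ∈ Subgroup.zpowers c → (v : G) = 1 ∨ (v : G) = c ^ l := fun v hv =>
      h.sq_one_cases hv (congrArg Subtype.val (hexp v))
    have hcases : ∃ w : G, ∀ v ∈ H, v = 1 ∨ v = c ^ l ∨ v = w ∨ v = c ^ l * w := by
      by_cases ho : ∃ w : H, (w : G) ∉ Subgroup.zpowers c
      · obtain ⟨w, hw⟩ := ho
        refine ⟨w, fun v hv => ?_⟩
        by_cases hvc : v ∈ Subgroup.zpowers c
        · rcases hzH ⟨v, hv⟩ hvc with e | e
          · exact Or.inl e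
          · exact Or.inr (Or.inl e)
        obtain ⟨i, hi⟩ := h.out_form (hHS w.2) hw
        obtain ⟨j, hj⟩ := h.out_form (hHS hv) hvc
        have hvw : ((⟨v, hv⟩ * w⁻¹ : H) : G) ∈ Subgroup.zpowers c := by
          rw [Subgroup.coe_mul, Subgroup.coe_inv, hi]
          show v * _ ∈ _
          rw [hj, show c ^ j * s * (c ^ i * s)⁻¹ = c ^ (j - i) by group]
          exact Subgroup.zpow_mem _ (Subgroup.mem_zpowers c) _
        rcases hzH _ hvw with e | e
        · rw [Subgroup.coe_mul, Subgroup.coe_inv, mul_inv_eq_one] at e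
          exact Or.inr (Or.inr (Or.inl e))
        · rw [Subgroup.coe_mul, Subgroup.coe_inv, mul_inv_eq_iff_eq_mul] at e
          exact Or.inr (Or.inr (Or.inr e))
      · push Not at ho
        refine ⟨1, fun v hv => ?_⟩
        rcases hzH ⟨v, hv⟩ (ho _) with e | e
        · exact Or.inl e
        · exact Or.inr (Or.inl e)
    obtain ⟨w, hw⟩ := hcases
    have hs : (H : Set G) ⊆ (({1, c ^ l, w, c ^ l * w} : Finset G) : Set G) := fun v hv => by
      simpa using hw v hv
    have h4 := Set.ncard_le_ncard hs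
    rw [← Nat.card_coe_set_eq, Set.ncard_coe_finset] at h4
    exact h4.trans Finset.card_le_four
  have h2 : Fact (Nat.Prime 2) := ⟨Nat.prime_two⟩
  obtain ⟨k, hk⟩ := IsPGroup.iff_card.mp hP
  have hk2 : k = 2 := by
    rcases lt_trichotomy k 2 with hk' | hk' | hk'
    · interval_cases k <;> omega
    · exact hk'
    · have : 2 ^ 3 ≤ 2 ^ k := Nat.pow_le_pow_right two_pos hk'
      omega
  refine ⟨by rw [hk, hk2]; norm_num, ?_⟩
  have hdvd : Monoid.exponent H ∣ 2 := Monoid.exponent_dvd_of_forall_pow_eq_one fun v => by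
    rw [pow_two]; exact hexp v
  rcases (Nat.dvd_prime Nat.prime_two).mp hdvd with e | e
  · exfalso
    have := Monoid.exp_eq_one_iff.mp e
    have : Nat.card H ≤ 1 := Finite.card_le_one_iff_subsingleton.mpr this
    omega
  · exact e

end DGen

/-- An element of odd order normalising a `2`-group whose odd automorphisms are trivial
centralises it. -/
theorem mem_centralizer_of_odd_aut [Finite G] {H : Subgroup G}
    (hA : ∀ φ : MulAut H, Odd (orderOf φ) → φ = 1) {g : G} (hg : g ∈ Subgroup.normalizer (H : Set G))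
    (hodd : Nat.Coprime (orderOf g) 2) : g ∈ Subgroup.centralizer (H : Set G) := by
  have ho : Odd (orderOf (⟨g, hg⟩ : Subgroup.normalizer (H : Set G))) := by
    rw [Subgroup.orderOf_mk]; exact Nat.coprime_two_right.mp hodd
  have h1 := hA (H.normalizerMonoidHom ⟨g, hg⟩) (ho.of_dvd_nat (orderOf_map_dvd _ _))
  have h2 : (⟨g, hg⟩ : Subgroup.normalizer (H : Set G)) ∈ H.normalizerMonoidHom.ker := h1
  rw [Subgroup.normalizerMonoidHom_ker] at h2
  exact h2

namespace DGen

variable [Finite G] {S : Sylow 2 G} {l : ℕ} {c s : G} (h : DGen (S : Subgroup G) l c s)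
include h

theorem mem_centralizer {H : Subgroup G} (hHS : H ≤ S) (hH : ¬ IsKleinFour H) {g : G}
    (hg : g ∈ Subgroup.normalizer (H : Set G)) (hodd : Nat.Coprime (orderOf g) 2) :
    g ∈ Subgroup.centralizer (H : Set G) :=
  mem_centralizer_of_odd_aut (h.odd_aut_trivial S.isPGroup' hHS hH) hg hodd

/-- Fusion of four-subgroups is controlled by the Sylow subgroup. -/
theorem klein_fusion {U : Subgroup G} (hU : IsKleinFour U) (hUS : U ≤ S) {g : G}
    (hg : U.map (MulAut.conj g).toMonoidHom ≤ S) :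
    ∃ t ∈ (S : Subgroup G), U.map (MulAut.conj g).toMonoidHom = U.map (MulAut.conj t).toMonoidHom := by
  have h2 : Fact (Nat.Prime 2) := ⟨Nat.prime_two⟩
  have key : ∀ (A : Set G) (g : G), Fusion.Conn S A g → ∀ U : Subgroup G, IsKleinFour U →
      (U : Set G) = A → U ≤ S →
      ∃ t ∈ (S : Subgroup G), U.map (MulAut.conj g⁻¹).toMonoidHom = U.map (MulAut.conj t).toMonoidHom := by
    intro A g hc
    induction hc with
    | refl A => intro U _ _ _; exact ⟨1, one_mem _, by simp⟩
    | step A g x Q hQ hA hx _ ih =>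
      intro U hU hUA hUS
      subst hUA
      set H := (S : Subgroup G) ⊓ (Q : Subgroup G) with hH
      obtain ⟨t₀, ht₀, hxt⟩ : ∃ t₀ ∈ (S : Subgroup G),
          U.map (MulAut.conj x⁻¹).toMonoidHom = U.map (MulAut.conj t₀).toMonoidHom := by
        by_cases hK : IsKleinFour H
        · refine ⟨1, one_mem _, ?_⟩
          have e : U = H := klein_eq_of_le hU hK hA
          rw [map_conj_one, e]
          exact mem_normalizer_iff_map_conj.mp (inv_mem hx)
        · obtain ⟨t, ht, htc⟩ := Fusion.exists_centralizer_mul (p := 2) S.isPGroup' hQ.1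
            (fun y hy hyo => h.mem_centralizer inf_le_left hK hy hyo) hx
          refine ⟨t⁻¹, inv_mem ht, SetLike.ext' ?_⟩
          rw [Subgroup.coe_map, Subgroup.coe_map]
          exact Set.image_congr fun u hu => by simpa using htc u (hA hu)
      have hU' : IsKleinFour (U.map (MulAut.conj x⁻¹).toMonoidHom : Subgroup G) :=
        klein_map hU _
      obtain ⟨t, ht, hgt⟩ := ih _ hU'
        (by
          rw [Subgroup.coe_map]
          exact Set.image_congr fun u _ => by simp)
        (by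
          rw [hxt]
          rintro _ ⟨u, hu, rfl⟩
          exact mul_mem (mul_mem ht₀ (hUS hu)) (inv_mem ht₀))
      refine ⟨t * t₀, mul_mem ht ht₀, ?_⟩
      rw [mul_inv_rev, ← map_conj_map_conj, hgt, hxt, map_conj_map_conj]
  have hc := Fusion.alperin (p := 2) S (A := (U : Set G)) (g := g⁻¹) hUS (by
    rintro _ ⟨u, hu, rfl⟩
    exact hg ⟨u, hu, by simp⟩)
  obtain ⟨t, ht, e⟩ := key _ _ hc U hU rfl hUS
  rw [inv_inv] at e
  exact ⟨t, ht, e⟩
where
  klein_map {U : Subgroup G} (hU : IsKleinFour U) (g : G) :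
      IsKleinFour (U.map (MulAut.conj g).toMonoidHom : Subgroup G) := by
    refine ⟨(card_map_conj U g).trans hU.card_four, ?_⟩
    rw [← hU.exponent_two]
    exact (Monoid.exponent_eq_of_mulEquiv
      (U.equivMapOfInjective _ (MulAut.conj g).injective)).symm

end DGen

end Cfsg.Agent.H39
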