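import Cfsg.Prelude.Def_TwoFusion
import Cfsg.Agent.H39.DihedralSylow
import Cfsg.Agent.S1853

/-!
Fusion in a finite group with dihedral Sylow 2-subgroups.
-/

namespace Cfsg.Agent.H39

universe u

variable {G : Type u} [Group G]

theorem commute_of_klein {U : Subgroup G} (hU : IsKleinFour U) {a b : G} (ha : a ∈ U) (hb : b ∈ U) :
    a * b = b * a := by
  have e : ∀ g ∈ U, g⁻¹ = g := fun g hg => inv_eq_of_mul_eq_one_right (klein_mul_self hU hg)
  calc a * b = (a * b)⁻¹ := (e _ (mul_mem ha hb)).symm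
    _ = b * a := by rw [mul_inv_rev, e a ha, e b hb]

/-- If an element of a four-group is fixed by its normaliser, the centraliser has index at most 2. -/
theorem klein_relIndex_le_of_fixed [Finite G] {U : Subgroup G} (hU : IsKleinFour U) {t a : G}
    (ht : t ∈ U) (ha : a ∈ U) (ht1 : t ≠ 1) (ha1 : a ≠ 1) (hta : t ≠ a)
    (hfix : ∀ g ∈ Subgroup.normalizer (U : Set G), g * t * g⁻¹ = t) :
    (Subgroup.centralizer (U : Set G)).relIndex (Subgroup.normalizer (U : Set G)) ≤ 2 := by
  have haa : a * a = 1 := klein_mul_self hU ha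
  have ho : ∀ u ∈ U, u ≠ 1 → orderOf u = 2 := fun u hu h1 =>
    orderOf_eq_two_of_mul_self (klein_mul_self hU hu) h1
  have hc := commute_of_klein hU ht ha
  obtain ⟨T, hT, hTm⟩ := klein_mk (ho t ht ht1) (ho a ha ha1) hta hc
  have hmem : ∀ u, u ∈ U ↔ u = 1 ∨ u = t ∨ u = a ∨ u = t * a := by
    have hTU : T = U := klein_eq_of_le hT hU fun v hv => by
      rcases (hTm v).mp hv with rfl | rfl | rfl | rfl
      exacts [one_mem _, ht, ha, mul_mem ht ha]
    rw [← hTU]; exact hTm
  -- elements fixing `a` centralise `U`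
  have hcen : ∀ g ∈ Subgroup.normalizer (U : Set G), g * a * g⁻¹ = a →
      g ∈ Subgroup.centralizer (U : Set G) := by
    intro g hg e
    rw [Subgroup.mem_centralizer_iff]
    intro u hu
    refine (mul_inv_eq_iff_eq_mul.mp ?_).symm
    rcases (hmem u).mp hu with rfl | rfl | rfl | rfl
    · group
    · exact hfix g hg
    · exact e
    · rw [← conj_mul, hfix g hg, e]
  have himg : ∀ g ∈ Subgroup.normalizer (U : Set G), g * a * g⁻¹ = a ∨ g * a * g⁻¹ = t * a := by
    intro g hg
    rcases (hmem _).mp ((Subgroup.mem_normalizer_iff.mp hg a).mp ha) with e | e | e | e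
    · exact absurd (conj_eq_one_iff.mp e) ha1
    · refine absurd ?_ hta.symm
      rw [← hfix g hg] at e
      exact mul_left_cancel (mul_right_cancel e)
    · exact Or.inl e
    · exact Or.inr e
  set N := Subgroup.normalizer (U : Set G)
  set C := Subgroup.centralizer (U : Set G)
  by_cases hmove : ∃ g ∈ N, g * a * g⁻¹ = t * a
  · obtain ⟨w, hw, hwa⟩ := hmove
    have hwC : w ∉ C := fun hm => by
      rw [← Subgroup.mem_centralizer_iff.mp hm a ha, mul_inv_cancel_right] at hwa
      exact ht1 (mul_eq_right.mp hwa.symm)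
    refine le_of_eq (Subgroup.relIndex_eq_two_iff.mpr ⟨w⁻¹, inv_mem hw, fun g hg => ?_⟩)
    rcases himg g hg with e | e
    · exact Or.inr ⟨hcen g hg e, fun hm => hwC (by
        simpa using inv_mem ((C.mul_mem_cancel_left (hcen g hg e)).mp hm))⟩
    · refine Or.inl ⟨hcen _ (mul_mem hg (inv_mem hw)) ?_, fun hm => ?_⟩
      · have e1 : w⁻¹ * (t * a) * w = a := by rw [← hwa]; group
        have e2 : w⁻¹ * a * w = t * a := by
          have ht' : w⁻¹ * t * w = t := by simpa using hfix w⁻¹ (inv_mem hw)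
          calc w⁻¹ * a * w = (w⁻¹ * t * w) * (w⁻¹ * (t * a) * w) := by
                rw [show (w⁻¹ * t * w) * (w⁻¹ * (t * a) * w) = w⁻¹ * (t * t) * a * w by group,
                  klein_mul_self hU ht, mul_one]
            _ = t * a := by rw [ht', e1]
        calc g * w⁻¹ * a * (g * w⁻¹)⁻¹ = g * (w⁻¹ * a * w) * g⁻¹ := by group
          _ = g * t * g⁻¹ * (g * a * g⁻¹) := by rw [e2]; group
          _ = t * (t * a) := by rw [hfix g hg, e]
          _ = a := by rw [← mul_assoc, klein_mul_self hU ht, one_mul]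
      · rw [← Subgroup.mem_centralizer_iff.mp hm a ha, mul_inv_cancel_right] at e
        exact ht1 (mul_eq_right.mp e.symm)
  · push Not at hmove
    have : C.relIndex N = 1 := Subgroup.relIndex_eq_one.mpr fun g hg =>
      hcen g hg ((himg g hg).resolve_right (hmove g hg))
    omega

/-- A four-group whose normaliser induces at least three automorphisms has conjugate involutions. -/
theorem klein_isConj_of_relIndex [Finite G] {U : Subgroup G} (hU : IsKleinFour U)
    (h3 : 3 ≤ (Subgroup.centralizer (U : Set G)).relIndex (Subgroup.normalizer (U : Set G)))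
    {a b : G} (ha : a ∈ U) (hb : b ∈ U) (ha1 : a ≠ 1) (hb1 : b ≠ 1) : IsConj a b := by
  by_cases hab : a = b
  · exact hab ▸ IsConj.refl _
  have hmove : ∀ t u : G, t ∈ U → u ∈ U → t ≠ 1 → u ≠ 1 → t ≠ u → IsConj t u ∨ IsConj t (t * u) := by
    intro t u ht hu ht1 hu1 htu
    by_contra hcon
    push Not at hcon
    refine absurd (klein_relIndex_le_of_fixed hU ht hu ht1 hu1 htu fun g hg => ?_) (by omega)
    have ho : ∀ v ∈ U, v ≠ 1 → orderOf v = 2 := fun v hv h1 =>
      orderOf_eq_two_of_mul_self (klein_mul_self hU hv) h1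
    obtain ⟨T, hT, hTm⟩ := klein_mk (ho t ht ht1) (ho u hu hu1) htu (commute_of_klein hU ht hu)
    have hTU : T = U := klein_eq_of_le hT hU fun v hv => by
      rcases (hTm v).mp hv with rfl | rfl | rfl | rfl
      exacts [one_mem _, ht, hu, mul_mem ht hu]
    rcases (hTm _).mp (hTU.symm ▸ (Subgroup.mem_normalizer_iff.mp hg t).mp ht) with e | e | e | e
    · exact absurd (conj_eq_one_iff.mp e) ht1
    · exact e
    · exact absurd (isConj_iff.mpr ⟨g, e⟩) hcon.1
    · exact absurd (isConj_iff.mpr ⟨g, e⟩) hcon.2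
  rcases hmove a b ha hb ha1 hb1 hab with e | e
  · exact e
  rcases hmove b a hb ha hb1 ha1 (Ne.symm hab) with e' | e'
  · exact e'.symm
  · rw [commute_of_klein hU hb ha] at e'
    exact e.trans e'.symm

namespace DGen

variable [Finite G] {S : Subgroup G} {l : ℕ} {c s : G} (h : DGen S l c s)
include h

theorem zpowers_le : Subgroup.zpowers c ≤ S := Subgroup.zpowers_le.mpr h.mem_c

theorem mul_out {g g' : G} (hg : g ∈ S) (hg' : g' ∈ S) :
    g * g' ∈ Subgroup.zpowers c ↔ (g ∈ Subgroup.zpowers c ↔ g' ∈ Subgroup.zpowers c) := by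
  by_cases h1 : g ∈ Subgroup.zpowers c
  · rw [Subgroup.mul_mem_cancel_left _ h1]; simp [h1]
  by_cases h2 : g' ∈ Subgroup.zpowers c
  · rw [Subgroup.mul_mem_cancel_right _ h2]; simp [h2]
  obtain ⟨i, rfl⟩ := h.out_form hg h1
  obtain ⟨j, rfl⟩ := h.out_form hg' h2
  refine iff_of_true ?_ (iff_of_false h1 h2)
  have e := h.out_conj 0 j
  rw [zpow_zero, one_mul, inv_eq_of_orderOf_eq_two h.os] at e
  rw [show c ^ i * s * (c ^ j * s) = c ^ i * (s * c ^ j * s) by group, e, ← zpow_add]
  exact Subgroup.zpow_mem _ (Subgroup.mem_zpowers c) _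

open Classical in
/-- The character with kernel the cyclic maximal subgroup. -/
noncomputable def sign : S →* Multiplicative (ZMod 2) :=
  MonoidHom.mk' (fun g => if (g : G) ∈ Subgroup.zpowers c then 1 else Multiplicative.ofAdd 1)
    fun g g' => by
      have := h.mul_out g.2 g'.2
      by_cases h1 : (g : G) ∈ Subgroup.zpowers c <;> by_cases h2 : (g' : G) ∈ Subgroup.zpowers c <;>
        simp [h1, h2, this] <;> decide

theorem sign_eq_one {g : S} : h.sign g = 1 ↔ (g : G) ∈ Subgroup.zpowers c := by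
  classical
  unfold sign
  simp only [MonoidHom.mk'_apply]
  split
  · simp [*]
  · simp [*]

theorem conj_reflection (i j : ℤ) : c ^ j * (c ^ i * s) * (c ^ j)⁻¹ = c ^ (i + 2 * j) * s := by
  have e := h.out_conj 0 (-j)
  rw [zpow_zero, one_mul, neg_neg] at e
  calc c ^ j * (c ^ i * s) * (c ^ j)⁻¹ = c ^ (j + i) * (s * c ^ (-j) * s⁻¹) * s := by group
    _ = _ := by rw [e, ← zpow_add]; ring_nf

theorem klein_eq_of_mem {U V : Subgroup G} (hU : IsKleinFour U) (hV : IsKleinFour V) (hUS : U ≤ S)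
    (hVS : V ≤ S) {i : ℤ} (hiU : c ^ i * s ∈ U) (hiV : c ^ i * s ∈ V) : U = V := by
  obtain ⟨j, hjU, -, hm⟩ := h.klein_char hU hUS
  obtain ⟨k, -, hzV, -⟩ := h.klein_char hV hVS
  have hj : c ^ j * s ∈ V := by
    have hne : c ^ i * s ≠ c ^ l := fun e =>
      h.out_not_mem i (e ▸ Subgroup.pow_mem _ (Subgroup.mem_zpowers c) l)
    rcases (hm _).mp hiU with e | e | e | e
    · exact absurd (e ▸ h.orderOf_out i) (by simp)
    · exact absurd e hne
    · exact e ▸ hiV
    · rw [show c ^ j * s = (c ^ l)⁻¹ * (c ^ i * s) by rw [e, inv_mul_cancel_left]]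
      exact mul_mem (inv_mem hzV) hiV
  refine klein_eq_of_le hU hV fun g hg => ?_
  rcases (hm g).mp hg with rfl | rfl | rfl | rfl
  exacts [one_mem _, hzV, hj, mul_mem hzV hj]

end DGen

namespace DGen

variable [Finite G] {S : Sylow 2 G} {l : ℕ} {c s : G} (h : DGen (S : Subgroup G) l c s)
include h

theorem isConj_z_of_no_index_two (hno : ∀ H : Subgroup G, H.index ≠ 2) {v : G} (hv : orderOf v = 2) :
    IsConj (c ^ l) v := by
  have h2 : Fact (Nat.Prime 2) := ⟨Nat.prime_two⟩
  have hhom : ∀ f : G →* Multiplicative (ZMod 2), f = 1 := by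
    intro f
    rcases (Nat.dvd_prime Nat.prime_two).mp
      (show Nat.card f.range ∣ 2 by simpa using f.range.card_subgroup_dvd_card) with e | e
    · rw [← Subgroup.index_ker, Subgroup.index_eq_one] at e
      exact MonoidHom.ker_eq_top_iff.mp e
    · rw [← Subgroup.index_ker] at e
      exact absurd e (hno _)
  have hvp : IsPGroup 2 (Subgroup.zpowers v) :=
    IsPGroup.of_card (n := 1) (by rw [Nat.card_zpowers, hv, pow_one])
  obtain ⟨x, hx⟩ := exists_conj_le_sylow hvp S
  have hw := hx v (Subgroup.mem_zpowers v)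
  have hwo : orderOf (x * v * x⁻¹) = 2 := by rw [orderOf_conj, hv]
  refine IsConj.trans ?_ (isConj_iff.mpr ⟨x, rfl⟩ : IsConj v (x * v * x⁻¹)).symm
  by_cases hwc : x * v * x⁻¹ ∈ Subgroup.zpowers c
  · rcases h.sq_one_cases hwc (mul_self_of_orderOf_eq_two hwo) with e | e
    · exact absurd e (ne_one_of_orderOf_eq_two hwo)
    · rw [e]
  obtain ⟨g, -, hg, hg1⟩ := Cfsg.Agent.S1853.exists_conj_mem S h.sign hhom (x * v * x⁻¹) hwo hw
    (fun e => hwc (h.sign_eq_one.mp e)) (Subgroup.zpowers (x * v * x⁻¹))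
    (IsPGroup.of_card (n := 1) (by rw [Nat.card_zpowers, hwo, pow_one]))
    (Subgroup.mem_zpowers _)
    (Subgroup.zpowers_le.mpr (Subgroup.mem_centralizer_singleton_iff.mpr rfl))
  have e := h.sign_eq_one.mp hg1
  have hgo : orderOf (g⁻¹ * (x * v * x⁻¹) * g) = 2 := by
    rw [← hwo]; simpa using orderOf_conj g⁻¹ (x * v * x⁻¹)
  rcases h.sq_one_cases e (mul_self_of_orderOf_eq_two hgo) with e1 | e1
  · exact absurd e1 (ne_one_of_orderOf_eq_two hgo)
  · rw [← e1]
    exact isConj_iff.mpr ⟨g, by group⟩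

theorem no_index_two (hA : ∀ a b : G, orderOf a = 2 → orderOf b = 2 → IsConj a b) (H : Subgroup G) :
    H.index ≠ 2 := by
  intro hH
  have h2 : Fact (Nat.Prime 2) := ⟨Nat.prime_two⟩
  have hn := Subgroup.normal_of_index_eq_two hH
  have hsame : ∀ a b : G, orderOf a = 2 → orderOf b = 2 → a ∈ H → b ∈ H := by
    intro a b ha hb hm
    obtain ⟨g, rfl⟩ := isConj_iff.mp (hA a b ha hb)
    exact hn.conj_mem a hm g
  have hall : ∀ a : G, orderOf a = 2 → a ∈ H := by
    have hz := h.z_order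
    have hzs : orderOf (c ^ l * s) = 2 := by simpa using h.orderOf_out (l : ℤ)
    intro a ha
    by_contra hcon
    have h1 : c ^ l ∉ H := fun hm => hcon (hsame _ a hz ha hm)
    have h2 : s ∉ H := fun hm => hcon (hsame _ a h.os ha hm)
    exact hcon (hsame _ a hzs ha ((Subgroup.mul_mem_iff_of_index_two hH).mpr (iff_of_false h1 h2)))
  have hcs : orderOf (c ^ (1 : ℤ) * s) = 2 := h.orderOf_out 1
  have hc : c ∈ H := by
    have := mul_mem (hall _ hcs) (hall _ h.os)
    rwa [zpow_one, mul_assoc, mul_self_of_orderOf_eq_two h.os, mul_one] at this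
  have hSH : (S : Subgroup G) ≤ H := fun g hg => by
    by_cases hgc : g ∈ Subgroup.zpowers c
    · exact Subgroup.zpowers_le.mpr hc hgc
    · obtain ⟨i, rfl⟩ := h.out_form hg hgc
      exact mul_mem (Subgroup.zpow_mem _ hc i) (hall _ h.os)
  have hd := Subgroup.index_dvd_of_le hSH
  rw [hH] at hd
  exact S.not_dvd_index hd

omit [Finite G] in
theorem no_isolated (hA : ∀ a b : G, orderOf a = 2 → orderOf b = 2 → IsConj a b) (v : G) :
    ¬ Cfsg.IsIsolatedInvolution v := by
  intro hv
  obtain ⟨g, hg⟩ := isConj_iff.mp (hA _ v h.z_order hv.1)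
  have hw : orderOf (g * s * g⁻¹) = 2 := by rw [orderOf_conj, h.os]
  obtain ⟨k, hk⟩ := isConj_iff.mp (hA v _ hv.1 hw)
  have hcm : Commute v (g * s * g⁻¹) := by
    rw [← hg]
    show g * c ^ l * g⁻¹ * (g * s * g⁻¹) = g * s * g⁻¹ * (g * c ^ l * g⁻¹)
    rw [show g * c ^ l * g⁻¹ * (g * s * g⁻¹) = g * (c ^ l * s) * g⁻¹ by group, ← h.z_central h.mem_s]
    group
  have e := hv.2 k (hk ▸ hcm)
  rw [hk, ← hg] at e
  exact h.out (by rw [mul_left_cancel (mul_right_cancel e)]; exact Subgroup.pow_mem _ (Subgroup.mem_zpowers c) l)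

end DGen

end Cfsg.Agent.H39
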