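import Mathlib.GroupTheory.Transfer
import Mathlib.GroupTheory.Abelianization.Defs

/-!
Evaluation of the transfer on an element whose powers have controlled conjugates.
-/

namespace Cfsg.Agent.H39

open MulAction Subgroup

variable {G : Type*} [Group G] [Finite G] {H : Subgroup G} {A : Type*} [CommGroup A]

theorem transfer_eq_pow_of_map_eq (φ : H →* A) (x : H)
    (key : ∀ (k : ℕ) (a : G) (h : a⁻¹ * (x : G) ^ k * a ∈ H),
      φ ⟨a⁻¹ * (x : G) ^ k * a, h⟩ = φ x ^ k) :
    MonoidHom.transfer φ (x : G) = φ x ^ H.index := by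
  have : Fintype (Quotient (MulAction.orbitRel (zpowers (x : G)) (G ⧸ H))) := Fintype.ofFinite _
  rw [MonoidHom.transfer_eq_prod_quotient_orbitRel_zpowers_quot, index_eq_sum_minimalPeriod H (x : G),
    ← Finset.prod_pow_eq_pow_sum]
  exact Finset.prod_congr rfl fun q _ => key _ _ _

end Cfsg.Agent.H39
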