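import Cfsg.Prelude.Def_TwoFusion
import Cfsg.Agent.H39.Dihedral
import Mathlib.GroupTheory.Index

/-!
Elementary theory of an isolated involution.
-/

namespace Cfsg.Agent.H39

variable {G : Type*} [Group G] [Finite G]

omit [Finite G] in
theorem isolated_conj {z : G} (hz : Cfsg.IsIsolatedInvolution z) (g : G) :
    Cfsg.IsIsolatedInvolution (g * z * g⁻¹) := by
  refine ⟨by rw [orderOf_conj]; exact hz.1, fun x hx => ?_⟩
  have h := hz.2 (g⁻¹ * x * g) (by
    have h2 := congrArg (fun y => g⁻¹ * y * g) hx.eq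
    exact (show _ = _ by simpa [mul_assoc] using h2))
  have h3 := congrArg (fun y => g * y * g⁻¹) h
  simpa [mul_assoc] using h3

/-- The product of two conjugates of an isolated involution has odd order. -/
theorem isolated_odd {z : G} (hz : Cfsg.IsIsolatedInvolution z) (g : G) :
    Odd (orderOf ((g * z * g⁻¹) * z)) := by
  set b := g * z * g⁻¹ with hb
  set d := b * z with hd
  have hbo : orderOf b = 2 := by rw [hb, orderOf_conj]; exact hz.1
  by_contra hodd
  obtain ⟨l, hl⟩ := Nat.not_odd_iff_even.mp hodd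
  have hinv := conj_mul_involutions hz.1 hbo
  rw [← hd] at hinv
  have hpos := orderOf_pos d
  have hw2 : (d ^ l) * (d ^ l) = 1 := by rw [← pow_add, ← hl, pow_orderOf_eq_one]
  have hwne : d ^ l ≠ 1 := pow_ne_one_of_lt_orderOf (by omega) (by omega)
  have hcz : Commute z (d ^ l * z) := by
    have : z * d ^ l * z⁻¹ = d ^ l := by
      rw [← conj_pow, hinv, inv_pow]
      exact inv_eq_of_mul_eq_one_left hw2
    have h' : Commute z (d ^ l) := mul_inv_eq_iff_eq_mul.mp this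
    exact h'.mul_right (Commute.refl z)
  -- a conjugate of `z` equal to `d ^ l * z`
  obtain ⟨c, hc⟩ : ∃ c : G, c * z * c⁻¹ = d ^ l * z := by
    rcases Nat.even_or_odd l with ⟨m, hm⟩ | ⟨m, hm⟩
    · refine ⟨d ^ (m : ℤ), ?_⟩
      have h := zpow_conj_mul hinv (m : ℤ) 0
      rw [zpow_zero, one_mul] at h
      rw [h, show (0 : ℤ) + 2 * (m : ℤ) = (l : ℤ) by omega, zpow_natCast d l]
    · refine ⟨d ^ (m : ℤ) * g, ?_⟩
      have hbd : d ^ (1 : ℤ) * z = b := by
        rw [zpow_one, hd, mul_assoc, mul_self_of_orderOf_eq_two hz.1, mul_one]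
      have h := zpow_conj_mul hinv (m : ℤ) 1
      rw [hbd, hb, show (1 : ℤ) + 2 * (m : ℤ) = (l : ℤ) by omega, zpow_natCast d l] at h
      rw [← h]; simp [mul_assoc]
  have := hz.2 c (hc ▸ hcz)
  rw [hc] at this
  exact hwne (mul_eq_right.mp this)

/-- For each conjugate `b` of an isolated `z` there is exactly one odd order element inverted by
`z` carrying `z` to `b`. -/
theorem isolated_existsUnique {z : G} (hz : Cfsg.IsIsolatedInvolution z) (g : G) :
    ∃! k : G, (Odd (orderOf k) ∧ z * k * z⁻¹ = k⁻¹) ∧ k * z * k⁻¹ = g * z * g⁻¹ := by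
  have hbo : orderOf (g * z * g⁻¹) = 2 := by rw [orderOf_conj]; exact hz.1
  obtain ⟨k, hk1, hk2, hk3, hk4⟩ := exists_conj_of_odd hz.1 hbo (isolated_odd hz g)
  refine ⟨k, ⟨⟨(isolated_odd hz g).of_dvd_nat (orderOf_dvd_of_mem_zpowers hk1), hk3⟩, hk4⟩, ?_⟩
  rintro k' ⟨⟨hk'o, hk'i⟩, hk'c⟩
  have hsq : k' * k' = g * z * g⁻¹ * z := by
    rw [← hk'c, inv_eq_of_orderOf_eq_two hz.1] at *
    rw [mul_assoc (k' * z) k'⁻¹ z, ← hk'i]
    simp [mul_assoc, mul_self_of_orderOf_eq_two hz.1]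
    simp [← mul_assoc, mul_self_of_orderOf_eq_two hz.1]
  -- `k'` is a power of `k' * k'`
  obtain ⟨j, hj⟩ := hk'o
  have hk'mem : k' ∈ Subgroup.zpowers (g * z * g⁻¹ * z) := by
    refine ⟨((j + 1 : ℕ) : ℤ), ?_⟩
    show (g * z * g⁻¹ * z) ^ _ = k'
    rw [zpow_natCast, ← hsq, ← sq, ← pow_mul, show 2 * (j + 1) = (2 * j + 1) + 1 by ring, ← hj,
      pow_succ, pow_orderOf_eq_one, one_mul]
  have hcomm : Commute k k' := by
    obtain ⟨a, rfl⟩ := hk1; obtain ⟨b, rfl⟩ := hk'mem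
    exact (Commute.refl _).zpow_zpow a b
  have h1 : (k⁻¹ * k') * (k⁻¹ * k') = 1 := by
    rw [show (k⁻¹ * k') * (k⁻¹ * k') = k⁻¹ * k⁻¹ * (k' * k') by
      rw [← mul_assoc, mul_assoc k⁻¹ k' k⁻¹, ← (hcomm.inv_left).eq]; simp [mul_assoc]]
    rw [hsq, ← hk2]; simp [mul_assoc]
  have h2 : Odd (orderOf (k⁻¹ * k')) :=
    (isolated_odd hz g).of_dvd_nat
      (orderOf_dvd_of_mem_zpowers (mul_mem (inv_mem hk1) hk'mem))
  by_contra hne
  have h3 : k⁻¹ * k' ≠ 1 := fun h => hne (inv_mul_eq_one.mp h).symm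
  rw [orderOf_eq_two_of_mul_self h1 h3] at h2
  exact absurd h2 (by decide)

omit [Finite G] in
theorem mem_centralizer_iff_conj_eq {z g k : G} :
    g⁻¹ * k ∈ Subgroup.centralizer ({z} : Set G) ↔ k * z * k⁻¹ = g * z * g⁻¹ := by
  rw [Subgroup.mem_centralizer_singleton_iff]
  constructor
  · intro h
    have := congrArg (fun x => g * x * k⁻¹) h
    simpa [mul_assoc] using this
  · intro h
    have := congrArg (fun x => g⁻¹ * x * k) h
    simpa [mul_assoc] using this

end Cfsg.Agent.H39
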