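import Cfsg.Agent.H39.Wreath
import Cfsg.Agent.PGroups.TwoGroups
import Mathlib.GroupTheory.SpecificGroups.KleinFour
import Mathlib.GroupTheory.Commutator.Basic
import Mathlib.Algebra.Group.Subgroup.Map

/-!
Named subgroups of a wreathed group: centre, derived group, the quaternion subgroup, the subgroup
generated by the involutions.
-/

namespace Cfsg.Agent.H39

open scoped commutatorElement

variable {S : Type*} [Group S]

theorem orderOf_eq_of_zpow {g : S} {N : ℕ} (h : ∀ k : ℤ, g ^ k = 1 ↔ (N : ℤ) ∣ k) :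
    orderOf g = N :=
  Nat.dvd_antisymm
    (Int.natCast_dvd_natCast.mp (orderOf_dvd_iff_zpow_eq_one.mpr ((h N).mpr dvd_rfl)))
    (Int.natCast_dvd_natCast.mp ((h (orderOf g)).mp (by rw [zpow_natCast, pow_orderOf_eq_one])))

theorem dvd_of_eq' {d s t : ℤ} (h : d ∣ s) (e : s = t) : d ∣ t := e ▸ h

theorem conjClasses_eq_of_conj {g a b : S} (h : g * a * g⁻¹ = b) :
    ConjClasses.mk a = ConjClasses.mk b :=
  ConjClasses.mk_eq_mk_iff_isConj.mpr (isConj_iff.mpr ⟨g, h⟩)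

theorem card_eq_two_mul_inf {B : Subgroup S} (hB : B.index = 2) {U : Subgroup S} (hU : ¬ U ≤ B) :
    Nat.card U = 2 * Nat.card (U ⊓ B : Subgroup S) := by
  have := Subgroup.normal_of_index_eq_two hB
  have h1 : B.relIndex U = 2 := by
    rcases (Nat.dvd_prime Nat.prime_two).mp (hB ▸ Subgroup.relIndex_dvd_index_of_normal (H := B) (K := U)) with e | e
    · exact absurd (Subgroup.relIndex_eq_one.mp e) hU
    · exact e
  have h2 := (B.subgroupOf U).card_mul_index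
  rw [show (B.subgroupOf U).index = 2 from h1,
    show Nat.card (B.subgroupOf U) = Nat.card (U ⊓ B : Subgroup S) by
      rw [inf_comm, ← Subgroup.inf_subgroupOf_right B U,
        Nat.card_congr (Subgroup.subgroupOfEquivOfLe inf_le_right).toEquiv]] at h2
  omega

namespace WGen

variable {m : ℕ} {x y z : S} (h : WGen m x y z)
include h

theorem natN : ((2 ^ (m + 2) : ℕ) : ℤ) = 4 * 2 ^ m := by push_cast; ring

theorem eq_n {n : ℕ} (hn : Nat.card S = 2 ^ (2 * n + 1)) : n = m + 2 := by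
  have := Nat.pow_right_injective le_rfl (h.card.symm.trans hn)
  omega

theorem out_not_mem_base (a b : ℤ) : x ^ a * y ^ b * z ∉ h.base := by
  rintro ⟨c, d, e⟩
  exact h.out_ne_in a b c d e

theorem one_not_dvd : ¬ (4 * 2 ^ m : ℤ) ∣ 1 := fun h1 => by
  have := Int.le_of_dvd one_pos h1
  have : (0 : ℤ) < 2 ^ m := by positivity
  omega

theorem half_not_dvd : ¬ (4 * 2 ^ m : ℤ) ∣ 2 * 2 ^ m := fun h1 => by
  have := Int.le_of_dvd (by positivity) h1
  have : (0 : ℤ) < 2 ^ m := by positivity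
  omega

theorem diag_zpow (a : ℤ) : (x * y) ^ a = x ^ a * y ^ a := h.comm.mul_zpow a

theorem anti_zpow (a : ℤ) : (x * y⁻¹) ^ a = x ^ a * y ^ (-a) := by
  rw [h.comm.inv_right.mul_zpow, inv_zpow']

theorem orderOf_diag : orderOf (x * y) = 2 ^ (m + 2) := by
  refine orderOf_eq_of_zpow fun k => ?_
  rw [h.diag_zpow, h.pq_eq_one, h.natN, and_self_iff]

theorem orderOf_anti : orderOf (x * y⁻¹) = 2 ^ (m + 2) := by
  refine orderOf_eq_of_zpow fun k => ?_
  rw [h.anti_zpow, h.pq_eq_one, h.natN, dvd_neg, and_self_iff]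

theorem in_mem_center {a b : ℤ} :
    x ^ a * y ^ b ∈ Subgroup.center S ↔ (4 * 2 ^ m : ℤ) ∣ a - b := by
  rw [Subgroup.mem_center_iff]
  constructor
  · intro hc
    have := hc (x ^ (0 : ℤ) * y ^ (0 : ℤ) * z)
    exact h.commute_out_in.mp this.symm
  · intro hd g
    have e : x ^ a * y ^ b = x ^ a * y ^ a := h.pq_eq.mpr ⟨by simp, by rw [← dvd_neg, neg_sub]; exact hd⟩
    rw [e]; exact h.diag_central a g

theorem out_not_mem_center (a b : ℤ) : x ^ a * y ^ b * z ∉ Subgroup.center S := by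
  rw [Subgroup.mem_center_iff]
  intro hc
  have := hc (x ^ (1 : ℤ) * y ^ (0 : ℤ))
  rw [h.commute_out_in, sub_zero] at this
  exact h.one_not_dvd this

theorem center_le_base : Subgroup.center S ≤ h.base := by
  intro g hg
  rcases h.cases_elem g with ⟨a, b, rfl⟩ | ⟨a, b, rfl⟩
  · exact h.in_mem_base a b
  · exact absurd hg (h.out_not_mem_center a b)

theorem center_eq : Subgroup.center S = Subgroup.zpowers (x * y) := by
  refine le_antisymm (fun g hg => ?_) ?_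
  · obtain ⟨a, b, rfl⟩ := h.center_le_base hg
    refine ⟨a, ?_⟩
    show (x * y) ^ a = _
    rw [h.diag_zpow, h.pq_eq]
    exact ⟨by simp, h.in_mem_center.mp hg⟩
  · rw [Subgroup.zpowers_le, ← zpow_one (x * y), h.diag_zpow, h.in_mem_center]
    simp

theorem anti_mem {a b : ℤ} (e : a + b = 0) :
    x ^ a * y ^ b ∈ Subgroup.zpowers (x * y⁻¹) :=
  ⟨a, by show (x * y⁻¹) ^ a = _; rw [h.anti_zpow, show b = -a by linarith]⟩

theorem commutatorElement_mem (g g' : S) : ⁅g, g'⁆ ∈ Subgroup.zpowers (x * y⁻¹) := by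
  rw [commutatorElement_def]
  rcases h.cases_elem g with ⟨c, d, rfl⟩ | ⟨c, d, rfl⟩ <;>
    rcases h.cases_elem g' with ⟨a, b, rfl⟩ | ⟨a, b, rfl⟩
  · rw [h.conj_in_by_in, mul_inv_cancel]; exact one_mem _
  · rw [h.conj_out_by_in, h.out_inv, h.out_mul_out]; exact h.anti_mem (by ring)
  · rw [h.conj_in_by_out, h.in_inv, h.mul_in]; exact h.anti_mem (by ring)
  · rw [h.conj_out_by_out, h.out_inv, h.out_mul_out]; exact h.anti_mem (by ring)

theorem commutator_eq : commutator S = Subgroup.zpowers (x * y⁻¹) := by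
  refine le_antisymm ?_ ?_
  · rw [commutator_def, Subgroup.commutator_le]
    exact fun g _ g' _ => h.commutatorElement_mem g g'
  · rw [Subgroup.zpowers_le]
    have e : ⁅x, z⁆ = x * y⁻¹ := by
      rw [commutatorElement_def, ← h.swap]; group
    rw [← e, commutator_def]
    exact Subgroup.commutator_mem_commutator (Subgroup.mem_top x) (Subgroup.mem_top z)

theorem quotient_dihedral [Finite S] :
    Nonempty (S ⧸ Subgroup.center S ≃* DihedralGroup (2 ^ (m + 2))) := by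
  let f := QuotientGroup.mk' (Subgroup.center S)
  have hmk : ∀ g, f g = 1 ↔ g ∈ Subgroup.center S := fun g => QuotientGroup.eq_one_iff g
  have hxc : ∀ k : ℤ, f x ^ k = 1 ↔ (4 * 2 ^ m : ℤ) ∣ k := fun k => by
    rw [← map_zpow, hmk]
    simpa using h.in_mem_center (a := k) (b := 0)
  refine Cfsg.Agent.PGroups.nonempty_mulEquiv_dihedral (c := f x) (y := f z)
    (orderOf_eq_of_zpow fun k => by rw [hxc, h.natN]) ?_ ?_ ?_ ?_
  · rintro ⟨k, hk⟩
    have : x ^ (-k) * y ^ (0 : ℤ) * z ∈ Subgroup.center S := by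
      rw [← hmk, map_mul, map_mul, map_zpow, map_zpow, ← show f x ^ k = f z from hk]
      simp
    exact h.out_not_mem_center _ _ this
  · rw [← map_pow, pow_two, h.z_mul_self, map_one]
  · rw [← map_inv, ← map_mul, ← map_mul, h.swap, eq_inv_iff_mul_eq_one, ← map_mul, hmk,
      ← h.comm.eq]
    simpa using h.in_mem_center (a := 1) (b := 1)
  · have e := (Subgroup.center S).card_mul_index
    rw [h.center_eq, Nat.card_zpowers, h.orderOf_diag, ← h.center_eq, h.card,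
      Subgroup.index_eq_card] at e
    refine Nat.eq_of_mul_eq_mul_left (show 0 < 2 ^ (m + 2) by positivity) (e.trans ?_)
    ring

theorem abelian_eq_base [Finite S] {U : Subgroup S} (hU : IsMulCommutative U)
    (hc : Nat.card U = 2 ^ (2 * (m + 2))) : U = h.base := by
  refine Subgroup.eq_of_le_of_card_ge ?_ (by rw [h.card_base, hc])
  by_contra hle
  obtain ⟨g, hg, hgb⟩ := SetLike.not_le_iff_exists.mp hle
  obtain ⟨a, b, rfl⟩ := (h.cases_elem g).resolve_left hgb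
  have h1 : U ⊓ h.base ≤ Subgroup.zpowers (x * y) := by
    rintro t ⟨ht, c, d, rfl⟩
    have e := h.commute_out_in.mp (congrArg Subtype.val (mul_comm' (⟨_, ht⟩ : U) ⟨_, hg⟩))
    rw [← h.center_eq]
    exact h.in_mem_center.mpr e
  have h2 := Subgroup.card_le_of_le h1
  rw [Nat.card_zpowers, h.orderOf_diag] at h2
  have h3 := card_eq_two_mul_inf h.index_base hle
  rw [hc] at h3
  have h4 : 2 ^ (2 * (m + 2)) ≤ 2 * 2 ^ (m + 2) := by omega
  rw [← pow_succ'] at h4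
  have := (Nat.pow_le_pow_iff_right Nat.one_lt_two).mp h4
  omega

theorem base_comm : IsMulCommutative h.base := by
  obtain ⟨e⟩ := h.base_equiv
  exact ⟨⟨fun a b => e.injective (by rw [map_mul, map_mul, mul_comm])⟩⟩

/-- The elements whose exponent sum is `0` resp. `e` modulo `d`, inside resp. outside the base. -/
def sumSub (d e : ℤ) (hd : d ∣ 4 * 2 ^ m) (he : d ∣ 2 * e) : Subgroup S where
  carrier := {g | (∃ a b : ℤ, g = x ^ a * y ^ b ∧ d ∣ a + b) ∨
    ∃ a b : ℤ, g = x ^ a * y ^ b * z ∧ d ∣ a + b - e}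
  one_mem' := Or.inl ⟨0, 0, by simp⟩
  mul_mem' := by
    rintro g g' (⟨a, b, rfl, h1⟩ | ⟨a, b, rfl, h1⟩) (⟨a', b', rfl, h2⟩ | ⟨a', b', rfl, h2⟩)
    · exact Or.inl ⟨_, _, h.mul_in a b a' b', dvd_of_eq' (h1.add h2) (by ring)⟩
    · exact Or.inr ⟨_, _, h.mul_out a b a' b', dvd_of_eq' (h1.add h2) (by ring)⟩
    · exact Or.inr ⟨_, _, h.out_mul_in a b a' b', dvd_of_eq' (h1.add h2) (by ring)⟩
    · exact Or.inl ⟨_, _, h.out_mul_out a b a' b', dvd_of_eq' ((h1.add h2).add he) (by ring)⟩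
  inv_mem' := by
    rintro g (⟨a, b, rfl, h1⟩ | ⟨a, b, rfl, h1⟩)
    · exact Or.inl ⟨_, _, h.in_inv a b, dvd_of_eq' (h1.neg_right) (by ring)⟩
    · exact Or.inr ⟨_, _, h.out_inv a b, dvd_of_eq' ((h1.add he).neg_right) (by ring)⟩

variable {d e : ℤ} {hd : d ∣ 4 * 2 ^ m} {he : d ∣ 2 * e}

theorem in_mem_sumSub {a b : ℤ} : x ^ a * y ^ b ∈ h.sumSub d e hd he ↔ d ∣ a + b := by
  refine ⟨?_, fun h1 => Or.inl ⟨a, b, rfl, h1⟩⟩
  rintro (⟨a', b', e', h1⟩ | ⟨a', b', e', -⟩)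
  · obtain ⟨ha, hb⟩ := h.pq_eq.mp e'
    exact dvd_of_eq' (h1.add ((hd.trans ha).add (hd.trans hb))) (by ring)
  · exact absurd e'.symm (h.out_ne_in a' b' a b)

theorem out_mem_sumSub {a b : ℤ} :
    x ^ a * y ^ b * z ∈ h.sumSub d e hd he ↔ d ∣ a + b - e := by
  refine ⟨?_, fun h1 => Or.inr ⟨a, b, rfl, h1⟩⟩
  rintro (⟨a', b', e', -⟩ | ⟨a', b', e', h1⟩)
  · exact absurd e' (h.out_ne_in a b a' b')
  · obtain ⟨ha, hb⟩ := h.out_eq_out.mp e'
    exact dvd_of_eq' (h1.add ((hd.trans ha).add (hd.trans hb))) (by ring)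

theorem sumSub_normal : (h.sumSub d e hd he).Normal := by
  refine ⟨fun g hg s => ?_⟩
  rcases h.cases_elem s with ⟨c, c', rfl⟩ | ⟨c, c', rfl⟩ <;>
    rcases h.cases_elem g with ⟨a, b, rfl⟩ | ⟨a, b, rfl⟩
  · rw [h.conj_in_by_in]; exact hg
  · rw [h.conj_out_by_in, h.out_mem_sumSub]
    rw [h.out_mem_sumSub] at hg
    exact dvd_of_eq' hg (by ring)
  · rw [h.conj_in_by_out, h.in_mem_sumSub]
    rw [h.in_mem_sumSub] at hg
    exact dvd_of_eq' hg (by ring)
  · rw [h.conj_out_by_out, h.out_mem_sumSub]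
    rw [h.out_mem_sumSub] at hg
    exact dvd_of_eq' hg (by ring)

/-- The normal quaternion subgroup. -/
def quat : Subgroup S := h.sumSub (4 * 2 ^ m) (2 * 2 ^ m) dvd_rfl ⟨1, by ring⟩

/-- The subgroup generated by the involutions. -/
def omegaSub : Subgroup S := h.sumSub (2 * 2 ^ m) 0 ⟨2, by ring⟩ (by simp)

theorem in_mem_quat {a b : ℤ} : x ^ a * y ^ b ∈ h.quat ↔ (4 * 2 ^ m : ℤ) ∣ a + b :=
  h.in_mem_sumSub

theorem out_mem_quat {a b : ℤ} :
    x ^ a * y ^ b * z ∈ h.quat ↔ (4 * 2 ^ m : ℤ) ∣ a + b - 2 * 2 ^ m :=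
  h.out_mem_sumSub

theorem in_mem_omega {a b : ℤ} : x ^ a * y ^ b ∈ h.omegaSub ↔ (2 * 2 ^ m : ℤ) ∣ a + b :=
  h.in_mem_sumSub

theorem out_mem_omega {a b : ℤ} : x ^ a * y ^ b * z ∈ h.omegaSub ↔ (2 * 2 ^ m : ℤ) ∣ a + b := by
  unfold omegaSub
  rw [h.out_mem_sumSub, sub_zero]

theorem card_quat [Finite S] : Nat.card h.quat = 2 * 2 ^ (m + 2) := by
  have hn : ¬ h.quat ≤ h.base := fun hle => h.out_not_mem_base (2 * 2 ^ m) 0
    (hle (h.out_mem_quat.mpr (by simp)))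
  rw [card_eq_two_mul_inf h.index_base hn, ← h.orderOf_anti, ← Nat.card_zpowers]
  suffices e : h.quat ⊓ h.base = Subgroup.zpowers (x * y⁻¹) by rw [e]
  refine le_antisymm ?_ ?_
  · rintro t ⟨ht, a, b, rfl⟩
    refine ⟨a, ?_⟩
    show (x * y⁻¹) ^ a = _
    rw [h.anti_zpow, h.pq_eq]
    refine ⟨by simp, ?_⟩
    have h1 := (h.in_mem_quat.mp ht).neg_right
    exact dvd_of_eq' h1 (by ring)
  · rw [Subgroup.zpowers_le, ← zpow_one (x * y⁻¹), h.anti_zpow]
    exact ⟨h.in_mem_quat.mpr (by simp), h.in_mem_base _ _⟩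

theorem quat_equiv [Finite S] : Nonempty (h.quat ≃* QuaternionGroup (2 ^ (m + 1))) := by
  have hc : x * y⁻¹ ∈ h.quat := by
    have e := (h.in_mem_quat (a := 1) (b := -1)).mpr (by simp)
    simpa using e
  have hy : x ^ (2 * 2 ^ m : ℤ) * y ^ (0 : ℤ) * z ∈ h.quat := h.out_mem_quat.mpr (by simp)
  refine Cfsg.Agent.PGroups.nonempty_mulEquiv_quaternion (c := ⟨_, hc⟩) (y := ⟨_, hy⟩) ?_ ?_ ?_ ?_ ?_
  · rw [Subgroup.orderOf_mk, h.orderOf_anti]; ring
  · rintro ⟨k, hk⟩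
    have e := congrArg Subtype.val hk
    simp only [Subgroup.coe_zpow, h.anti_zpow] at e
    exact h.out_ne_in _ _ _ _ e.symm
  · apply Subtype.ext
    simp only [Subgroup.coe_pow, pow_two, Subgroup.coe_mul, h.out_mul_out]
    rw [← zpow_natCast, h.anti_zpow, h.pq_eq]
    push_cast
    exact ⟨⟨0, by ring⟩, ⟨1, by ring⟩⟩
  · apply Subtype.ext
    simp only [Subgroup.coe_mul, Subgroup.coe_inv]
    have e := h.conj_in_by_out (2 * 2 ^ m) 0 1 (-1)
    have e' : x * y⁻¹ = x ^ (1 : ℤ) * y ^ (-1 : ℤ) := by simp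
    rw [e', e, h.in_inv, neg_neg]
  · rw [h.card_quat]; ring

theorem omega_card [Finite S] : Nat.card h.omegaSub = 2 ^ (m + 4) := by
  have hle : h.quat ≤ h.omegaSub := by
    intro g hg
    rcases h.cases_elem g with ⟨a, b, rfl⟩ | ⟨a, b, rfl⟩
    · exact h.in_mem_omega.mpr ((Dvd.intro 2 (by ring)).trans (h.in_mem_quat.mp hg))
    · refine h.out_mem_omega.mpr ?_
      obtain ⟨k, hk⟩ := h.out_mem_quat.mp hg
      exact ⟨2 * k + 1, by linarith⟩
  have hz : z ∈ h.omegaSub := by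
    simpa using (h.out_mem_omega (a := 0) (b := 0)).mpr (by simp)
  have hidx : h.quat.relIndex h.omegaSub = 2 := by
    rw [Subgroup.relIndex_eq_two_iff]
    refine ⟨z, hz, fun g hg => ?_⟩
    have key : ∀ s : ℤ, (2 * 2 ^ m : ℤ) ∣ s →
        ((4 * 2 ^ m : ℤ) ∣ s ↔ ¬ (4 * 2 ^ m : ℤ) ∣ s - 2 * 2 ^ m) := by
      rintro s ⟨k, rfl⟩
      constructor
      · intro h1 h2
        exact h.half_not_dvd (by simpa using h1.sub h2)
      · intro h2
        rcases Int.even_or_odd k with ⟨j, rfl⟩ | ⟨j, rfl⟩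
        · exact ⟨j, by ring⟩
        · exact absurd ⟨j, by ring⟩ h2
    rcases h.cases_elem g with ⟨a, b, rfl⟩ | ⟨a, b, rfl⟩
    · rw [h.out_mem_quat, h.in_mem_quat, key _ (h.in_mem_omega.mp hg), xor_iff_iff_not, not_not]
    · rw [mul_assoc _ z z, h.z_mul_self, mul_one, h.out_mem_quat, h.in_mem_quat,
        key _ (h.out_mem_omega.mp hg), xor_iff_iff_not]
  have e := Subgroup.card_mul_index (h.quat.subgroupOf h.omegaSub)
  rw [show (h.quat.subgroupOf h.omegaSub).index = 2 from hidx,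
    Nat.card_congr (Subgroup.subgroupOfEquivOfLe hle).toEquiv, h.card_quat] at e
  rw [← e]; ring

theorem closure_eq_omega : Subgroup.closure {g : S | orderOf g = 2} = h.omegaSub := by
  refine le_antisymm ((Subgroup.closure_le _).mpr fun g hg => ?_) fun g hg => ?_
  · rcases h.mem_ord_two g hg with rfl | rfl | rfl | ⟨a, rfl⟩
    · exact h.in_mem_omega.mpr (by simp)
    · exact h.in_mem_omega.mpr (by simp)
    · exact h.in_mem_omega.mpr ((dvd_refl _).add (dvd_refl _))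
    · exact h.out_mem_omega.mpr (by simp)
  · set Ω := Subgroup.closure {g : S | orderOf g = 2}
    have h1 : ∀ a : ℤ, x ^ a * y ^ (-a) * z ∈ Ω := fun a => Subgroup.subset_closure (h.orderOf_out a)
    have h2 : ∀ k : ℤ, x ^ (2 * 2 ^ m * k) * y ^ (0 : ℤ) ∈ Ω := by
      intro k
      have hx : x ^ (2 * 2 ^ m : ℤ) ∈ Ω := by
        refine Subgroup.subset_closure (orderOf_eq_two_of_mul_self ?_ fun e => ?_)
        · rw [← zpow_add, h.zpow_eq_one_x]; exact ⟨1, by ring⟩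
        · exact h.half_not_dvd (h.zpow_eq_one_x.mp e)
      simpa [zpow_mul] using zpow_mem hx k
    have h4 : z ∈ Ω := Subgroup.subset_closure h.oz
    have h3 : ∀ a b : ℤ, (2 * 2 ^ m : ℤ) ∣ a + b → x ^ a * y ^ b ∈ Ω := by
      rintro a b ⟨k, hk⟩
      have e : x ^ a * y ^ b = x ^ (2 * 2 ^ m * k) * y ^ (0 : ℤ) * (x ^ (-b) * y ^ (- -b) * z * z) := by
        rw [mul_assoc _ z, h.z_mul_self, mul_one, h.mul_in, h.pq_eq]
        exact ⟨by rw [← hk]; simp, by simp⟩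
      rw [e]
      exact mul_mem (h2 k) (mul_mem (h1 _) h4)
    rcases h.cases_elem g with ⟨a, b, rfl⟩ | ⟨a, b, rfl⟩
    · exact h3 a b (h.in_mem_omega.mp hg)
    · exact mul_mem (h3 a b (h.out_mem_omega.mp hg)) h4

theorem omega_sup : h.omegaSub ⊔ Subgroup.zpowers x = ⊤ := by
  rw [eq_top_iff]
  rintro g -
  have h1 : ∀ a b : ℤ, x ^ a * y ^ b ∈ h.omegaSub ⊔ Subgroup.zpowers x := by
    intro a b
    have e : x ^ a * y ^ b = x ^ (a + b) * (x ^ (-b) * y ^ b) := by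
      rw [← mul_assoc, ← zpow_add, add_neg_cancel_right]
    rw [e]
    exact mul_mem (Subgroup.mem_sup_right ⟨_, rfl⟩)
      (Subgroup.mem_sup_left (h.in_mem_omega.mpr (by simp)))
  rcases h.cases_elem g with ⟨a, b, rfl⟩ | ⟨a, b, rfl⟩
  · exact h1 a b
  · refine mul_mem (h1 a b) (Subgroup.mem_sup_left ?_)
    simpa using (h.out_mem_omega (a := 0) (b := 0)).mpr (by simp)

theorem center_sub [Finite S] {X : Subgroup S} (hX : ¬ IsMulCommutative X) :
    (Subgroup.center X).map X.subtype ≤ Subgroup.center S := by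
  rintro _ ⟨⟨u, hu⟩, huc, rfl⟩
  show u ∈ _
  have hcomm : ∀ g ∈ X, g * u = u * g := fun g hg =>
    congrArg Subtype.val (Subgroup.mem_center_iff.mp huc ⟨g, hg⟩)
  rcases h.cases_elem u with ⟨a, b, rfl⟩ | ⟨a, b, rfl⟩
  · by_cases hle : X ≤ h.base
    · refine absurd ⟨⟨fun p q => Subtype.ext ?_⟩⟩ hX
      have e := h.base_comm.is_comm.comm ⟨_, hle p.2⟩ ⟨_, hle q.2⟩
      show p.1 * q.1 = q.1 * p.1
      simpa using congrArg Subtype.val e
    obtain ⟨g, hg, hgb⟩ := SetLike.not_le_iff_exists.mp hle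
    obtain ⟨c, d, rfl⟩ := (h.cases_elem g).resolve_left hgb
    exact h.in_mem_center.mpr (h.commute_out_in.mp (hcomm _ hg).symm)
  · refine absurd ⟨⟨fun p q => Subtype.ext ?_⟩⟩ hX
    have hform : ∀ g ∈ X, g ∈ Subgroup.center S ∨
        ∃ t ∈ Subgroup.center S, g = t * (x ^ a * y ^ b * z) := by
      intro g hg
      rcases h.cases_elem g with ⟨c, d, rfl⟩ | ⟨c, d, rfl⟩
      · exact Or.inl (h.in_mem_center.mpr (h.commute_out_in.mp (hcomm _ hg)))
      · right
        obtain ⟨p, q, hpq⟩ : x ^ c * y ^ d * z * (x ^ a * y ^ b * z)⁻¹ ∈ h.base := by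
          rw [h.out_inv, h.out_mul_out]; exact h.in_mem_base _ _
        refine ⟨_, ?_, (inv_mul_cancel_right _ (x ^ a * y ^ b * z)).symm⟩
        rw [hpq]
        refine h.in_mem_center.mpr (h.commute_out_in.mp (hcomm _ ?_))
        rw [← hpq]; exact mul_mem hg (inv_mem hu)
    show p.1 * q.1 = q.1 * p.1
    rcases hform _ p.2 with hp | ⟨t, ht, e⟩
    · exact (Subgroup.mem_center_iff.mp hp _).symm
    rcases hform _ q.2 with hq | ⟨t', ht', e'⟩
    · exact Subgroup.mem_center_iff.mp hq _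
    rw [e, e']
    have c1 : Commute t (t' * (x ^ a * y ^ b * z)) := (Subgroup.mem_center_iff.mp ht _).symm
    have c2 : Commute (x ^ a * y ^ b * z) t' := Subgroup.mem_center_iff.mp ht' _
    exact (c1.mul_left (c2.mul_right (Commute.refl _))).eq

end WGen

end Cfsg.Agent.H39
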