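import Cfsg.Agent.Fusion.AlperinFocal
import Cfsg.Agent.Fusion.Frobenius
import Cfsg.Agent.H39.Basic
import Cfsg.Agent.H39.Transfer
import Cfsg.Agent.H39.DihedralSylow

/-!
Fusion is generated by the automisers of centric subgroups of a Sylow subgroup, transfer of an
invariant character, and small helpers for computing in a Sylow subgroup.
-/

namespace Cfsg.Agent.H39

universe u

variable {G : Type u} [Group G] [Finite G] {p : ℕ} [Fact p.Prime]

open Subgroup in
/-- A relation containing the conjugations of `P` and those by normalisers of extremal centric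
subgroups contains all fusion in `P`. -/
theorem fusion_relation (P : Sylow p G) (Φ : G → G → Prop)
    (hrefl : ∀ a ∈ (P : Subgroup G), Φ a a)
    (htrans : ∀ a b c, Φ a b → Φ b c → Φ a c)
    (hexc : ∀ H : Subgroup G, H ≤ (P : Subgroup G) →
      (P : Subgroup G) ⊓ centralizer (H : Set G) ≤ H →
      ¬ p ∣ ((P : Subgroup G) ⊓ normalizer (H : Set G)).relIndex (normalizer (H : Set G)) →
      ∀ x ∈ normalizer (H : Set G), ∀ a ∈ H, Φ a (x⁻¹ * a * x))
    {a g : G} (ha : a ∈ (P : Subgroup G)) (hag : g⁻¹ * a * g ∈ (P : Subgroup G)) :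
    Φ a (g⁻¹ * a * g) := by
  -- chains through large intersections respect `Φ`
  have hchain : ∀ (k : ℕ), (∀ Q : Sylow p G, Fusion.IsTame P Q →
      k ≤ Nat.card ((P : Subgroup G) ⊓ (Q : Subgroup G) : Subgroup G) →
      ∀ x ∈ normalizer (((P : Subgroup G) ⊓ (Q : Subgroup G) : Subgroup G) : Set G),
        ∀ a ∈ (P : Subgroup G) ⊓ (Q : Subgroup G), Φ a (x⁻¹ * a * x)) →
      ∀ (A : Set G) (g : G), Fusion.Conn P A g → k ≤ A.ncard → A ⊆ (P : Subgroup G) →
        ∀ a ∈ A, Φ a (g⁻¹ * a * g) := by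
    intro k hk A g hc
    induction hc with
    | refl A => intro _ hA a ha; simpa using hrefl a (hA ha)
    | step A g x Q hQ hAQ hx _ ih =>
      intro hcard hA a ha
      have h1 : k ≤ Nat.card ((P : Subgroup G) ⊓ (Q : Subgroup G) : Subgroup G) := by
        refine hcard.trans ?_
        rw [← Nat.card_coe_set_eq]
        exact Nat.card_mono (Set.toFinite _) hAQ
      have h2 := ih (by
        rw [Set.ncard_image_of_injective A (fun b c hbc => mul_left_cancel (mul_right_cancel hbc))]
        exact hcard) (by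
        rintro _ ⟨b, hb, rfl⟩
        have := (mem_normalizer_iff''.mp hx b).mp (hAQ hb)
        exact this.1) (x⁻¹ * a * x) ⟨a, ha, rfl⟩
      rw [show (x * g)⁻¹ * a * (x * g) = g⁻¹ * (x⁻¹ * a * x) * g by group]
      exact htrans _ _ _ (hk Q hQ h1 x hx a (hAQ ha)) h2
  have key : ∀ d : ℕ, ∀ Q : Sylow p G, Fusion.IsTame P Q →
      Nat.card P - d ≤ Nat.card ((P : Subgroup G) ⊓ (Q : Subgroup G) : Subgroup G) →
      ∀ x ∈ normalizer (((P : Subgroup G) ⊓ (Q : Subgroup G) : Subgroup G) : Set G),
        ∀ a ∈ (P : Subgroup G) ⊓ (Q : Subgroup G), Φ a (x⁻¹ * a * x) := by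
    intro d
    induction d using Nat.strong_induction_on with
    | _ d ih =>
    intro Q hQ hd
    set H := (P : Subgroup G) ⊓ (Q : Subgroup G) with hH
    set R := (P : Subgroup G) ⊓ centralizer (H : Set G) with hR
    by_cases hRH : R ≤ H
    · exact hexc H inf_le_left hRH hQ.1
    -- otherwise the normaliser element may be replaced by one normalising a larger subgroup
    intro x hx a ha
    set N := normalizer (H : Set G) with hN
    have hCN : centralizer (H : Set G) ≤ N := centralizer_le_normalizer _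
    have hRN : R ≤ N := inf_le_right.trans hCN
    set C := (centralizer (H : Set G)).subgroupOf N with hC
    have : C.Normal := by
      rw [hC, hN, ← normalizerMonoidHom_ker]
      exact MonoidHom.normal_ker _
    have hRi : ¬ p ∣ R.relIndex (centralizer (H : Set G)) := by
      intro hdiv
      refine hQ.1 ?_
      -- `R` is the intersection of a Sylow subgroup of `N` with the normal subgroup `C`
      let T : Sylow p N := (P.isPGroup'.to_le (inf_le_left :
        (P : Subgroup G) ⊓ N ≤ (P : Subgroup G))).comap_subtype.toSylow (fun h => hQ.1 h)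
      have h1 : ((T : Subgroup N) ⊓ C).relIndex C = R.relIndex (centralizer (H : Set G)) := by
        have e : (T : Subgroup N) ⊓ C = R.subgroupOf N := by
          ext y
          simp only [T, IsPGroup.toSylow_coe, mem_inf, mem_subgroupOf, hC, hR]
          exact ⟨fun h => ⟨h.1.1, h.2⟩, fun h => ⟨⟨h.1, y.2⟩, h.2⟩⟩
        rw [e, hC, relIndex_subgroupOf hCN]
      rw [inf_relIndex_right] at h1
      have h2 : (T : Subgroup N).relIndex C ∣ (T : Subgroup N).index := by
        have e1 := relIndex_mul_index (inf_le_left : (T : Subgroup N) ⊓ C ≤ T)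
        have e2 := relIndex_mul_index (inf_le_right : (T : Subgroup N) ⊓ C ≤ C)
        rw [inf_relIndex_left] at e1
        rw [inf_relIndex_right, ← e1] at e2
        obtain ⟨q, hq⟩ := relIndex_dvd_index_of_normal (H := C) (K := (T : Subgroup N))
        have hpos : C.relIndex (T : Subgroup N) ≠ 0 := fun e0 => by
          rw [e0, zero_mul] at hq
          exact C.index_ne_zero_of_finite hq
        refine ⟨q, mul_left_cancel₀ hpos ?_⟩
        rw [← e2, hq]; ring
      exact (h1 ▸ hdiv).trans h2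
    obtain ⟨c, hc, n, hn, hnR, hxcn⟩ : ∃ c ∈ centralizer (H : Set G), ∃ n ∈ N,
        (∀ r ∈ R, n⁻¹ * r * n ∈ R) ∧ x = c * n := by
      have hp' : IsPGroup p ((R.subgroupOf N).subgroupOf C) :=
        ((P.isPGroup'.to_le (inf_le_left : R ≤ (P : Subgroup G))).comap_subtype
          (K := N)).comap_subtype
      let T' : Sylow p C := hp'.toSylow (fun hd' => hRi (by
          have e : ((R.subgroupOf N).subgroupOf C).index = R.relIndex (centralizer (H : Set G)) := by
            show (R.subgroupOf N).relIndex C = _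
            rw [hC, relIndex_subgroupOf hCN]
          exact e ▸ hd'))
      have htop := Sylow.normalizer_sup_eq_top T'
      have hxm : (⟨x, hx⟩ : N) ∈ C ⊔ normalizer (((T' : Subgroup C).map C.subtype : Subgroup N) : Set N) := by
        rw [sup_comm, htop]; exact mem_top _
      obtain ⟨c, hc, n, hn, hcn⟩ := mem_sup_of_normal_left.mp hxm
      refine ⟨c, hc, n, n.2, fun r hr => ?_, (congrArg Subtype.val hcn).symm⟩
      have hrT : (⟨r, hRN hr⟩ : N) ∈ ((T' : Subgroup C).map C.subtype : Subgroup N) :=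
        ⟨⟨⟨r, hRN hr⟩, hr.2⟩, hr, rfl⟩
      obtain ⟨y, hy, hyn⟩ := (mem_normalizer_iff''.mp hn _).mp hrT
      have := congrArg Subtype.val hyn
      simp only [coe_mul, InvMemClass.coe_inv] at this
      rw [← this]
      exact hy
    have hcomm : ∀ b ∈ H, c⁻¹ * b * c = b := fun b hb => by
      rw [mul_assoc, mem_centralizer_iff.mp hc b hb, inv_mul_cancel_left]
    rw [show x⁻¹ * a * x = n⁻¹ * a * n by
      rw [hxcn, show (c * n)⁻¹ * a * (c * n) = n⁻¹ * (c⁻¹ * a * c) * n by group, hcomm a ha]]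
    set H' := H ⊔ R with hH'
    have hH'P : H' ≤ (P : Subgroup G) := sup_le inf_le_left inf_le_left
    have hlt : Nat.card H < Nat.card H' := by
      refine Nat.lt_of_le_of_ne (card_le_of_le le_sup_left) fun e => hRH ?_
      exact (le_sup_right : R ≤ H').trans (eq_of_le_of_card_ge le_sup_left e.ge).ge
    have hmap : ∀ b ∈ H', n⁻¹ * b * n ∈ H' := by
      have e : H' ≤ H'.comap (MulAut.conj n⁻¹).toMonoidHom := sup_le
        (fun b hb => le_sup_left (a := H) (b := R) (by simpa using (mem_normalizer_iff''.mp hn b).mp hb))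
        (fun b hb => le_sup_right (a := H) (b := R) (by simpa using hnR b hb))
      intro b hb
      simpa using e hb
    have hcn : Fusion.Conn P (H' : Set G) n := Fusion.alperin P (fun b hb => hH'P hb) (by
      rintro _ ⟨b, hb, rfl⟩
      exact hH'P (hmap b hb))
    have hle : Nat.card H' ≤ Nat.card P := card_le_of_le hH'P
    refine hchain (Nat.card H') (fun Q' hQ' hm => ih (Nat.card P - Nat.card H') ?_ Q' hQ' ?_) _ _ hcn
      (le_of_eq (Nat.card_coe_set_eq (H' : Set G))) (fun b hb => hH'P hb) a (le_sup_left (a := H) ha)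
    · omega
    · omega
  have hc : Fusion.Conn P {a} g := Fusion.alperin P (Set.singleton_subset_iff.mpr ha)
    (by rw [Set.image_singleton]; exact Set.singleton_subset_iff.mpr hag)
  exact hchain 0 (fun Q hQ _ => key (Nat.card P) Q hQ (by omega)) _ _ hc (Nat.zero_le _)
    (Set.singleton_subset_iff.mpr ha) a rfl

end Cfsg.Agent.H39

namespace Cfsg.Agent.H39

universe u

variable {G : Type u} [Group G]

open Subgroup

/-- The elements of `N(H)` acting on `H` as some element of `S` does. -/
def actsLike (S H : Subgroup G) : Subgroup G where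
  carrier := {g | g ∈ normalizer (H : Set G) ∧
    ∃ s ∈ S, s ∈ normalizer (H : Set G) ∧ ∀ a ∈ H, g⁻¹ * a * g = s⁻¹ * a * s}
  one_mem' := ⟨one_mem _, 1, one_mem _, one_mem _, fun _ _ => rfl⟩
  mul_mem' := by
    rintro g g' ⟨hg, s, hs, hsN, he⟩ ⟨hg', s', hs', hsN', he'⟩
    refine ⟨mul_mem hg hg', s * s', mul_mem hs hs', mul_mem hsN hsN', fun a ha => ?_⟩
    have hm : s⁻¹ * a * s ∈ H := (mem_normalizer_iff''.mp hsN a).mp ha
    calc (g * g')⁻¹ * a * (g * g') = g'⁻¹ * (g⁻¹ * a * g) * g' := by group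
      _ = s'⁻¹ * (s⁻¹ * a * s) * s' := by rw [he a ha, he' _ hm]
      _ = _ := by group
  inv_mem' := by
    rintro g ⟨hg, s, hs, hsN, he⟩
    refine ⟨inv_mem hg, s⁻¹, inv_mem hs, inv_mem hsN, fun a ha => ?_⟩
    have hm : s * a * s⁻¹ ∈ H := (mem_normalizer_iff.mp hsN a).mp ha
    have e := he _ hm
    rw [show s⁻¹ * (s * a * s⁻¹) * s = a by group] at e
    rw [inv_inv, inv_inv]
    calc g * a * g⁻¹ = g * (g⁻¹ * (s * a * s⁻¹) * g) * g⁻¹ := by rw [e]
      _ = _ := by group

theorem centralizer_le_actsLike (S H : Subgroup G) : centralizer (H : Set G) ≤ actsLike S H :=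
  fun c hc => ⟨centralizer_le_normalizer _ hc, 1, one_mem _, one_mem _, fun a ha => by
    rw [inv_one, one_mul, mul_one, mul_assoc, mem_centralizer_iff.mp hc a ha, inv_mul_cancel_left]⟩

theorem mem_actsLike_self {S H : Subgroup G} {s : G} (hs : s ∈ S)
    (hN : s ∈ normalizer (H : Set G)) : s ∈ actsLike S H :=
  ⟨hN, s, hs, hN, fun _ _ => rfl⟩

/-- A subgroup of index two in `N` and one element outside it suffice to cover `N`. -/
theorem le_of_relIndex_two {N K L : Subgroup G} (h2 : K.relIndex N = 2) {w : G}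
    (hwN : w ∈ N) (hwK : w ∉ K) (hKL : K ⊓ N ≤ L) (hwL : w ∈ L) : N ≤ L := by
  intro g hg
  by_cases hgK : g ∈ K
  · exact hKL ⟨hgK, hg⟩
  have h := mul_mem_iff_of_index_two (show (K.subgroupOf N).index = 2 from h2)
    (a := (⟨g, hg⟩ : N)) (b := ⟨w, hwN⟩)
  have hm : g * w ∈ K := h.mpr (iff_of_false hgK hwK)
  exact (L.mul_mem_cancel_right hwL).mp (hKL ⟨hm, mul_mem hg hwN⟩)

section Transfer

variable [Finite G] {p : ℕ} [Fact p.Prime]

theorem relIndex_normal_not_dvd (S : Sylow p G) (K : Subgroup G) [K.Normal] :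
    ¬ p ∣ (S : Subgroup G).relIndex K := by
  intro hd
  refine S.not_dvd_index (hd.trans ?_)
  have e1 := relIndex_mul_index (inf_le_left : (S : Subgroup G) ⊓ K ≤ S)
  have e2 := relIndex_mul_index (inf_le_right : (S : Subgroup G) ⊓ K ≤ K)
  rw [inf_relIndex_left] at e1
  rw [inf_relIndex_right, ← e1] at e2
  obtain ⟨q, hq⟩ := relIndex_dvd_index_of_normal (H := K) (K := (S : Subgroup G))
  have hpos : K.relIndex (S : Subgroup G) ≠ 0 := fun e0 => by
    rw [e0, zero_mul] at hq
    exact K.index_ne_zero_of_finite hq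
  refine ⟨q, mul_left_cancel₀ hpos ?_⟩
  rw [← e2, hq]; ring

/-- The Sylow subgroups of a normal subgroup are copies of its trace on a given Sylow subgroup. -/
theorem sylow_of_normal_equiv (S : Sylow p G) (K : Subgroup G) [K.Normal] (P : Sylow p K) :
    Nonempty ((P : Subgroup K) ≃* (K.subgroupOf (S : Subgroup G))) := by
  let P₀ : Sylow p K := (S.isPGroup'.comap_subtype (K := K)).toSylow (relIndex_normal_not_dvd S K)
  let e : (P₀ : Subgroup K) ≃* (K.subgroupOf (S : Subgroup G)) :=
    { toFun := fun a => ⟨⟨a.1.1, a.2⟩, a.1.2⟩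
      invFun := fun a => ⟨⟨a.1.1, a.2⟩, a.1.2⟩
      left_inv := fun _ => rfl
      right_inv := fun _ => rfl
      map_mul' := fun _ _ => rfl }
  exact ⟨(P.equiv P₀).trans e⟩

/-- No subgroup of `K` of index `p` contains the trace of a Sylow subgroup. -/
theorem index_ne_of_sylow_le (S : Sylow p G) (K : Subgroup G) [K.Normal] (L : Subgroup K)
    (h : ∀ a : K, (a : G) ∈ (S : Subgroup G) → a ∈ L) : L.index ≠ p := by
  intro e
  let P₀ : Sylow p K := (S.isPGroup'.comap_subtype (K := K)).toSylow (relIndex_normal_not_dvd S K)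
  have hd := index_dvd_of_le (H := (P₀ : Subgroup K)) (K := L) (fun a ha => h a ha)
  rw [e] at hd
  exact P₀.not_dvd_index hd

/-- An invariant character of a Sylow subgroup extends up to a power prime to `p`. -/
theorem exists_hom_of_invariant (S : Sylow p G) {A : Type*} [CommGroup A]
    (φ : (S : Subgroup G) →* A)
    (h : ∀ (a g : G) (ha : a ∈ (S : Subgroup G)) (hag : g⁻¹ * a * g ∈ (S : Subgroup G)),
      φ ⟨g⁻¹ * a * g, hag⟩ = φ ⟨a, ha⟩) :
    ∃ f : G →* A, ∀ s : (S : Subgroup G), f s = φ s ^ (S : Subgroup G).index := by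
  refine ⟨MonoidHom.transfer φ, fun s => transfer_eq_pow_of_map_eq φ s fun k a hk => ?_⟩
  rw [h ((s : G) ^ k) a (pow_mem s.2 k) hk, ← map_pow]
  exact congrArg φ (Subtype.ext (by simp))

/-- The kernel of such an extension. -/
theorem exists_normal_of_invariant (S : Sylow p G) {A : Type*} [CommGroup A] [Finite A] {n : ℕ}
    (hA : Nat.card A = p ^ n) (φ : (S : Subgroup G) →* A) (hφ : Function.Surjective φ)
    (h : ∀ (a g : G) (ha : a ∈ (S : Subgroup G)) (hag : g⁻¹ * a * g ∈ (S : Subgroup G)),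
      φ ⟨g⁻¹ * a * g, hag⟩ = φ ⟨a, ha⟩) :
    ∃ K : Subgroup G, K.Normal ∧ K.index = p ^ n ∧ K.subgroupOf (S : Subgroup G) = φ.ker := by
  obtain ⟨f, hf⟩ := exists_hom_of_invariant S φ h
  have hco : (Nat.card A).Coprime (S : Subgroup G).index := by
    rw [hA]; exact Nat.Coprime.pow_left _ ((Fact.out : p.Prime).coprime_iff_not_dvd.mpr S.not_dvd_index)
  have hfs : Function.Surjective f := fun a => by
    obtain ⟨b, rfl⟩ := (powCoprime hco).surjective a
    obtain ⟨s, rfl⟩ := hφ b
    exact ⟨s, hf s⟩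
  refine ⟨f.ker, MonoidHom.normal_ker f, ?_, ?_⟩
  · rw [index_ker, MonoidHom.range_eq_top.mpr hfs, card_top, hA]
  · ext s
    rw [mem_subgroupOf, MonoidHom.mem_ker, MonoidHom.mem_ker, hf]
    refine ⟨fun e => (powCoprime hco).injective ?_, fun e => by rw [e, one_pow]⟩
    rw [powCoprime_apply, powCoprime_apply, e, one_pow]

end Transfer

/-- A two-valued character. -/
noncomputable def indexTwoHom {M : Subgroup G} (hM : M.index = 2) : G →* Multiplicative (ZMod 2) :=
  open Classical in
  MonoidHom.mk' (fun g => if g ∈ M then 1 else Multiplicative.ofAdd 1) fun a b => by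
    have := mul_mem_iff_of_index_two hM (a := a) (b := b)
    by_cases h1 : a ∈ M <;> by_cases h2 : b ∈ M <;> simp [h1, h2, this] <;> decide

theorem indexTwoHom_eq {M : Subgroup G} (hM : M.index = 2) {a b : G} :
    indexTwoHom hM a = indexTwoHom hM b ↔ (a ∈ M ↔ b ∈ M) := by
  classical
  unfold indexTwoHom
  simp only [MonoidHom.mk'_apply]
  by_cases h1 : a ∈ M <;> by_cases h2 : b ∈ M <;> simp [h1, h2] <;> decide

theorem indexTwoHom_surjective {M : Subgroup G} (hM : M.index = 2) :
    Function.Surjective (indexTwoHom hM) := by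
  classical
  obtain ⟨w, hw⟩ : ∃ w, w ∉ M := by
    by_contra hcon
    push Not at hcon
    rw [(eq_top_iff.mpr fun g _ => hcon g : M = ⊤), index_top] at hM
    omega
  intro a
  have key : ∀ a : ZMod 2, a = 0 ∨ a = 1 := by decide
  rcases key a.toAdd with e | e
  · exact ⟨1, by rw [map_one]; exact (congrArg Multiplicative.ofAdd e).symm⟩
  · exact ⟨w, by unfold indexTwoHom; simp only [MonoidHom.mk'_apply, if_neg hw]; exact (congrArg Multiplicative.ofAdd e).symm⟩

theorem ker_indexTwoHom {M : Subgroup G} (hM : M.index = 2) : (indexTwoHom hM).ker = M := by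
  ext g
  rw [MonoidHom.mem_ker, ← map_one (indexTwoHom hM), indexTwoHom_eq]
  simp [one_mem]

theorem card_classes_eq_one [Finite G] {P : G → Prop} {a : G} (ha : P a)
    (h : ∀ t, P t → IsConj t a) :
    Nat.card {C : ConjClasses G // ∃ t : G, P t ∧ ConjClasses.mk t = C} = 1 := by
  rw [Nat.card_eq_one_iff_unique]
  refine ⟨⟨?_⟩, ⟨⟨_, a, ha, rfl⟩⟩⟩
  rintro ⟨_, t, ht, rfl⟩ ⟨_, t', ht', rfl⟩
  exact Subtype.ext (ConjClasses.mk_eq_mk_iff_isConj.mpr ((h t ht).trans (h t' ht').symm))

theorem card_classes_eq_three [Finite G] {P : G → Prop} {a b c : G} (ha : P a) (hb : P b) (hc : P c)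
    (hab : ¬ IsConj a b) (hac : ¬ IsConj a c) (hbc : ¬ IsConj b c)
    (h : ∀ t, P t → IsConj t a ∨ IsConj t b ∨ IsConj t c) :
    Nat.card {C : ConjClasses G // ∃ t : G, P t ∧ ConjClasses.mk t = C} = 3 := by
  have e : {C : ConjClasses G | ∃ t : G, P t ∧ ConjClasses.mk t = C}
      = {ConjClasses.mk a, ConjClasses.mk b, ConjClasses.mk c} := by
    ext C
    constructor
    · rintro ⟨t, ht, rfl⟩
      rcases h t ht with e | e | e
      · exact Or.inl (ConjClasses.mk_eq_mk_iff_isConj.mpr e)
      · exact Or.inr (Or.inl (ConjClasses.mk_eq_mk_iff_isConj.mpr e))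
      · exact Or.inr (Or.inr (ConjClasses.mk_eq_mk_iff_isConj.mpr e))
    · rintro (rfl | rfl | rfl)
      · exact ⟨a, ha, rfl⟩
      · exact ⟨b, hb, rfl⟩
      · exact ⟨c, hc, rfl⟩
  calc Nat.card {C : ConjClasses G // ∃ t : G, P t ∧ ConjClasses.mk t = C}
      = Set.ncard {C : ConjClasses G | ∃ t : G, P t ∧ ConjClasses.mk t = C} :=
        Nat.card_coe_set_eq _
    _ = 3 := by
      rw [e, Set.ncard_insert_of_notMem,
        Set.ncard_pair (fun e => hbc (ConjClasses.mk_eq_mk_iff_isConj.mp e))]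
      rintro (e | e)
      · exact hab (ConjClasses.mk_eq_mk_iff_isConj.mp e)
      · exact hac (ConjClasses.mk_eq_mk_iff_isConj.mp e)

end Cfsg.Agent.H39
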