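import Cfsg.Agent.H39.SemiDihedralSubgroups
import Mathlib.GroupTheory.SpecificGroups.Dihedral
import Mathlib.GroupTheory.Coset.Card

/-!
Four-subgroups of dihedral groups of arbitrary order.
-/

namespace Cfsg.Agent.H39

theorem klein_of_card_exponent {G : Type*} [Group G] {T : Subgroup G} (hc : Nat.card T = 4)
    (h2 : ∀ t ∈ T, t ^ 2 = 1) : IsKleinFour T := by
  refine ⟨hc, ?_⟩
  have hfin : Finite T := Nat.finite_of_card_ne_zero (by omega)
  have hdvd : Monoid.exponent T ∣ 2 := Monoid.exponent_dvd_of_forall_pow_eq_one fun t => by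
    apply Subtype.ext
    rw [Subgroup.coe_pow, Subgroup.coe_one]
    exact h2 t t.2
  rcases (Nat.dvd_prime Nat.prime_two).mp hdvd with e | e
  · exfalso
    have := Monoid.exp_eq_one_iff.mp e
    have : Nat.card T ≤ 1 := Finite.card_le_one_iff_subsingleton.mpr this
    omega
  · exact e

theorem int_eq_zero_of_add_self (i : ℤ) (h : i + i = 0) : i = 0 := by omega

theorem zmod_two_torsion {n : ℕ} {i j : ZMod n} (hi : i + i = 0) (hj : j + j = 0) (hi0 : i ≠ 0)
    (hj0 : j ≠ 0) : i = j := by
  rcases eq_or_ne n 0 with rfl | hn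
  · exact absurd (int_eq_zero_of_add_self i hi) hi0
  have : NeZero n := ⟨hn⟩
  have key : ∀ k : ZMod n, k + k = 0 → k ≠ 0 → 2 * k.val = n := by
    intro k hk hk0
    rw [← ZMod.natCast_zmod_val k, ← Nat.cast_add, ZMod.natCast_eq_zero_iff] at hk
    obtain ⟨d, hd⟩ := hk
    have hlt := k.val_lt
    have hpos : k.val ≠ 0 := fun e => hk0 ((ZMod.val_eq_zero k).mp e)
    rcases d with _ | _ | d
    · omega
    · omega
    · rw [show n * (d + 1 + 1) = n * d + n + n by ring] at hd; omega
  exact ZMod.val_injective n (by have := key i hi hi0; have := key j hj hj0; omega)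

theorem dihedral_klein_centralizer {m : ℕ} {V : Subgroup (DihedralGroup m)} (hV : IsKleinFour V)
    {g : DihedralGroup m} (hg : g ∈ Subgroup.centralizer (V : Set (DihedralGroup m))) : g ∈ V := by
  classical
  have hfinV : Finite V := Nat.finite_of_card_ne_zero (by rw [hV.card_four]; norm_num)
  -- the only rotation of order two
  have hr : ∀ i : ZMod m, (DihedralGroup.r i : DihedralGroup m) * .r i = 1 ↔ i + i = 0 := fun i => by
    rw [DihedralGroup.r_mul_r, DihedralGroup.one_def, DihedralGroup.r.injEq]
  obtain ⟨j, hj⟩ : ∃ j : ZMod m, DihedralGroup.sr j ∈ V := by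
    by_contra hcon
    push Not at hcon
    by_cases hex : ∃ i : ZMod m, i ≠ 0 ∧ DihedralGroup.r i ∈ V
    · obtain ⟨i, hi0, hi⟩ := hex
      have hsub : (V : Set (DihedralGroup m)) ⊆ ({1, .r i} : Set (DihedralGroup m)) := by
        intro v hv
        cases v with
        | r k =>
          by_cases hk : k = 0
          · left; rw [hk]; exact DihedralGroup.one_def.symm
          · right
            show DihedralGroup.r k = DihedralGroup.r i
            rw [zmod_two_torsion ((hr k).mp (klein_mul_self hV hv)) ((hr i).mp (klein_mul_self hV hi)) hk hi0]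
        | sr k => exact absurd hv (hcon k)
      have h2 := Set.ncard_le_ncard hsub
      rw [← Nat.card_coe_set_eq, show Nat.card (V : Set (DihedralGroup m)) = 4 from hV.card_four] at h2
      have := h2.trans (Set.ncard_insert_le _ _)
      simp at this
    · push Not at hex
      have hsub : (V : Set (DihedralGroup m)) ⊆ ({1} : Set (DihedralGroup m)) := by
        intro v hv
        cases v with
        | r k =>
          by_contra h1
          exact hex k (fun hk => h1 (by rw [hk]; exact DihedralGroup.one_def.symm)) hv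
        | sr k => exact absurd hv (hcon k)
      have h2 := Set.ncard_le_ncard hsub
      rw [← Nat.card_coe_set_eq, show Nat.card (V : Set (DihedralGroup m)) = 4 from hV.card_four] at h2
      simp at h2
  -- everything commuting with that reflection
  have hcom : ∀ v : DihedralGroup m, DihedralGroup.sr j * v = v * .sr j →
      (∃ i : ZMod m, i + i = 0 ∧ v = .r i) ∨ ∃ i : ZMod m, i + i = 0 ∧ v = .sr (j + i) := by
    intro v hv
    cases v with
    | r k =>
      rw [DihedralGroup.sr_mul_r, DihedralGroup.r_mul_sr, DihedralGroup.sr.injEq] at hv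
      exact Or.inl ⟨k, by linear_combination hv, rfl⟩
    | sr k =>
      rw [DihedralGroup.sr_mul_sr, DihedralGroup.sr_mul_sr, DihedralGroup.r.injEq] at hv
      exact Or.inr ⟨k - j, by linear_combination hv, by rw [add_sub_cancel]⟩
  set C := Subgroup.centralizer ({DihedralGroup.sr j} : Set (DihedralGroup m))
  have hVC : V ≤ C := fun v hv => Subgroup.mem_centralizer_singleton_iff.mpr (by
    have e : ∀ u ∈ V, u⁻¹ = u := fun u hu => inv_eq_of_mul_eq_one_right (klein_mul_self hV hu)
    calc v * DihedralGroup.sr j = (v * DihedralGroup.sr j)⁻¹ := (e _ (mul_mem hv hj)).symm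
      _ = _ := by rw [mul_inv_rev, e v hv, e _ hj])
  have hsub : ∀ i₀ : ZMod m, (∀ i : ZMod m, i + i = 0 → i = 0 ∨ i = i₀) →
      (C : Set (DihedralGroup m)) ⊆
      (({1, .r i₀, .sr j, .sr (j + i₀)} : Finset (DihedralGroup m)) : Set (DihedralGroup m)) := by
    intro i₀ h0 v hv
    simp only [Finset.coe_insert, Finset.coe_singleton, Set.mem_insert_iff, Set.mem_singleton_iff]
    rcases hcom v (Subgroup.mem_centralizer_singleton_iff.mp hv).symm with ⟨i, hi, rfl⟩ | ⟨i, hi, rfl⟩ <;>
      rcases h0 i hi with rfl | rfl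
    · exact Or.inl DihedralGroup.one_def.symm
    · exact Or.inr (Or.inl rfl)
    · exact Or.inr (Or.inr (Or.inl (by rw [add_zero])))
    · exact Or.inr (Or.inr (Or.inr rfl))
  obtain ⟨i₀, h0⟩ : ∃ i₀ : ZMod m, ∀ i : ZMod m, i + i = 0 → i = 0 ∨ i = i₀ := by
    by_cases hex : ∃ i : ZMod m, i + i = 0 ∧ i ≠ 0
    · obtain ⟨i₀, h1, h2⟩ := hex
      exact ⟨i₀, fun i hi => or_iff_not_imp_left.mpr fun hne => zmod_two_torsion hi h1 hne h2⟩
    · push Not at hex
      exact ⟨0, fun i hi => Or.inl (hex i hi)⟩
  have hfin : (C : Set (DihedralGroup m)).Finite := (Finset.finite_toSet _).subset (hsub i₀ h0)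
  have heq : (V : Set (DihedralGroup m)) = C := by
    refine Set.eq_of_subset_of_ncard_le hVC ?_ hfin
    have h4 := Set.ncard_le_ncard (hsub i₀ h0)
    rw [Set.ncard_coe_finset] at h4
    rw [← Nat.card_coe_set_eq (V : Set (DihedralGroup m)),
      show Nat.card (V : Set (DihedralGroup m)) = 4 from hV.card_four]
    exact h4.trans Finset.card_le_four
  show g ∈ (V : Set (DihedralGroup m))
  rw [heq]
  exact Subgroup.mem_centralizer_singleton_iff.mpr (Subgroup.mem_centralizer_iff.mp hg _ hj).symm

end Cfsg.Agent.H39
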