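import Cfsg.Agent.H39.StronglyEmbedded
import Mathlib.GroupTheory.Complement

/-!
Groups in which all involution centralizers are elementary abelian 2-groups.
-/

namespace Cfsg.Agent.H39

/-- The standing hypothesis on centralizers. -/
def ElemCentralizers (G : Type*) [Group G] : Prop :=
  ∀ t : G, orderOf t = 2 → IsMulCommutative (Subgroup.centralizer ({t} : Set G)) ∧
    ∀ c ∈ Subgroup.centralizer ({t} : Set G), c ^ 2 = 1

variable {G : Type*} [Group G] [Finite G] {T : Sylow 2 G}

theorem ec_isPGroup (hC : ElemCentralizers G) {t : G} (ht : orderOf t = 2) :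
    IsPGroup 2 (Subgroup.centralizer ({t} : Set G)) :=
  fun c => ⟨1, by rw [pow_one]; exact Subtype.ext ((hC t ht).2 c c.2)⟩

theorem ec_centralizer_eq (hC : ElemCentralizers G) (hnc : ¬ IsCyclic (T : Subgroup G)) {t : G}
    (ht : orderOf t = 2) (htT : t ∈ T) :
    Subgroup.centralizer ({t} : Set G) = (T : Subgroup G) := by
  refine T.is_maximal' (ec_isPGroup hC ht) fun x hx => ?_
  have hne : Nontrivial (T : Subgroup G) := not_subsingleton_iff_nontrivial.mp fun h => hnc isCyclic_of_subsingleton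
  have := T.2.center_nontrivial
  obtain ⟨⟨z, hz⟩, hz1⟩ := exists_ne (1 : Subgroup.center (T : Subgroup G))
  obtain ⟨z', hz'⟩ := exists_prime_orderOf_dvd_card' 2
    (show 2 ∣ Nat.card (Subgroup.center (T : Subgroup G)) by
      obtain ⟨n, hn, h⟩ := (T.2.to_subgroup (Subgroup.center (T : Subgroup G))).nontrivial_iff_card.mp inferInstance
      exact h ▸ dvd_pow_self 2 hn.ne')
  have hzo : orderOf ((z' : (T : Subgroup G)) : G) = 2 := by
    rw [Subgroup.orderOf_coe, Subgroup.orderOf_coe, hz']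
  have hle : ∀ y ∈ T, y ∈ Subgroup.centralizer ({((z' : (T : Subgroup G)) : G)} : Set G) := fun y hy =>
    Subgroup.mem_centralizer_singleton_iff.mpr
      (congrArg Subtype.val (Subgroup.mem_center_iff.mp z'.2 ⟨y, hy⟩))
  have := (hC _ hzo).1
  rw [Subgroup.mem_centralizer_singleton_iff]
  exact congrArg Subtype.val (this.is_comm.comm ⟨x, hle x hx⟩ ⟨t, hle t htT⟩)

theorem ec_elementary (hC : ElemCentralizers G) (hnc : ¬ IsCyclic (T : Subgroup G)) :
    (∀ x ∈ T, x ^ 2 = 1) ∧ ∀ x ∈ T, ∀ y ∈ T, x * y = y * x := by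
  have hne : Nontrivial (T : Subgroup G) := not_subsingleton_iff_nontrivial.mp fun h => hnc isCyclic_of_subsingleton
  obtain ⟨n, hn, h⟩ := T.2.nontrivial_iff_card.mp hne
  obtain ⟨t, ht⟩ := exists_prime_orderOf_dvd_card' 2 (h ▸ dvd_pow_self 2 hn.ne')
  have hto : orderOf (t : G) = 2 := by rw [Subgroup.orderOf_coe, ht]
  have e := ec_centralizer_eq hC hnc hto t.2
  constructor
  · exact fun x hx => (hC _ hto).2 x (by rw [e]; exact hx)
  · intro x hx y hy
    have := (hC _ hto).1
    exact congrArg Subtype.val (this.is_comm.comm ⟨x, by rw [e]; exact hx⟩ ⟨y, by rw [e]; exact hy⟩)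

theorem ec_mem_of_normalizer {t : G} (ht : orderOf t = 2)
    (htN : t ∈ Subgroup.normalizer ((T : Subgroup G) : Set G)) : t ∈ T := by
  have hz : IsPGroup 2 (Subgroup.zpowers t) :=
    IsPGroup.of_card (n := 1) (by rw [Nat.card_zpowers, ht, pow_one])
  have h : t ∈ Subgroup.zpowers t ⊓ Subgroup.normalizer ((T : Subgroup G) : Set G) :=
    ⟨Subgroup.mem_zpowers t, htN⟩
  exact ((hz.inf_normalizer_sylow T).le h).2

theorem ec_stronglyEmbedded (hC : ElemCentralizers G) (hnc : ¬ IsCyclic (T : Subgroup G))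
    (hnn : ¬ (T : Subgroup G).Normal) :
    Cfsg.IsStronglyEmbedded (Subgroup.normalizer ((T : Subgroup G) : Set G)) := by
  set N : Subgroup G := Subgroup.normalizer ((T : Subgroup G) : Set G) with hN
  have hne : Nontrivial (T : Subgroup G) := not_subsingleton_iff_nontrivial.mp fun h => hnc isCyclic_of_subsingleton
  refine ⟨fun h => hnn (Subgroup.normalizer_eq_top_iff.mp h), ?_, fun g hg => ?_⟩
  · obtain ⟨n, hn, h⟩ := T.2.nontrivial_iff_card.mp hne
    exact even_iff_two_dvd.mpr ((h ▸ dvd_pow_self 2 hn.ne').trans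
      (Subgroup.card_dvd_of_le Subgroup.le_normalizer))
  by_contra hodd
  obtain ⟨t, ht⟩ := exists_prime_orderOf_dvd_card' 2
    (even_iff_two_dvd.mp (Nat.not_odd_iff_even.mp hodd))
  have hto : orderOf (t : G) = 2 := by rw [Subgroup.orderOf_coe, ht]
  have htT : (t : G) ∈ T := ec_mem_of_normalizer hto t.2.1
  set s : G := g⁻¹ * (t : G) * g with hsdef
  have hso : orderOf s = 2 := by
    have := orderOf_conj g⁻¹ (t : G)
    rw [inv_inv] at this
    rw [hsdef, this, hto]
  have hsT : s ∈ T := ec_mem_of_normalizer hso (mem_map_conj.mp t.2.2)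
  refine hg (mem_normalizer_of_conj_mem fun y hy => ?_)
  rw [← ec_centralizer_eq hC hnc hto htT, Subgroup.mem_centralizer_singleton_iff]
  have h := (ec_elementary hC hnc).2 y hy s hsT
  have := congrArg (fun z => g * z * g⁻¹) h
  simpa [hsdef, mul_assoc] using this

/-- The basic structure of `H = N(T)` relative to an involution `u` outside `H`. -/
theorem ec_structure (hC : ElemCentralizers G) (hnc : ¬ IsCyclic (T : Subgroup G))
    (hnn : ¬ (T : Subgroup G).Normal) {u : G} (hu : orderOf u = 2)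
    (huH : u ∉ Subgroup.normalizer ((T : Subgroup G) : Set G)) :
    let H := Subgroup.normalizer ((T : Subgroup G) : Set G)
    let D := H ⊓ H.map (MulAut.conj u).toMonoidHom
    (∀ d ∈ D, u * d * u⁻¹ = d⁻¹) ∧ Nat.card H = Nat.card T * (Nat.card T - 1) ∧
      Subgroup.IsComplement' (D.subgroupOf H) ((T : Subgroup G).subgroupOf H) ∧
      Nat.card D = Nat.card T - 1 := by
  intro H D
  have hH : Cfsg.IsStronglyEmbedded H := ec_stronglyEmbedded hC hnc hnn
  have hDodd : Odd (Nat.card D) := hH.2.2 u huH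
  have hTH : (T : Subgroup G) ≤ H := Subgroup.le_normalizer
  have hDT : ∀ x, x ∈ D → x ∈ T → x = 1 := by
    intro x hxD hxT
    have h1 : orderOf x ∣ 2 := orderOf_dvd_of_pow_eq_one ((ec_elementary hC hnc).1 x hxT)
    rcases (Nat.dvd_prime Nat.prime_two).mp h1 with h | h
    · exact orderOf_eq_one_iff.mp h
    · exfalso
      have := h ▸ Subgroup.orderOf_dvd_natCard D hxD
      exact (Nat.not_even_iff_odd.mpr hDodd) (even_iff_two_dvd.mpr this)
  obtain ⟨t₀, ht₀, ht₀H⟩ := se_exists_involution hH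
  have ht₀T : t₀ ∈ T := ec_mem_of_normalizer ht₀ ht₀H
  have hconjT : ∀ d : D, (d : G) * t₀ * (d : G)⁻¹ ∈ T := fun d =>
    (Subgroup.mem_normalizer_iff.mp d.2.1 t₀).mp ht₀T
  let f : D → {x : (T : Subgroup G) // x ≠ 1} := fun d => ⟨⟨_, hconjT d⟩, fun h =>
    ne_one_of_orderOf_eq_two (by rw [orderOf_conj]; exact ht₀ : orderOf ((d : G) * t₀ * (d : G)⁻¹) = 2)
      (congrArg Subtype.val h)⟩
  have hf : Function.Bijective f := by
    constructor
    · intro a b h
      have h' : (a : G) * t₀ * (a : G)⁻¹ = (b : G) * t₀ * (b : G)⁻¹ :=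
        congrArg (fun x : {x : (T : Subgroup G) // x ≠ 1} => (x.1 : G)) h
      have hm : (a : G)⁻¹ * b ∈ Subgroup.centralizer ({t₀} : Set G) := by
        rw [Subgroup.mem_centralizer_singleton_iff]
        have := congrArg (fun z => (a : G)⁻¹ * z * (b : G)) h'
        simpa [mul_assoc] using this.symm
      rw [ec_centralizer_eq hC hnc ht₀ ht₀T] at hm
      exact Subtype.ext (inv_mul_eq_one.mp (hDT _ (mul_mem (inv_mem a.2) b.2) hm))
    · rintro ⟨⟨x, hx⟩, hx1⟩
      have hxo : orderOf x = 2 := orderOf_eq_prime ((ec_elementary hC hnc).1 x hx)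
        (fun h => hx1 (Subtype.ext h))
      obtain ⟨d, hd, hdx⟩ := se_transitive hH huH ht₀ ht₀H hxo (hTH hx)
      exact ⟨⟨d, hd⟩, Subtype.ext (Subtype.ext hdx)⟩
  have hDcard : Nat.card D = Nat.card T - 1 := by
    classical
    have := Fintype.ofFinite (T : Subgroup G)
    rw [Nat.card_congr (Equiv.ofBijective f hf), Nat.card_eq_fintype_card,
      Nat.card_eq_fintype_card, Fintype.card_subtype_compl, Fintype.card_subtype_eq]
  have hcompl : Subgroup.IsComplement' (D.subgroupOf H) ((T : Subgroup G).subgroupOf H) := by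
    refine Subgroup.isComplement'_of_disjoint_and_mul_eq_univ ?_ (Set.eq_univ_of_forall fun h => ?_)
    · rw [Subgroup.disjoint_def]
      exact fun {x} hxD hxT => Subtype.ext (hDT _ hxD hxT)
    · have hh : (h : G) * t₀ * (h : G)⁻¹ ∈ T := (Subgroup.mem_normalizer_iff.mp h.2 t₀).mp ht₀T
      obtain ⟨d, hd, hdx⟩ := se_transitive hH huH ht₀ ht₀H ((orderOf_conj _ _).trans ht₀) (hTH hh)
      have hm : d⁻¹ * (h : G) ∈ T := by
        rw [← SetLike.mem_coe]
        show d⁻¹ * (h : G) ∈ (T : Subgroup G)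
        rw [← ec_centralizer_eq hC hnc ht₀ ht₀T, Subgroup.mem_centralizer_singleton_iff]
        have := congrArg (fun z => d⁻¹ * z * (h : G)) hdx
        simpa [mul_assoc] using this.symm
      exact ⟨⟨d, hd.1⟩, hd, ⟨d⁻¹ * h, hTH hm⟩, hm, Subtype.ext (mul_inv_cancel_left _ _)⟩
  refine ⟨?_, ?_, hcompl, hDcard⟩
  · have huu := inv_eq_of_orderOf_eq_two hu
    have hu2 := mul_self_of_orderOf_eq_two hu
    have hu3 : ∀ x : G, u * (u * x) = x := fun x => by rw [← mul_assoc, hu2, one_mul]
    have hnorm : ∀ d ∈ D, u * d * u⁻¹ ∈ D := by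
      intro d hd
      refine ⟨?_, conj_mem_map_conj hd.1⟩
      have := mem_map_conj.mp hd.2
      rw [huu] at this ⊢
      exact this
    let g : D → D := fun d => ⟨(d : G)⁻¹ * (u * d * u⁻¹), mul_mem (inv_mem d.2) (hnorm _ d.2)⟩
    have hg : Function.Injective g := by
      intro a b h
      have h' : (a : G)⁻¹ * (u * a * u⁻¹) = (b : G)⁻¹ * (u * b * u⁻¹) := congrArg Subtype.val h
      have hm : (b : G) * (a : G)⁻¹ ∈ Subgroup.centralizer ({u} : Set G) := by
        rw [Subgroup.mem_centralizer_singleton_iff]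
        have := congrArg (fun z => (b : G) * z * (u * (a : G)⁻¹)) h'
        simpa [huu, mul_assoc, hu2, hu3] using this
      have h2 := (hC u hu).2 _ hm
      have hm2 : (b : G) * (a : G)⁻¹ ∈ D := mul_mem b.2 (inv_mem a.2)
      have h3 : orderOf ((b : G) * (a : G)⁻¹) = 1 := Nat.eq_one_of_dvd_coprimes
        ((Nat.coprime_two_left).mpr hDodd) (orderOf_dvd_of_pow_eq_one h2)
        (Subgroup.orderOf_dvd_natCard D hm2)
      exact Subtype.ext (mul_inv_eq_one.mp (orderOf_eq_one_iff.mp h3)).symm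
    intro d hd
    obtain ⟨e, he⟩ := (Finite.injective_iff_surjective.mp hg) ⟨d, hd⟩
    have he' : (e : G)⁻¹ * (u * e * u⁻¹) = d := congrArg Subtype.val he
    rw [← he', huu]
    simp [mul_assoc, hu2, hu3, huu]
  · have h := hcompl.card_mul_card
    rw [Nat.card_congr (Subgroup.subgroupOfEquivOfLe (show D ≤ H from inf_le_left)).toEquiv,
      Nat.card_congr (Subgroup.subgroupOfEquivOfLe hTH).toEquiv, hDcard] at h
    rw [← h, mul_comm]

end Cfsg.Agent.H39
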