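import Cfsg.Agent.H39.ElemCentralizers
import Mathlib.GroupTheory.SpecificGroups.Cyclic
import Mathlib.Algebra.Ring.Parity
import Mathlib.Tactic.Linarith
import Mathlib.Tactic.Zify
import Mathlib.Tactic.LinearCombination

/-!
Counting strongly real elements in a group with elementary abelian involution centralizers:
there are `#T + 1` cosets of `N(T)`.
-/

namespace Cfsg.Agent.H39

variable {G : Type*} [Group G] [Finite G] {T : Sylow 2 G}

theorem se_odd_of_fix_ne {H : Subgroup G} (hH : Cfsg.IsStronglyEmbedded H) {s u : G}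
    (hs : orderOf s = 2) (hu : orderOf u = 2) {x y : G ⧸ H} (hxy : x ≠ y) (hsx : s • x = x)
    (huy : u • y = y) : Odd (orderOf (u * s)) := by
  by_contra h
  obtain ⟨w, hw, -, hws, hwu⟩ := exists_central_involution hs hu (Nat.not_odd_iff_even.mp h)
  have hwx : w • x = x := se_fix_unique hH hs (by rw [← mul_smul, ← hws.eq, mul_smul, hsx]) hsx
  have hwy : w • y = y := se_fix_unique hH hu (by rw [← mul_smul, ← hwu.eq, mul_smul, huy]) huy
  exact hxy (se_fix_unique hH hw hwx hwy)

theorem eq_one_of_sq_of_odd {a : G} (h : a ^ 2 = 1) (ho : Odd (orderOf a)) : a = 1 :=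
  orderOf_eq_one_iff.mp (Nat.eq_one_of_dvd_coprimes (Nat.coprime_two_left.mpr ho)
    (orderOf_dvd_of_pow_eq_one h) dvd_rfl)

theorem odd_card_of_forall {B : Subgroup G} (h : ∀ v ∈ B, orderOf v ≠ 2) : Odd (Nat.card B) := by
  by_contra hne
  obtain ⟨v, hv⟩ := exists_prime_orderOf_dvd_card' 2
    (even_iff_two_dvd.mp (Nat.not_odd_iff_even.mp hne))
  exact h v v.2 (by rw [Subgroup.orderOf_coe, hv])

theorem odd_of_mem {B : Subgroup G} (h : Odd (Nat.card B)) {a : G} (ha : a ∈ B) :
    Odd (orderOf a) :=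
  h.of_dvd_nat (Subgroup.orderOf_dvd_natCard B ha)

/-- An involution inverts every subgroup of odd order that it normalizes. -/
theorem ec_inverts (hC : ElemCentralizers G) {v : G} (hv : orderOf v = 2) {B : Subgroup G}
    (hB : Odd (Nat.card B)) (hn : ∀ b ∈ B, v * b * v⁻¹ ∈ B) : ∀ b ∈ B, v * b * v⁻¹ = b⁻¹ := by
  let g : B → B := fun b => ⟨(b : G)⁻¹ * (v * b * v⁻¹), mul_mem (inv_mem b.2) (hn _ b.2)⟩
  have hg : Function.Injective g := by
    intro a b h
    have h' : (a : G)⁻¹ * (v * a * v⁻¹) = (b : G)⁻¹ * (v * b * v⁻¹) := congrArg Subtype.val h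
    have hm : (b : G) * (a : G)⁻¹ ∈ Subgroup.centralizer ({v} : Set G) := by
      rw [Subgroup.mem_centralizer_singleton_iff]
      have := congrArg (fun z => (b : G) * z * (v * (a : G)⁻¹)) h'
      simpa [mul_assoc] using this
    have h1 := eq_one_of_sq_of_odd ((hC v hv).2 _ hm) (odd_of_mem hB (mul_mem b.2 (inv_mem a.2)))
    exact Subtype.ext (mul_inv_eq_one.mp h1).symm
  intro b hb
  obtain ⟨e, he⟩ := (Finite.injective_iff_surjective.mp hg) ⟨b, hb⟩
  have he' : (e : G)⁻¹ * (v * e * v⁻¹) = b := congrArg Subtype.val he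
  rw [← he', inv_eq_of_orderOf_eq_two hv]
  have hv3 : ∀ x : G, v * (v * x) = x := fun x => by
    rw [← mul_assoc, mul_self_of_orderOf_eq_two hv, one_mul]
  simp [mul_assoc, inv_eq_of_orderOf_eq_two hv, hv3, mul_self_of_orderOf_eq_two hv]

/-- Elements of odd order, other than 1, inverted by an involution. -/
def IsStronglyReal (x : G) : Prop :=
  x ≠ 1 ∧ Odd (orderOf x) ∧ ∃ v : G, orderOf v = 2 ∧ v * x * v⁻¹ = x⁻¹

omit [Finite G] in
theorem IsStronglyReal.conj {x : G} (hx : IsStronglyReal x) (g : G) :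
    IsStronglyReal (g * x * g⁻¹) := by
  obtain ⟨h1, h2, v, hv, hvx⟩ := hx
  refine ⟨fun h => h1 (conj_eq_one_iff.mp h), by rwa [orderOf_conj], g * v * g⁻¹,
    by rwa [orderOf_conj], ?_⟩
  calc g * v * g⁻¹ * (g * x * g⁻¹) * (g * v * g⁻¹)⁻¹ = g * (v * x * v⁻¹) * g⁻¹ := by
        simp [mul_assoc]
    _ = _ := by rw [hvx]; simp [mul_assoc]

theorem sr_centralizer (hC : ElemCentralizers G) {x v : G} (hx : x ≠ 1) (ho : Odd (orderOf x))
    (hv : orderOf v = 2) (hvx : v * x * v⁻¹ = x⁻¹) :
    Odd (Nat.card (Subgroup.centralizer ({x} : Set G))) ∧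
      ∀ b ∈ Subgroup.centralizer ({x} : Set G), v * b * v⁻¹ = b⁻¹ := by
  have hodd : Odd (Nat.card (Subgroup.centralizer ({x} : Set G))) := odd_card_of_forall fun w hw hwo =>
    hx (eq_one_of_sq_of_odd ((hC w hwo).2 x (Subgroup.mem_centralizer_singleton_iff.mpr
      (Subgroup.mem_centralizer_singleton_iff.mp hw).symm)) ho)
  refine ⟨hodd, ec_inverts hC hv hodd fun b hb => ?_⟩
  rw [Subgroup.mem_centralizer_singleton_iff] at hb ⊢
  have h1 : Commute (v * b * v⁻¹) (v * x * v⁻¹) := (Commute.conj_iff v).mpr hb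
  rw [hvx, Commute.inv_right_iff] at h1
  exact h1

theorem inverted_commute {B : Subgroup G} {v : G} (h : ∀ b ∈ B, v * b * v⁻¹ = b⁻¹) {a b : G}
    (ha : a ∈ B) (hb : b ∈ B) : a * b = b * a := by
  have h2 : v * (a * b) * v⁻¹ = a⁻¹ * b⁻¹ := by
    rw [← h a ha, ← h b hb]; simp [mul_assoc]
  rw [h _ (mul_mem ha hb), mul_inv_rev] at h2
  have := congrArg (·⁻¹) h2
  simpa [mul_inv_rev] using this

theorem sr_centralizer_eq (hC : ElemCentralizers G) {x : G} (hx : IsStronglyReal x) {a : G}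
    (ha : a ∈ Subgroup.centralizer ({x} : Set G)) (ha1 : a ≠ 1) :
    Subgroup.centralizer ({a} : Set G) = Subgroup.centralizer ({x} : Set G) := by
  obtain ⟨h1, h2, v, hv, hvx⟩ := hx
  obtain ⟨hBodd, hB⟩ := sr_centralizer hC h1 h2 hv hvx
  have hxB : x ∈ Subgroup.centralizer ({x} : Set G) := Subgroup.mem_centralizer_singleton_iff.mpr rfl
  obtain ⟨-, hB'⟩ := sr_centralizer hC ha1 (odd_of_mem hBodd ha) hv (hB a ha)
  refine le_antisymm (fun b hb => ?_) (fun b hb => ?_)
  · rw [Subgroup.mem_centralizer_singleton_iff]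
    exact inverted_commute hB' hb (Subgroup.mem_centralizer_singleton_iff.mpr
      (inverted_commute hB hxB ha))
  · rw [Subgroup.mem_centralizer_singleton_iff]
    exact inverted_commute hB hb ha

theorem sr_of_mem (hC : ElemCentralizers G) {x : G} (hx : IsStronglyReal x) {a : G}
    (ha : a ∈ Subgroup.centralizer ({x} : Set G)) (ha1 : a ≠ 1) : IsStronglyReal a := by
  obtain ⟨h1, h2, v, hv, hvx⟩ := hx
  obtain ⟨hBodd, hB⟩ := sr_centralizer hC h1 h2 hv hvx
  exact ⟨ha1, odd_of_mem hBodd ha, v, hv, hB a ha⟩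

/-- The involutions inverting a strongly real element correspond to its centralizer. -/
theorem sr_card_inverting (hC : ElemCentralizers G) {x : G} (hx : IsStronglyReal x) :
    Nat.card {v : G // orderOf v = 2 ∧ v * x * v⁻¹ = x⁻¹} =
      Nat.card (Subgroup.centralizer ({x} : Set G)) := by
  obtain ⟨h1, h2, v, hv, hvx⟩ := hx
  obtain ⟨hBodd, hB⟩ := sr_centralizer hC h1 h2 hv hvx
  have hv2 := mul_self_of_orderOf_eq_two hv
  have hvi := inv_eq_of_orderOf_eq_two hv
  set B := Subgroup.centralizer ({x} : Set G) with hBdef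
  have f1 : ∀ a ∈ B, orderOf (a * v) = 2 ∧ a * v * x * (a * v)⁻¹ = x⁻¹ := by
    intro a ha
    constructor
    · refine orderOf_eq_two_of_mul_self ?_ fun h => ?_
      · have := hB a ha
        rw [hvi] at this
        rw [show a * v * (a * v) = a * (v * a * v) by simp [mul_assoc], this, mul_inv_cancel]
      · have hva : a = v := by rw [mul_eq_one_iff_eq_inv.mp h, hvi]
        have := odd_of_mem hBodd ha
        rw [hva, hv] at this
        exact absurd this (by decide)
    · have hc : Commute a x⁻¹ :=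
        Commute.inv_right (Subgroup.mem_centralizer_singleton_iff.mp ha)
      calc a * v * x * (a * v)⁻¹ = a * (v * x * v⁻¹) * a⁻¹ := by simp [mul_assoc]
        _ = x⁻¹ := by rw [hvx, hc.eq, mul_inv_cancel_right]
  have f2 : ∀ w : G, w * x * w⁻¹ = x⁻¹ → w * v ∈ B := by
    intro w hw
    rw [hBdef, Subgroup.mem_centralizer_singleton_iff]
    refine mul_inv_eq_iff_eq_mul.mp ?_
    calc w * v * x * (w * v)⁻¹ = w * (v * x * v⁻¹) * w⁻¹ := by simp [mul_assoc]
      _ = (w * x * w⁻¹)⁻¹ := by rw [hvx]; simp [mul_assoc]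
      _ = x := by rw [hw, inv_inv]
  exact (Nat.card_congr
    { toFun := fun a : B => (⟨(a : G) * v, f1 _ a.2⟩ : {v : G // orderOf v = 2 ∧ v * x * v⁻¹ = x⁻¹})
      invFun := fun w => ⟨w.1 * v, f2 _ w.2.2⟩
      left_inv := fun a => Subtype.ext (by simp [mul_assoc, hv2])
      right_inv := fun w => Subtype.ext (by simp [mul_assoc, hv2]) }).symm

theorem mem_normalizer_centralizer_of_conj {a b h : G}
    (e : Subgroup.centralizer ({a} : Set G) = Subgroup.centralizer ({b} : Set G))
    (hab : h * a * h⁻¹ = b) :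
    h ∈ Subgroup.normalizer (Subgroup.centralizer ({a} : Set G) : Set G) := by
  refine mem_normalizer_of_conj_mem fun c hc => ?_
  rw [e, Subgroup.mem_centralizer_singleton_iff, ← hab]
  exact (Commute.conj_iff h).mpr (Subgroup.mem_centralizer_singleton_iff.mp hc)

/-- `N(C(x))` is `C(x)` extended by an inverting involution. -/
theorem sr_normalizer (hC : ElemCentralizers G) {x : G} (hx : IsStronglyReal x) :
    Nat.card (Subgroup.normalizer (Subgroup.centralizer ({x} : Set G) : Set G)) =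
      2 * Nat.card (Subgroup.centralizer ({x} : Set G)) := by
  obtain ⟨h1, h2, v, hv, hvx⟩ := hx
  obtain ⟨hBodd, hB⟩ := sr_centralizer hC h1 h2 hv hvx
  set B := Subgroup.centralizer ({x} : Set G) with hBdef
  set N := Subgroup.normalizer (B : Set G) with hN
  have hv2 := mul_self_of_orderOf_eq_two hv
  have hvi := inv_eq_of_orderOf_eq_two hv
  have hvN : v ∈ N := mem_normalizer_of_conj_mem fun b hb => by rw [hB b hb]; exact inv_mem hb
  have hvB : v ∉ B := fun h => by
    have := odd_of_mem hBodd h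
    rw [hv] at this
    exact absurd this (by decide)
  have hxB : x ∈ B := Subgroup.mem_centralizer_singleton_iff.mpr rfl
  have hcover : ∀ h ∈ N, h ∈ B ∨ h * v ∈ B := by
    intro h hh
    -- `h v h⁻¹` also inverts `B`
    have hinvx : h * v * h⁻¹ * x * (h * v * h⁻¹)⁻¹ = x⁻¹ := by
      have hm := (Subgroup.mem_normalizer_iff''.mp hh x).mp hxB
      calc h * v * h⁻¹ * x * (h * v * h⁻¹)⁻¹ = h * (v * (h⁻¹ * x * h) * v⁻¹) * h⁻¹ := by
            simp [mul_assoc]
        _ = x⁻¹ := by rw [hB _ hm]; simp [mul_assoc]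
    have hm : h * v * h⁻¹ * v⁻¹ ∈ B := by
      rw [hBdef, Subgroup.mem_centralizer_singleton_iff]
      refine mul_inv_eq_iff_eq_mul.mp ?_
      calc h * v * h⁻¹ * v⁻¹ * x * (h * v * h⁻¹ * v⁻¹)⁻¹
          = h * v * h⁻¹ * (v⁻¹ * x * v) * (h * v * h⁻¹)⁻¹ := by simp [mul_assoc]
        _ = h * v * h⁻¹ * x⁻¹ * (h * v * h⁻¹)⁻¹ := by
              rw [← hvx]; simp [mul_assoc, hvi]
        _ = (h * v * h⁻¹ * x * (h * v * h⁻¹)⁻¹)⁻¹ := by simp [mul_assoc]
        _ = x := by rw [hinvx, inv_inv]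
    obtain ⟨j, hj⟩ := odd_of_mem hBodd hm
    set a := h * v * h⁻¹ * v⁻¹ with ha
    have haj : a ^ (j + 1) ∈ B := pow_mem hm _
    have hc : Commute ((a ^ (j + 1))⁻¹ * h) v := by
      have e1 : a ^ (j + 1) * v * (a ^ (j + 1))⁻¹ = h * v * h⁻¹ := by
        have e2 := hB _ haj
        calc a ^ (j + 1) * v * (a ^ (j + 1))⁻¹
            = a ^ (j + 1) * (v * (a ^ (j + 1))⁻¹ * v⁻¹) * v := by simp [mul_assoc]
          _ = a ^ (j + 1) * a ^ (j + 1) * v := by
              rw [show v * (a ^ (j + 1))⁻¹ * v⁻¹ = (v * a ^ (j + 1) * v⁻¹)⁻¹ by simp [mul_assoc],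
                e2, inv_inv]
          _ = a * v := by
              rw [← pow_add, show j + 1 + (j + 1) = (2 * j + 1) + 1 by ring, ← hj, pow_succ,
                pow_orderOf_eq_one, one_mul]
          _ = _ := by rw [ha, inv_mul_cancel_right]
      have := congrArg (fun z => (a ^ (j + 1))⁻¹ * z * h) e1
      exact (show _ = _ by simpa [mul_assoc] using this.symm)
    set c := (a ^ (j + 1))⁻¹ * h with hcdef
    have hcN : c ∈ N := mul_mem (Subgroup.le_normalizer (inv_mem haj)) hh
    have hc2 := (hC v hv).2 c (Subgroup.mem_centralizer_singleton_iff.mpr hc)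
    have hh' : h = a ^ (j + 1) * c := by rw [hcdef, mul_inv_cancel_left]
    by_cases hc1 : c = 1
    · exact Or.inl (by rw [hh', hc1, mul_one]; exact haj)
    right
    have hco : orderOf c = 2 := orderOf_eq_prime hc2 hc1
    have hcinv := ec_inverts hC hco hBodd (fun b hb => (Subgroup.mem_normalizer_iff.mp hcN b).mp hb)
    have hcv : c * v ∈ B := by
      rw [hBdef, Subgroup.mem_centralizer_singleton_iff]
      refine mul_inv_eq_iff_eq_mul.mp ?_
      calc c * v * x * (c * v)⁻¹ = c * (v * x * v⁻¹) * c⁻¹ := by simp [mul_assoc]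
        _ = (c * x * c⁻¹)⁻¹ := by rw [hvx]; simp [mul_assoc]
        _ = x := by rw [hcinv x hxB, inv_inv]
    rw [hh', mul_assoc]
    exact mul_mem haj hcv
  have hidx : (B.subgroupOf N).index = 2 := by
    rw [Subgroup.index_eq_two_iff]
    refine ⟨⟨v, hvN⟩, fun b => ?_⟩
    simp only [Subgroup.mem_subgroupOf, Subgroup.coe_mul]
    rcases hcover b b.2 with h | h
    · exact Or.inr ⟨h, fun h' => hvB ((B.mul_mem_cancel_left h).mp h')⟩
    · exact Or.inl ⟨h, fun h' => hvB ((B.mul_mem_cancel_left h').mp h)⟩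
  rw [← (B.subgroupOf N).index_mul_card, hidx,
    Nat.card_congr (Subgroup.subgroupOfEquivOfLe (Subgroup.le_normalizer)).toEquiv]

open Classical in
/-- The nontrivial elements of the conjugates of `C(x)`. -/
noncomputable def conjSet [Fintype G] (x : G) : Finset G :=
  Finset.univ.filter fun y => y ≠ 1 ∧ ∃ g : G, g⁻¹ * y * g ∈ Subgroup.centralizer ({x} : Set G)

theorem mem_conjSet [Fintype G] {x y : G} : y ∈ conjSet x ↔
    y ≠ 1 ∧ ∃ g : G, g⁻¹ * y * g ∈ Subgroup.centralizer ({x} : Set G) := by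
  simp [conjSet]

theorem conjSet_sr (hC : ElemCentralizers G) [Fintype G] {x y : G} (hx : IsStronglyReal x)
    (hy : y ∈ conjSet x) : IsStronglyReal y ∧
      Nat.card (Subgroup.centralizer ({y} : Set G)) = Nat.card (Subgroup.centralizer ({x} : Set G)) := by
  obtain ⟨hy1, g, hg⟩ := mem_conjSet.mp hy
  have ha1 : g⁻¹ * y * g ≠ 1 := fun h => hy1 (by
    have := congrArg (fun z => g * z * g⁻¹) h; simpa [mul_assoc] using this)
  have hyg : g * (g⁻¹ * y * g) * g⁻¹ = y := by simp [mul_assoc]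
  refine ⟨hyg ▸ (sr_of_mem hC hx hg ha1).conj g, ?_⟩
  rw [← sr_centralizer_eq hC hx hg ha1]
  refine Nat.card_congr ((MulAut.conj g⁻¹).toEquiv.subtypeEquiv fun c => ?_)
  simp only [Subgroup.mem_centralizer_singleton_iff, MulEquiv.toEquiv_eq_coe, MulEquiv.coe_toEquiv,
    MulAut.conj_apply, inv_inv]
  constructor
  · intro h; simp only [mul_assoc, mul_inv_cancel_left]; rw [← mul_assoc c, h]; simp [mul_assoc]
  · intro h
    have := congrArg (fun z => g * z * g⁻¹) h
    simpa [mul_assoc] using this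

theorem conjSet_card (hC : ElemCentralizers G) [Fintype G] {x : G} (hx : IsStronglyReal x) :
    ∃ i : ℕ, Nat.card G = i * (2 * Nat.card (Subgroup.centralizer ({x} : Set G))) ∧
      (conjSet x).card = i * (Nat.card (Subgroup.centralizer ({x} : Set G)) - 1) := by
  classical
  set B := Subgroup.centralizer ({x} : Set G) with hB
  set N := Subgroup.normalizer (B : Set G) with hN
  refine ⟨N.index, by rw [← sr_normalizer hC hx]; exact N.index_mul_card.symm, ?_⟩
  have key : ∀ (g h : G) (a b : G), a ∈ B → b ∈ B → a ≠ 1 → g * a * g⁻¹ = h * b * h⁻¹ →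
      h⁻¹ * g ∈ N := by
    intro g h a b ha hb ha1 e
    have hb1 : b ≠ 1 := fun h1 => ha1 (by rw [h1] at e; simpa using e)
    have e1 : (h⁻¹ * g) * a * (h⁻¹ * g)⁻¹ = b := by
      have := congrArg (fun z => h⁻¹ * z * h) e; simpa [mul_assoc] using this
    have := mem_normalizer_centralizer_of_conj
      ((sr_centralizer_eq hC hx ha ha1).trans (sr_centralizer_eq hC hx hb hb1).symm) e1
    rwa [sr_centralizer_eq hC hx ha ha1] at this
  have e : {y // y ∈ conjSet x} ≃ (G ⧸ N) × {a : B // a ≠ 1} := by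
    refine (Equiv.ofBijective (fun p : (G ⧸ N) × {a : B // a ≠ 1} =>
      (⟨p.1.out * (p.2.1 : G) * p.1.out⁻¹, mem_conjSet.mpr ⟨fun h => p.2.2
        (Subtype.ext (conj_eq_one_iff.mp h)), p.1.out, by simp [mul_assoc]⟩⟩ : {y // y ∈ conjSet x}))
      ⟨?_, ?_⟩).symm
    · rintro ⟨q₁, ⟨a₁, ha₁⟩, hn₁⟩ ⟨q₂, ⟨a₂, ha₂⟩, hn₂⟩ h
      have e := congrArg Subtype.val h
      have hq : q₁ = q₂ := by
        rw [← Quotient.out_eq q₁, ← Quotient.out_eq q₂]
        exact (QuotientGroup.eq.mpr (key _ _ _ _ ha₁ ha₂ (fun h => hn₁ (Subtype.ext h)) e)).symm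
      subst hq
      obtain rfl : a₁ = a₂ := mul_left_cancel (mul_right_cancel e)
      rfl
    · rintro ⟨y, hy⟩
      obtain ⟨hy1, g, hg⟩ := mem_conjSet.mp hy
      set q : G ⧸ N := QuotientGroup.mk g with hq
      have hn : q.out⁻¹ * g ∈ N := QuotientGroup.eq.mp (Quotient.out_eq q)
      have ha := (Subgroup.mem_normalizer_iff.mp hn _).mp hg
      refine ⟨(q, ⟨⟨_, ha⟩, fun h => hy1 ?_⟩), Subtype.ext ?_⟩
      · have := congrArg (fun z : B => q.out * (z : G) * q.out⁻¹) h
        simpa [mul_assoc] using this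
      · simp [mul_assoc]
  have hcard := Nat.card_congr e
  rw [Nat.card_eq_finsetCard, Nat.card_prod] at hcard
  rw [hcard, Subgroup.index]
  congr 1
  have := Fintype.ofFinite B
  rw [Nat.card_eq_fintype_card, Fintype.card_subtype_compl, Fintype.card_subtype_eq,
    ← Nat.card_eq_fintype_card]

theorem conjSet_disjoint (hC : ElemCentralizers G) [Fintype G] {x y : G} (hx : IsStronglyReal x)
    (hy : IsStronglyReal y) (h : y ∉ conjSet x) : Disjoint (conjSet x) (conjSet y) := by
  rw [Finset.disjoint_left]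
  intro z hzx hzy
  obtain ⟨hz1, g, hg⟩ := mem_conjSet.mp hzx
  obtain ⟨-, g', hg'⟩ := mem_conjSet.mp hzy
  refine h (mem_conjSet.mpr ⟨hy.1, g'⁻¹⁻¹⁻¹ * g, ?_⟩)
  have e1 := sr_centralizer_eq hC hx hg (fun e => hz1 (by
    have := congrArg (fun w => g * w * g⁻¹) e; simpa [mul_assoc] using this))
  have e2 := sr_centralizer_eq hC hy hg' (fun e => hz1 (by
    have := congrArg (fun w => g' * w * g'⁻¹) e; simpa [mul_assoc] using this))
  have hy' : y ∈ Subgroup.centralizer ({g'⁻¹ * z * g'} : Set G) := by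
    rw [e2]; exact Subgroup.mem_centralizer_singleton_iff.mpr rfl
  rw [← e1]
  rw [Subgroup.mem_centralizer_singleton_iff] at hy' ⊢
  have := congrArg (fun w => g⁻¹ * g' * w * g'⁻¹ * g) hy'
  simpa [mul_assoc] using this

theorem card_pairs_eq_sum (hC : ElemCentralizers G) [Fintype G] [Fintype {y : G // IsStronglyReal y}]
    {H : Subgroup G}
    (hH : Cfsg.IsStronglyEmbedded H) (hfix : ∀ (x : G ⧸ H) (v w : G), orderOf v = 2 → orderOf w = 2 →
      v • x = x → w • x = x → Commute v w) :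
    (H.index * H.index - H.index) *
        (Nat.card {t : G // orderOf t = 2 ∧ t ∈ H} * Nat.card {t : G // orderOf t = 2 ∧ t ∈ H}) =
      ∑ y : {y : G // IsStronglyReal y}, Nat.card (Subgroup.centralizer ({(y : G)} : Set G)) := by
  classical
  have := Fintype.ofFinite (G ⧸ H)
  let I : G ⧸ H → Type _ := fun x => {t : G // orderOf t = 2 ∧ t • x = x}
  let F : (Σ p : {p : (G ⧸ H) × (G ⧸ H) // p.1 ≠ p.2}, I p.1.1 × I p.1.2) →
      (Σ y : {y : G // IsStronglyReal y}, {v : G // orderOf v = 2 ∧ v * (y : G) * v⁻¹ = (y : G)⁻¹}) :=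
    fun q => ⟨⟨q.2.2.1 * q.2.1.1, fun h => q.1.2 (by
        have e : q.2.2.1 = q.2.1.1 := by
          rw [mul_eq_one_iff_eq_inv.mp h, inv_eq_of_orderOf_eq_two q.2.1.2.1]
        exact se_fix_unique hH q.2.1.2.1 q.2.1.2.2 (e ▸ q.2.2.2.2)),
      se_odd_of_fix_ne hH q.2.1.2.1 q.2.2.2.1 q.1.2 q.2.1.2.2 q.2.2.2.2,
      q.2.1.1, q.2.1.2.1, conj_mul_involutions q.2.1.2.1 q.2.2.2.1⟩,
      q.2.1.1, q.2.1.2.1, conj_mul_involutions q.2.1.2.1 q.2.2.2.1⟩
  have hF : Function.Bijective F := by
    constructor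
    · rintro ⟨⟨⟨x, y⟩, hxy⟩, ⟨v, hv, hvx⟩, ⟨w, hw, hwy⟩⟩ ⟨⟨⟨x', y'⟩, hxy'⟩, ⟨v', hv', hvx'⟩, ⟨w', hw', hwy'⟩⟩ h
      have h1 := congrArg (fun s => ((s.1 : {y : G // IsStronglyReal y}) : G)) h
      have h2 := congrArg (fun s => (s.2.1 : G)) h
      simp only [F] at h1 h2
      subst h2
      obtain rfl : w = w' := mul_right_cancel h1
      obtain rfl : x = x' := se_fix_unique hH hv hvx hvx'
      obtain rfl : y = y' := se_fix_unique hH hw hwy hwy'
      rfl
    · rintro ⟨⟨z, hz1, hzo, hzr⟩, v, hv, hvz⟩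
      have hvi := inv_eq_of_orderOf_eq_two hv
      have hw : orderOf (z * v) = 2 := by
        refine orderOf_eq_two_of_mul_self ?_ fun h => ?_
        · rw [show z * v * (z * v) = z * (v * z * v⁻¹) by rw [hvi]; simp [mul_assoc], hvz, mul_inv_cancel]
        · have : z = v := by rw [mul_eq_one_iff_eq_inv.mp h, hvi]
          rw [this, hv] at hzo
          exact absurd hzo (by decide)
      obtain ⟨x, hx⟩ := se_exists_fix hH hv
      obtain ⟨y, hy⟩ := se_exists_fix hH hw
      have hxy : x ≠ y := by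
        intro h
        subst h
        have hc := hfix x v (z * v) hv hw hx hy
        refine hz1 (eq_one_of_sq_of_odd ?_ hzo)
        have e : z = z * v * v := by rw [mul_assoc, mul_self_of_orderOf_eq_two hv, mul_one]
        rw [e, hc.symm.mul_pow, ← hw, pow_orderOf_eq_one, one_mul, hw, ← hv, pow_orderOf_eq_one]
      refine ⟨⟨⟨(x, y), hxy⟩, ⟨v, hv, hx⟩, ⟨z * v, hw, hy⟩⟩, ?_⟩
      have e : z * v * v = z := by rw [mul_assoc, mul_self_of_orderOf_eq_two hv, mul_one]
      refine Sigma.ext (Subtype.ext e) ?_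
      simp only [F]
      exact (Subtype.heq_iff_coe_eq (fun a => by rw [e])).mpr rfl
  have hcard := Nat.card_congr (Equiv.ofBijective F hF)
  rw [Nat.card_sigma, Nat.card_sigma] at hcard
  simp only [I, Nat.card_prod, se_card_fix, Finset.sum_const, Finset.card_univ, smul_eq_mul] at hcard
  rw [show H.index * H.index - H.index = Fintype.card {p : (G ⧸ H) × (G ⧸ H) // p.1 ≠ p.2} by
    rw [Fintype.card_subtype, show (Finset.univ.filter fun p : (G ⧸ H) × (G ⧸ H) => p.1 ≠ p.2) =
      (Finset.univ : Finset (G ⧸ H)).offDiag by ext; simp, Finset.offDiag_card, Finset.card_univ,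
      ← Nat.card_eq_fintype_card]
    rfl, hcard]
  exact Finset.sum_congr rfl fun y _ => sr_card_inverting hC y.2

/-- The arithmetic behind `#(G/N(T)) = #T + 1`. -/
theorem ec_arith {q m n k b i j g : ℕ} (hm : m + 1 = q) (hm3 : 3 ≤ m) (hn : q + 1 ≤ n)
    (hmk : m ∣ k) (hk : Odd k) (hk1 : 1 ≤ k) (hb : Odd b) (hb3 : 3 ≤ b)
    (hg : g = n * (q * m)) (hgi : g = i * (2 * k)) (hgj : g = j * (2 * b))
    (heq : (n * n - n) * (m * m) = i * (k - 1) * k + j * (b - 1) * b)
    (hle : 1 + n * m + i * (k - 1) + j * (b - 1) ≤ g) : n = q + 1 := by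
  obtain ⟨e, rfl⟩ := hmk
  have hk' : 1 ≤ m * e := hk1
  have hnn : n ≤ n * n := Nat.le_mul_self n
  have hb1 : 1 ≤ b := by omega
  zify [hk', hnn, hb1] at heq hle hg hgi hgj hm hn hm3 hb3
  have he0 : 1 ≤ e := Nat.pos_of_ne_zero fun h => by simp [h] at hk1
  zify at he0
  -- `q (k + b - 2) = 2 (n - 1) m`
  have heq2 : ((n : ℤ) * m) * (2 * ((n : ℤ) - 1) * m - q * ((m : ℤ) * e + b - 2)) = 0 := by
    linear_combination 2 * heq + ((m : ℤ) * e - 1) * hgi.symm.trans hg
      + ((b : ℤ) - 1) * hgj.symm.trans hg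
  have hnm : (n : ℤ) * m ≠ 0 := mul_ne_zero (by omega) (by omega)
  have hq : 2 * ((n : ℤ) - 1) * m = q * ((m : ℤ) * e + b - 2) := by
    have := (mul_eq_zero.mp heq2).resolve_left hnm
    linarith
  have hg0 : (0 : ℤ) < g := by
    rw [hg]; have : (0 : ℤ) < n := by omega
    have : (0 : ℤ) < q := by omega
    positivity
  have hineq : 2 * ((m : ℤ) * e) * b < q * ((m : ℤ) * e + b) := by
    have h1 : 2 * ((m : ℤ) * e) * b * (1 + n * m) ≤ g * ((m : ℤ) * e + b) := by
      have h2 : 2 * ((m : ℤ) * e) * b * (1 + n * m + i * ((m : ℤ) * e - 1) + j * ((b : ℤ) - 1)) ≤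
          2 * ((m : ℤ) * e) * b * g := mul_le_mul_of_nonneg_left hle (by positivity)
      linear_combination h2 + ((b : ℤ) * ((m : ℤ) * e - 1)) * hgi + (((m : ℤ) * e) * ((b : ℤ) - 1)) * hgj
    have h3 : 0 < 2 * ((m : ℤ) * e) * b := by positivity
    by_contra hcon
    push Not at hcon
    have h4 : (g : ℤ) * ((m : ℤ) * e + b) ≤ n * m * (2 * ((m : ℤ) * e) * b) := by
      have := mul_le_mul_of_nonneg_left hcon (show (0 : ℤ) ≤ n * m by positivity)
      rw [hg]; linarith
    nlinarith
  -- `b ≡ 2 (mod m)`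
  obtain ⟨s, hs⟩ : (m : ℤ) ∣ (m : ℤ) * e + b - 2 := by
    refine ⟨2 * ((n : ℤ) - 1) - ((m : ℤ) * e + b - 2), ?_⟩
    rw [← hm] at hq
    linarith
  have hqs : 2 * ((n : ℤ) - 1) = q * s := by
    have : (m : ℤ) * (2 * ((n : ℤ) - 1) - q * s) = 0 := by rw [hs] at hq; linarith
    have := (mul_eq_zero.mp this).resolve_left (by omega)
    linarith
  have hbs : (b : ℤ) = m * (s - e) + 2 := by linarith
  have hse : 1 ≤ s - e := by
    by_contra h
    push Not at h
    rcases eq_or_lt_of_le (show s - e ≤ 0 by omega) with h0 | h0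
    · rw [h0, mul_zero] at hbs; omega
    · have : (m : ℤ) * (s - e) ≤ -m := by nlinarith
      omega
  have hbm : (m : ℤ) + 2 ≤ b := by nlinarith
  -- the centralizer of `D` is `D`
  have he : e = 1 := by
    by_contra hne
    have he2 : (2 : ℤ) ≤ e := by omega
    have : (q : ℤ) < m * e := by nlinarith
    nlinarith
  subst he
  have hs2 : 2 ≤ s := by
    by_contra h
    have : (q : ℤ) * s ≤ q := by nlinarith
    omega
  have hs3 : s = 2 := by
    by_contra h
    have h3 : 3 ≤ s := by omega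
    push_cast at hbs
    have : (2 : ℤ) * m + 2 ≤ b := by
      nlinarith [mul_le_mul_of_nonneg_left (show (2 : ℤ) ≤ s - 1 by omega) (show (0 : ℤ) ≤ (m : ℤ) by positivity)]
    push_cast at hineq
    rw [← hm] at hineq
    nlinarith [mul_le_mul_of_nonneg_right this (show (0 : ℤ) ≤ (m : ℤ) - 1 by omega)]
  rw [hs3] at hqs
  omega

theorem ec_index (hC : ElemCentralizers G) (hnc : ¬ IsCyclic (T : Subgroup G))
    (hnn : ¬ (T : Subgroup G).Normal) :
    (Subgroup.normalizer ((T : Subgroup G) : Set G)).index = Nat.card T + 1 := by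
  classical
  have := Fintype.ofFinite G
  set H := Subgroup.normalizer ((T : Subgroup G) : Set G) with hHdef
  have hH : Cfsg.IsStronglyEmbedded H := ec_stronglyEmbedded hC hnc hnn
  obtain ⟨hel, hcomm⟩ := ec_elementary hC hnc
  -- the number of involutions of H
  set q := Nat.card T with hq
  have hq4 : 4 ≤ q := by
    obtain ⟨l, hl⟩ := T.2.exists_card_eq
    rcases Nat.lt_or_ge l 2 with h | h
    · exfalso
      apply hnc
      interval_cases l
      · have := (Nat.card_eq_one_iff_unique.mp (hl.trans (pow_zero 2))).1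
        exact isCyclic_of_subsingleton
      · exact isCyclic_of_prime_card (p := 2) (hl.trans (pow_one 2))
    · rw [hq, hl]; exact le_trans (by norm_num) (Nat.pow_le_pow_right two_pos h)
  have hm : Nat.card {t : G // orderOf t = 2 ∧ t ∈ H} = q - 1 := by
    have e : {t : G // orderOf t = 2 ∧ t ∈ H} ≃ {x : (T : Subgroup G) // x ≠ 1} :=
      { toFun := fun t => ⟨⟨t.1, ec_mem_of_normalizer t.2.1 t.2.2⟩, fun h =>
          ne_one_of_orderOf_eq_two t.2.1 (congrArg Subtype.val h)⟩
        invFun := fun x => ⟨x.1.1, orderOf_eq_prime (hel _ x.1.2) (fun h => x.2 (Subtype.ext h)),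
          Subgroup.le_normalizer x.1.2⟩
        left_inv := fun t => rfl
        right_inv := fun x => rfl }
    have := Fintype.ofFinite (T : Subgroup G)
    rw [Nat.card_congr e, Nat.card_eq_fintype_card, Fintype.card_subtype_compl,
      Fintype.card_subtype_eq, hq, Nat.card_eq_fintype_card]
  obtain ⟨t₀, ht₀, ht₀H⟩ := se_exists_involution hH
  obtain ⟨a₀, ha₀⟩ : ∃ a : G, a ∉ H := by
    by_contra h
    push Not at h
    exact hH.1 (eq_top_iff.mpr fun x _ => h x)
  have hu : orderOf (a₀ * t₀ * a₀⁻¹) = 2 := by rw [orderOf_conj, ht₀]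
  have huH : a₀ * t₀ * a₀⁻¹ ∉ H := fun h => ha₀ (se_mem_of_conj hH ht₀ ht₀H h)
  set u := a₀ * t₀ * a₀⁻¹ with hudef
  obtain ⟨hDinv, hHcard, -, hDcard⟩ := ec_structure hC hnc hnn hu huH
  simp only [← hHdef] at hDinv hHcard hDcard
  rw [← hq] at hHcard hDcard
  set D := H ⊓ H.map (MulAut.conj u).toMonoidHom with hDdef
  obtain ⟨d, hd⟩ : ∃ d : D, d ≠ 1 :=
    have : Nontrivial D := Finite.one_lt_card_iff_nontrivial.mp (by omega)
    exists_ne 1
  have hdodd : Odd (orderOf (d : G)) := odd_of_mem (hH.2.2 u huH) d.2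
  have hA : IsStronglyReal (d : G) :=
    ⟨fun h => hd (Subtype.ext h), hdodd, u, hu, hDinv _ d.2⟩
  set A := Subgroup.centralizer ({(d : G)} : Set G) with hAdef
  have hDA : D ≤ A := fun e he => by
    rw [hAdef, Subgroup.mem_centralizer_singleton_iff]
    exact inverted_commute hDinv he d.2
  have hmk : q - 1 ∣ Nat.card A := hDcard ▸ Subgroup.card_dvd_of_le hDA
  -- `T` acts freely away from its own point
  have hn : q + 1 ≤ H.index := by
    let x₀ : G ⧸ H := QuotientGroup.mk u
    have hx₀ : x₀ ≠ QuotientGroup.mk 1 := fun h => huH (by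
      simpa using H.inv_mem (QuotientGroup.eq.mp h))
    let f : Option (T : Subgroup G) → G ⧸ H := fun o => o.elim (QuotientGroup.mk 1) fun t => (t : G) • x₀
    have hfixT : ∀ t ∈ (T : Subgroup G), t • (QuotientGroup.mk 1 : G ⧸ H) = QuotientGroup.mk 1 :=
      fun t ht => se_smul_mk_eq_iff.mpr (by simpa using (show t ∈ H from Subgroup.le_normalizer ht))
    have hf : Function.Injective f := by
      rintro (_ | a) (_ | b) h
      · rfl
      · exact absurd (show x₀ = QuotientGroup.mk 1 by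
          have := congrArg ((b : G)⁻¹ • ·) h.symm
          simpa [f, hfixT _ (inv_mem b.2)] using this) hx₀
      · exact absurd (show x₀ = QuotientGroup.mk 1 by
          have := congrArg ((a : G)⁻¹ • ·) h
          simpa [f, hfixT _ (inv_mem a.2)] using this) hx₀
      · by_contra hne
        have hne' : (b : G)⁻¹ * a ≠ 1 := fun h1 => hne (by
          rw [Subtype.ext (inv_mul_eq_one.mp h1).symm])
        have hmem : (b : G)⁻¹ * a ∈ (T : Subgroup G) := mul_mem (inv_mem b.2) a.2
        refine hx₀ (se_fix_unique hH (orderOf_eq_prime (hel _ hmem) hne') ?_ (hfixT _ hmem))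
        rw [mul_smul]
        simp only [f, Option.elim] at h
        rw [h, inv_smul_smul]
    have := Nat.card_le_card_of_injective f hf
    rw [Finite.card_option, ← hq] at this
    exact this
  have hfix : ∀ (x : G ⧸ H) (v w : G), orderOf v = 2 → orderOf w = 2 →
      v • x = x → w • x = x → Commute v w := by
    intro x
    induction x using QuotientGroup.induction_on with
    | _ a =>
    intro v w hv hw hvx hwx
    rw [se_smul_mk_eq_iff] at hvx hwx
    have ho : ∀ c : G, orderOf c = 2 → orderOf (a⁻¹ * c * a) = 2 := fun c hc => by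
      have := orderOf_conj a⁻¹ c; rw [inv_inv] at this; rw [this, hc]
    have := hcomm _ (ec_mem_of_normalizer (ho v hv) hvx) _ (ec_mem_of_normalizer (ho w hw) hwx)
    have h2 := congrArg (fun z => a * z * a⁻¹) this
    exact (show _ = _ by simpa [mul_assoc] using h2)
  have hsum := card_pairs_eq_sum hC hH hfix
  rw [hm] at hsum
  -- the strongly real elements and the involutions
  set X : Finset G := Finset.univ.filter IsStronglyReal with hX
  set Inv : Finset G := Finset.univ.filter (fun v => orderOf v = 2) with hInv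
  have hInvcard : Inv.card = H.index * (q - 1) := by
    have := Fintype.ofFinite (G ⧸ H)
    choose p hp using fun (v : {t : G // orderOf t = 2}) => se_exists_fix hH v.2
    let e : {t : G // orderOf t = 2} ≃ Σ y : G ⧸ H, {i : G // orderOf i = 2 ∧ i • y = y} :=
      { toFun := fun v => ⟨p v, v.1, v.2, hp v⟩
        invFun := fun s => ⟨s.2.1, s.2.2.1⟩
        left_inv := fun v => rfl
        right_inv := fun ⟨y, i, hi, hiy⟩ => by
          obtain rfl : p ⟨i, hi⟩ = y := se_fix_unique hH hi (hp ⟨i, hi⟩) hiy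
          rfl }
    have h := Nat.card_congr e
    rw [Nat.card_sigma] at h
    simp only [se_card_fix, hm, Finset.sum_const, Finset.card_univ, smul_eq_mul] at h
    rw [Subgroup.index, Nat.card_eq_fintype_card (α := G ⧸ H), ← h, Nat.card_eq_fintype_card,
      Fintype.card_subtype]
  have hle : 1 + H.index * (q - 1) + X.card ≤ Nat.card G := by
    have h1 : Disjoint Inv X := by
      rw [Finset.disjoint_left]
      intro v hv hx
      have ho := (Finset.mem_filter.mp hx).2.2.1
      rw [(Finset.mem_filter.mp hv).2] at ho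
      exact absurd ho (by decide)
    have h2 : Disjoint ({1} : Finset G) (Inv ∪ X) := by
      rw [Finset.disjoint_singleton_left, Finset.mem_union, not_or]
      exact ⟨fun h => ne_one_of_orderOf_eq_two (Finset.mem_filter.mp h).2 rfl,
        fun h => (Finset.mem_filter.mp h).2.1 rfl⟩
    have h3 := Finset.card_union_of_disjoint h2
    rw [Finset.card_union_of_disjoint h1, hInvcard, Finset.card_singleton] at h3
    rw [Nat.card_eq_fintype_card, add_assoc, ← h3]
    exact Finset.card_le_univ _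
  have hsub : ∀ {x : G}, IsStronglyReal x → conjSet x ⊆ X := fun hx y hy =>
    Finset.mem_filter.mpr ⟨Finset.mem_univ _, (conjSet_sr hC hx hy).1⟩
  have hsumX : ∑ y : {y : G // IsStronglyReal y}, Nat.card (Subgroup.centralizer ({(y : G)} : Set G))
      = ∑ y ∈ X, Nat.card (Subgroup.centralizer ({y} : Set G)) := by
    rw [Finset.sum_subtype (p := IsStronglyReal) X (fun y => by simp [hX]) fun y => Nat.card (Subgroup.centralizer ({y} : Set G))]
  rw [hsumX] at hsum
  have hsumC : ∀ {x : G}, IsStronglyReal x → ∑ y ∈ conjSet x, Nat.card (Subgroup.centralizer ({y} : Set G))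
      = (conjSet x).card * Nat.card (Subgroup.centralizer ({x} : Set G)) := fun hx => by
    rw [Finset.sum_congr rfl fun y hy => (conjSet_sr hC hx hy).2, Finset.sum_const, smul_eq_mul]
  obtain ⟨i, hgi, hiA⟩ := conjSet_card hC hA
  rw [← hAdef] at hgi hiA
  have hAodd : Odd (Nat.card A) := (sr_centralizer hC hA.1 hA.2.1 hu (hDinv _ d.2)).1
  have hgcard : Nat.card G = H.index * (q * (q - 1)) := by rw [← hHcard, H.index_mul_card]
  have hqodd : Odd (q - 1) := hDcard ▸ hH.2.2 u huH
  -- there is exactly one further class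
  obtain ⟨x₁, hx₁, hx₁A⟩ : ∃ x₁, x₁ ∈ X ∧ x₁ ∉ conjSet (d : G) := by
    by_contra h
    push Not at h
    have heq : X = conjSet (d : G) := Finset.Subset.antisymm h (hsub hA)
    rw [heq, hsumC hA, hiA, ← hAdef] at hsum
    obtain ⟨e, he⟩ := hmk
    have hkpos : 1 ≤ Nat.card A := Nat.card_pos
    have hnn : H.index ≤ H.index * H.index := Nat.le_mul_self _
    have hq1 : 1 ≤ q := by omega
    zify [hkpos, hnn, hq1] at hsum hgi hgcard he hn hq4
    have h2 : ((H.index : ℤ) * ((q : ℤ) - 1)) *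
        (2 * ((H.index : ℤ) - 1) * ((q : ℤ) - 1) - q * ((Nat.card A : ℤ) - 1)) = 0 := by
      linear_combination 2 * hsum + ((Nat.card A : ℤ) - 1) * hgi.symm.trans hgcard
    have h3 := (mul_eq_zero.mp h2).resolve_left (mul_ne_zero (by omega) (by omega))
    rw [he] at h3
    have h4 : ((q : ℤ) - 1) ∣ q := ⟨q * e - 2 * ((H.index : ℤ) - 1), by linarith⟩
    have h5 : ((q : ℤ) - 1) ∣ 1 := by simpa using dvd_sub h4 dvd_rfl
    have := Int.le_of_dvd one_pos h5
    omega
  have hB : IsStronglyReal x₁ := (Finset.mem_filter.mp hx₁).2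
  obtain ⟨j, hgj, hjB⟩ := conjSet_card hC hB
  set b := Nat.card (Subgroup.centralizer ({x₁} : Set G)) with hbdef
  have hdisj := conjSet_disjoint hC hA hB hx₁A
  have hpos : 0 < Nat.card G := Nat.card_pos
  have hge3 : ∀ {x : G}, IsStronglyReal x →
      3 ≤ Nat.card (Subgroup.centralizer ({x} : Set G)) ∧ Odd (Nat.card (Subgroup.centralizer ({x} : Set G))) := by
    intro x hx
    obtain ⟨h1, h2, v, hv, hvx⟩ := hx
    have hodd := (sr_centralizer hC h1 h2 hv hvx).1
    have : 1 < Nat.card (Subgroup.centralizer ({x} : Set G)) := by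
      rw [Subgroup.one_lt_card_iff_ne_bot]
      intro h
      have hm : x ∈ Subgroup.centralizer ({x} : Set G) := Subgroup.mem_centralizer_singleton_iff.mpr rfl
      rw [h] at hm
      exact h1 (Subgroup.mem_bot.mp hm)
    obtain ⟨l, hl⟩ := hodd
    exact ⟨by omega, ⟨l, hl⟩⟩
  have hXeq : X = conjSet (d : G) ∪ conjSet x₁ := by
    refine Finset.Subset.antisymm (fun y hy => ?_) (Finset.union_subset (hsub hA) (hsub hB))
    by_contra hny
    rw [Finset.mem_union, not_or] at hny
    have hY : IsStronglyReal y := (Finset.mem_filter.mp hy).2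
    obtain ⟨l, hgl, hlY⟩ := conjSet_card hC hY
    have hdis2 : Disjoint (conjSet (d : G) ∪ conjSet x₁) (conjSet y) :=
      Finset.disjoint_union_left.mpr ⟨conjSet_disjoint hC hA hY hny.1, conjSet_disjoint hC hB hY hny.2⟩
    have hc := Finset.card_le_card
      (Finset.union_subset (Finset.union_subset (hsub hA) (hsub hB)) (hsub hY))
    rw [Finset.card_union_of_disjoint hdis2, Finset.card_union_of_disjoint hdisj, hiA, hjB, hlY] at hc
    have key : ∀ {a k : ℕ}, 3 ≤ k → a * (2 * k) ≤ 3 * (a * (k - 1)) := fun {a k} hk => by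
      rw [mul_left_comm 3]; exact Nat.mul_le_mul_left a (by omega)
    have k1 := key (a := i) (hge3 hA).1
    have k2 := key (a := j) (show 3 ≤ b from (hge3 hB).1)
    have k3 := key (a := l) (hge3 hY).1
    rw [← hgj] at k2; rw [← hgl] at k3; rw [← hAdef, ← hgi] at k1
    omega
  rw [hXeq, Finset.card_union_of_disjoint hdisj, hiA, hjB] at hle
  rw [hXeq, Finset.sum_union hdisj, hsumC hA, hsumC hB, hiA, hjB, ← hAdef, ← hbdef] at hsum
  exact ec_arith (q := q) (m := q - 1) (k := Nat.card A) (b := b) (i := i) (j := j)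
    (by omega) (by omega) hn hmk hAodd Nat.card_pos (hge3 hB).2 (hge3 hB).1 hgcard hgi hgj hsum
    (by omega)

end Cfsg.Agent.H39
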