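import Cfsg.Agent.H39.ElemSharp
import Cfsg.Agent.Linear.Order

/-!
A group with elementary abelian involution centralizers and noncyclic, non-normal Sylow 2-subgroup
is `PSL(2, q)`.
-/

namespace Cfsg.Agent.H39

open scoped LinearAlgebra.Projectivization
open Matrix

universe v

variable {G : Type v} [Group G] [Finite G] {T : Sylow 2 G}

/-- Coordinates: a field `F` on the elements of `T`, with multiplication realized by `D`. -/
theorem ec_coordinates (hC : ElemCentralizers G) (hnc : ¬ IsCyclic (T : Subgroup G))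
    (hnn : ¬ (T : Subgroup G).Normal) {u : G} (hu : orderOf u = 2)
    (huH : u ∉ Subgroup.normalizer ((T : Subgroup G) : Set G)) :
    ∃ (F : Type) (_ : Field F) (τ : F → G) (δ : F → G),
      (∀ g : G, g ∈ T ↔ ∃ a, τ a = g) ∧ Function.Injective τ ∧
      (∀ a b, τ (a + b) = τ a * τ b) ∧ (∀ a b, a ≠ 0 → τ (a * b) = δ a * τ b * (δ a)⁻¹) ∧
      (∀ a, a ≠ 0 → δ a ∈ Subgroup.normalizer ((T : Subgroup G) : Set G) ⊓
        (Subgroup.normalizer ((T : Subgroup G) : Set G)).map (MulAut.conj u).toMonoidHom) ∧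
      (∀ d ∈ Subgroup.normalizer ((T : Subgroup G) : Set G) ⊓
        (Subgroup.normalizer ((T : Subgroup G) : Set G)).map (MulAut.conj u).toMonoidHom,
        ∃ a, a ≠ 0 ∧ δ a = d) ∧
      (∀ a, a ≠ 0 → δ a⁻¹ = (δ a)⁻¹) := by
  classical
  set H := Subgroup.normalizer ((T : Subgroup G) : Set G) with hHdef
  set D := H ⊓ H.map (MulAut.conj u).toMonoidHom with hDdef
  obtain ⟨hel, hcomm⟩ := ec_elementary hC hnc
  obtain ⟨hinv, -, -, hDcard⟩ := ec_structure hC hnc hnn hu huH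
  have hH := ec_stronglyEmbedded hC hnc hnn
  obtain ⟨t₀, ht₀, ht₀H⟩ := se_exists_involution hH
  have ht₀T : t₀ ∈ T := ec_mem_of_normalizer ht₀ ht₀H
  -- `δ x` is the element of `D` carrying `t₀` to `x`
  have hex : ∀ x : (T : Subgroup G), ∃ d : G, d ∈ D ∧ (x ≠ 1 → d * t₀ * d⁻¹ = x) := by
    intro x
    by_cases hx : x = 1
    · exact ⟨1, one_mem _, fun h => absurd hx h⟩
    · obtain ⟨d, hd, hdx⟩ := se_transitive hH huH ht₀ ht₀H
        (orderOf_eq_prime (hel _ x.2) (fun h => hx (Subtype.ext h))) (Subgroup.le_normalizer x.2)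
      exact ⟨d, hd, fun _ => hdx⟩
  choose δ₀ hδD hδc using hex
  have huniq : ∀ d ∈ D, ∀ e ∈ D, d * t₀ * d⁻¹ = e * t₀ * e⁻¹ → d = e := by
    intro d hd e he h
    have hm : e⁻¹ * d ∈ Subgroup.centralizer ({t₀} : Set G) := by
      rw [Subgroup.mem_centralizer_singleton_iff]
      have := congrArg (fun z => e⁻¹ * z * d) h
      simpa [mul_assoc] using this
    rw [ec_centralizer_eq hC hnc ht₀ ht₀T] at hm
    have hm2 : e⁻¹ * d ∈ D := mul_mem (inv_mem he) hd
    exact (inv_mul_eq_one.mp (eq_one_of_sq_of_odd (hel _ hm)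
      (odd_of_mem (hH.2.2 u huH) hm2))).symm
  have hDcomm : ∀ d ∈ D, ∀ e ∈ D, d * e = e * d := fun d hd e he => inverted_commute hinv hd he
  have hDT : ∀ d ∈ D, ∀ y ∈ T, d * y * d⁻¹ ∈ T := fun d hd y hy =>
    (Subgroup.mem_normalizer_iff.mp hd.1 y).mp hy
  let mul' : Additive (T : Subgroup G) → Additive (T : Subgroup G) → Additive (T : Subgroup G) :=
    fun a b => if a = 0 then 0 else Additive.ofMul ⟨δ₀ a.toMul * (b.toMul : G) * (δ₀ a.toMul)⁻¹,
      hDT _ (hδD _) _ b.toMul.2⟩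
  let inv' : Additive (T : Subgroup G) → Additive (T : Subgroup G) :=
    fun a => if a = 0 then 0 else Additive.ofMul ⟨(δ₀ a.toMul)⁻¹ * t₀ * ((δ₀ a.toMul)⁻¹)⁻¹,
      hDT _ (inv_mem (hδD _)) _ ht₀T⟩
  letI iMul : Mul (Additive (T : Subgroup G)) := ⟨mul'⟩
  letI iInv : Inv (Additive (T : Subgroup G)) := ⟨inv'⟩
  letI iOne : One (Additive (T : Subgroup G)) := ⟨Additive.ofMul ⟨t₀, ht₀T⟩⟩
  set val : Additive (T : Subgroup G) → G := fun a => ((a.toMul : (T : Subgroup G)) : G) with hval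
  have hext : ∀ a b, val a = val b → a = b := fun a b h => Additive.toMul.injective (Subtype.ext h)
  have hne : ∀ a : Additive (T : Subgroup G), a ≠ 0 → a.toMul ≠ 1 := fun a ha h =>
    ha (Additive.toMul.injective h)
  have hval0 : ∀ a, val a = 1 → a = 0 := fun a h => hext a 0 h
  have hmulv : ∀ a b, a ≠ 0 → val (a * b) = δ₀ a.toMul * val b * (δ₀ a.toMul)⁻¹ := fun a b ha => by
    show val (mul' a b) = _
    simp [mul', ha, hval]
  have hone : val (1 : Additive (T : Subgroup G)) = t₀ := rfl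
  have hδ : ∀ a, a ≠ 0 → δ₀ a.toMul * t₀ * (δ₀ a.toMul)⁻¹ = val a := fun a ha => hδc _ (hne a ha)
  have hmul0 : ∀ a b : Additive (T : Subgroup G), a * b = 0 ↔ a = 0 ∨ b = 0 := by
    intro a b
    by_cases ha : a = 0
    · simp only [ha, true_or, iff_true]; show mul' 0 b = 0; simp [mul']
    constructor
    · intro h
      refine Or.inr (hval0 b ?_)
      have h' : val (a * b) = 1 := by rw [h]; rfl
      rw [hmulv a b ha] at h'
      exact conj_eq_one_iff.mp h'
    · rintro (h | h)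
      · exact absurd h ha
      · refine hval0 _ ?_
        rw [hmulv a b ha, h]
        show δ₀ _ * ((Additive.toMul (0 : Additive (T : Subgroup G)) : (T : Subgroup G)) : G) * _ = 1
        simp
  have hδmul : ∀ a b : Additive (T : Subgroup G), a ≠ 0 → b ≠ 0 → δ₀ (a * b).toMul = δ₀ a.toMul * δ₀ b.toMul := by
    intro a b ha hb
    refine huniq _ (hδD _) _ (mul_mem (hδD _) (hδD _)) ?_
    rw [hδ _ (fun h => ((hmul0 a b).mp h).elim ha hb), hmulv a b ha, ← hδ b hb]
    simp [mul_assoc]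
  have hmcomm : ∀ a b : Additive (T : Subgroup G), a * b = b * a := by
    intro a b
    by_cases ha : a = 0
    · rw [(hmul0 a b).mpr (Or.inl ha), (hmul0 b a).mpr (Or.inr ha)]
    by_cases hb : b = 0
    · rw [(hmul0 a b).mpr (Or.inr hb), (hmul0 b a).mpr (Or.inl hb)]
    refine hext _ _ ?_
    rw [hmulv a b ha, hmulv b a hb, ← hδ a ha, ← hδ b hb]
    calc δ₀ a.toMul * (δ₀ b.toMul * t₀ * (δ₀ b.toMul)⁻¹) * (δ₀ a.toMul)⁻¹
        = (δ₀ a.toMul * δ₀ b.toMul) * t₀ * (δ₀ a.toMul * δ₀ b.toMul)⁻¹ := by simp [mul_assoc]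
      _ = _ := by rw [hDcomm _ (hδD _) _ (hδD _)]; simp [mul_assoc]
  have hδ1 : δ₀ (1 : Additive (T : Subgroup G)).toMul = 1 := by
    refine huniq _ (hδD _) 1 (one_mem _) ?_
    have h10 : (1 : Additive (T : Subgroup G)) ≠ 0 := fun h =>
      ne_one_of_orderOf_eq_two ht₀ (hone.symm.trans (congrArg val h))
    rw [hδ _ h10, hone]
    simp
  have hinvv : ∀ a : Additive (T : Subgroup G), a ≠ 0 → a⁻¹ ≠ 0 ∧ δ₀ (a⁻¹).toMul = (δ₀ a.toMul)⁻¹ := by
    intro a ha
    have hv : val a⁻¹ = (δ₀ a.toMul)⁻¹ * t₀ * ((δ₀ a.toMul)⁻¹)⁻¹ := by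
      show val (inv' a) = _
      simp [inv', ha, hval]
    have hne' : a⁻¹ ≠ 0 := fun h => by
      have h' : val a⁻¹ = 1 := by rw [h]; rfl
      rw [hv] at h'
      exact ne_one_of_orderOf_eq_two ht₀ (conj_eq_one_iff.mp h')
    exact ⟨hne', huniq _ (hδD _) _ (inv_mem (hδD _)) (by rw [hδ _ hne', hv])⟩
  letI iField : Field (Additive (T : Subgroup G)) := Field.ofMinimalAxioms _
    (fun a b c => add_assoc a b c) (fun a => zero_add a) (fun a => neg_add_cancel a)
    (by
      intro a b c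
      by_cases ha : a = 0
      · rw [(hmul0 a b).mpr (Or.inl ha), (hmul0 (0 : Additive (T : Subgroup G)) c).mpr (Or.inl rfl),
          (hmul0 a (b * c)).mpr (Or.inl ha)]
      by_cases hb : b = 0
      · rw [(hmul0 a b).mpr (Or.inr hb), (hmul0 (0 : Additive (T : Subgroup G)) c).mpr (Or.inl rfl),
          (hmul0 b c).mpr (Or.inl hb), (hmul0 a (0 : Additive (T : Subgroup G))).mpr (Or.inr rfl)]
      refine hext _ _ ?_
      rw [hmulv (a * b) c (fun h => ((hmul0 a b).mp h).elim ha hb), hmulv a (b * c) ha,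
        hmulv b c hb, hδmul a b ha hb]
      simp [mul_assoc])
    hmcomm
    (by
      intro a
      have h10 : (1 : Additive (T : Subgroup G)) ≠ 0 := fun h =>
        ne_one_of_orderOf_eq_two ht₀ (hone.symm.trans (congrArg val h))
      refine hext _ _ ?_
      rw [hmulv 1 a h10, hδ1]
      simp)
    (by
      intro a ha
      refine hext _ _ ?_
      rw [hmulv a a⁻¹ ha, ← hδ _ (hinvv a ha).1, (hinvv a ha).2, hone]
      simp [mul_assoc])
    (by show inv' 0 = 0; simp [inv'])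
    (by
      intro a b c
      by_cases ha : a = 0
      · rw [(hmul0 a (b + c)).mpr (Or.inl ha), (hmul0 a b).mpr (Or.inl ha),
          (hmul0 a c).mpr (Or.inl ha), add_zero]
      refine hext _ _ ?_
      have hadd : ∀ x y, val (x + y) = val x * val y := fun x y => rfl
      rw [hadd, hmulv a _ ha, hmulv a b ha, hmulv a c ha, hadd]
      simp [mul_assoc])
    ⟨1, 0, fun h => ne_one_of_orderOf_eq_two ht₀ (hone.symm.trans (congrArg val h))⟩
  let e : {_i : Fin (Nat.card (Additive (T : Subgroup G))) // True} ≃ Additive (T : Subgroup G) :=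
    (Equiv.subtypeUnivEquiv fun _ => trivial).trans (Finite.equivFin _).symm
  letI iF : Field {_i : Fin (Nat.card (Additive (T : Subgroup G))) // True} := e.field
  have e0 : ∀ a, e a = 0 ↔ a = 0 := fun a => by
    rw [show (0 : {_i : Fin (Nat.card (Additive (T : Subgroup G))) // True}) = e.symm 0 from rfl,
      Equiv.eq_symm_apply]
  have eadd : ∀ a b, e (a + b) = e a + e b := fun a b => e.apply_symm_apply _
  have emul : ∀ a b, e (a * b) = e a * e b := fun a b => e.apply_symm_apply _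
  have einv : ∀ a, e a⁻¹ = (e a)⁻¹ := fun a => e.apply_symm_apply _
  refine ⟨_, iF, fun a => val (e a), fun a => δ₀ (e a).toMul, fun g => ⟨fun hg => ?_, ?_⟩,
    fun a b h => e.injective (hext _ _ h), fun a b => ?_, fun a b ha => ?_, fun a _ => hδD _,
    fun d hd => ?_, fun a ha => ?_⟩
  · exact ⟨e.symm (Additive.ofMul ⟨g, hg⟩), by simp [hval]⟩
  · rintro ⟨a, rfl⟩
    exact (e a).toMul.2
  · show val _ = _
    rw [eadd]; rfl
  · show val _ = _
    rw [emul, hmulv _ _ (fun h => ha ((e0 a).mp h))]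
  · have hx : d * t₀ * d⁻¹ ∈ T := hDT d hd _ ht₀T
    have hne1 : d * t₀ * d⁻¹ ≠ 1 := fun h => ne_one_of_orderOf_eq_two ht₀ (conj_eq_one_iff.mp h)
    refine ⟨e.symm (Additive.ofMul ⟨_, hx⟩), fun h => hne1 ?_, ?_⟩
    · have := congrArg val ((e0 _).mpr h)
      simpa [hval] using this
    · refine huniq _ (hδD _) _ hd ?_
      have hne2 : (⟨_, hx⟩ : (T : Subgroup G)) ≠ 1 := fun h => hne1 (congrArg Subtype.val h)
      simpa using hδc _ hne2
  · show δ₀ _ = _
    rw [einv, (hinvv _ (fun h => ha ((e0 a).mp h))).2]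

theorem ec_isPSL (hC : ElemCentralizers G) (hnc : ¬ IsCyclic (T : Subgroup G))
    (hnn : ¬ (T : Subgroup G).Normal) :
    ∃ (F : Type) (_ : Field F) (_ : Fintype F), Fintype.card F = Nat.card T ∧
      Nonempty (G ≃* Matrix.ProjectiveSpecialLinearGroup (Fin 2) F) := by
  classical
  obtain ⟨u₀, hu₀, hu₀H⟩ := ec_exists_outside hC hnc hnn
  obtain ⟨F, iF, τ, δ, hτmem, hτinj, hτadd, hτmul, hδmem, hδsurj, hδinv⟩ :=
    ec_coordinates hC hnc hnn hu₀ hu₀H
  obtain ⟨hinv, hHcard, -, -⟩ := ec_structure hC hnc hnn hu₀ hu₀H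
  set α := basePt T with hα
  set β := u₀ • α with hβ
  have huu₀ : u₀ * u₀ = 1 := mul_self_of_orderOf_eq_two hu₀
  have hu₀β : u₀ • β = α := by rw [hβ, ← mul_smul, huu₀, one_smul]
  have hTα : ∀ a, τ a • α = α := fun a =>
    basePt_fix.mpr (Subgroup.le_normalizer ((hτmem _).mpr ⟨a, rfl⟩))
  have hβα : β ≠ α := basePt_ne hu₀H
  have hτ0 : τ 0 = 1 := by
    have := hτadd 0 0
    rw [add_zero] at this
    exact left_eq_mul.mp this
  have eT : F ≃ (T : Subgroup G) := Equiv.ofBijective (fun a => ⟨τ a, (hτmem _).mpr ⟨a, rfl⟩⟩)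
    ⟨fun a b h => hτinj (congrArg Subtype.val h), fun t => by
      obtain ⟨a, ha⟩ := (hτmem _).mp t.2; exact ⟨a, Subtype.ext ha⟩⟩
  have : Finite F := Finite.of_equiv _ eT.symm
  letI := Fintype.ofFinite F
  have hcard : Fintype.card F = Nat.card T := by
    rw [← Nat.card_eq_fintype_card, Nat.card_congr eT]
  have htwo : ∀ a : F, a + a = 0 := fun a => hτinj (by
    rw [hτadd, hτ0, ← sq]
    exact (ec_elementary hC hnc).1 _ ((hτmem _).mpr ⟨a, rfl⟩))
  -- the coordinate of a coset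
  let Φ₀ : Option F → G ⧸ Subgroup.normalizer ((T : Subgroup G) : Set G) :=
    fun o => o.elim α fun a => τ a • β
  have hΦ₀ : Function.Bijective Φ₀ := by
    constructor
    · rintro (_ | a) (_ | b) h
      · rfl
      · exact absurd (MulAction.injective (τ b) ((hTα b).trans h)).symm hβα
      · exact absurd (MulAction.injective (τ a) ((hTα a).trans h.symm)).symm hβα
      · have hne : τ a • β ≠ α := fun e => hβα (MulAction.injective (τ a) (e.trans (hTα a).symm))
        exact congrArg some (hτinj ((ec_regular hC hnc hnn hβα hne).unique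
          ⟨(hτmem _).mpr ⟨a, rfl⟩, rfl⟩ ⟨(hτmem _).mpr ⟨b, rfl⟩, h.symm⟩))
    · intro x
      by_cases hx : x = α
      · exact ⟨none, hx.symm⟩
      · obtain ⟨t, ⟨ht, htx⟩, -⟩ := ec_regular hC hnc hnn hβα hx
        obtain ⟨a, rfl⟩ := (hτmem _).mp ht
        exact ⟨some a, htx⟩
  let Φ : ℙ F (Fin 2 → F) ≃ G ⧸ Subgroup.normalizer ((T : Subgroup G) : Set G) :=
    (OnePoint.equivProjectivization F).symm.trans (Equiv.ofBijective Φ₀ hΦ₀)
  have hΦinf : ∀ (v : Fin 2 → F) (h : v ≠ 0), v 1 = 0 → Φ (.mk F v h) = α := fun v h h1 => by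
    simp [Φ, h1, Φ₀]; rfl
  have hΦsome : ∀ (v : Fin 2 → F) (h : v ≠ 0), v 1 ≠ 0 → Φ (.mk F v h) = τ ((v 1)⁻¹ * v 0) • β :=
    fun v h h1 => by simp [Φ, h1, Φ₀]; rfl
  have hform : ∀ p : ℙ F (Fin 2 → F), (∃ h, p = .mk F ![1, 0] h) ∨ ∃ (b : F) (h : _), p = .mk F ![b, 1] h := by
    intro p
    obtain ⟨x, rfl⟩ := (OnePoint.equivProjectivization F).surjective p
    cases x with
    | infty => exact Or.inl ⟨_, rfl⟩
    | coe b => exact Or.inr ⟨b, _, rfl⟩
  let φ : G →* Equiv.Perm (ℙ F (Fin 2 → F)) :=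
    (Φ.symm.permCongrHom.toMonoidHom).comp
      (MulAction.toPermHom G (G ⧸ Subgroup.normalizer ((T : Subgroup G) : Set G)))
  have hφ : ∀ g p, Φ (φ g p) = g • Φ p := fun g p => by
    simp [φ, Equiv.permCongrHom, Equiv.permCongr_apply]
  have hφinj : Function.Injective φ := by
    rw [injective_iff_map_eq_one]
    intro g hg
    have hfix : ∀ x, g • x = x := fun x => by
      have := hφ g (Φ.symm x)
      rw [hg] at this
      simpa using this.symm
    have h2 : 2 ≤ Fintype.card F := Fintype.one_lt_card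
    obtain ⟨a, ha⟩ : ∃ a : F, a ≠ 0 := ⟨1, one_ne_zero⟩
    refine ec_three_fixed hC hnc hnn (x := α) (y := β) (z := τ a • β) hβα.symm ?_ ?_ (hfix _)
      (hfix _) (hfix _)
    · exact fun e => absurd (hΦ₀.1 (a₁ := none) (a₂ := some a) e) (by simp)
    · exact fun e => ha (Option.some_injective _ (hΦ₀.1 (a₁ := some 0) (a₂ := some a) (by
        show τ 0 • β = _; rw [hτ0, one_smul]; exact e)).symm)
  let ψ := Projectivization.PSLAction.toPermHom (K := F) (ι := Fin 2)
  let R : Subgroup G := (MonoidHom.range ψ).comap φ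
  have hR : ∀ (g : G) (M : Matrix.SpecialLinearGroup (Fin 2) F),
      (∀ v : Fin 2 → F, ∀ hv : v ≠ 0, ∀ hv' : (M : Matrix (Fin 2) (Fin 2) F) *ᵥ v ≠ 0,
        (v = ![1, 0] ∨ ∃ b, v = ![b, 1]) →
        Φ (.mk F ((M : Matrix (Fin 2) (Fin 2) F) *ᵥ v) hv') = g • Φ (.mk F v hv)) → g ∈ R := by
    intro g M h
    refine ⟨QuotientGroup.mk M, Equiv.ext fun p => Φ.injective ?_⟩
    rw [hφ]
    rcases hform p with ⟨h0, rfl⟩ | ⟨b, h0, rfl⟩
    · exact (congrArg Φ (Projectivization.smul_mk M h0)).trans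
        (h _ h0 ((smul_ne_zero_iff_ne M).mpr h0) (Or.inl rfl))
    · exact (congrArg Φ (Projectivization.smul_mk M h0)).trans
        (h _ h0 ((smul_ne_zero_iff_ne M).mpr h0) (Or.inr ⟨b, rfl⟩))
  have hchar : CharP F 2 := CharTwo.of_one_ne_zero_of_two_eq_zero one_ne_zero
    (by rw [← one_add_one_eq_two]; exact htwo 1)
  -- translations
  have hRτ : ∀ a, τ a ∈ R := by
    intro a
    refine hR _ ⟨!![1, a; 0, 1], by simp [Matrix.det_fin_two]⟩ fun v hv hv' hcase => ?_
    rcases hcase with rfl | ⟨b, rfl⟩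
    · rw [hΦinf _ hv (by simp), hTα]
      exact hΦinf _ _ (by simp)
    · rw [hΦsome _ hv (by simp), hΦsome _ hv' (by simp)]
      have key : ∀ x y, τ x • τ y • β = τ (x + y) • β := fun x y => by rw [hτadd, mul_smul]
      simp [key, add_comm]
  have hδα : ∀ a, a ≠ 0 → δ a • α = α ∧ δ a • β = β := fun a ha => ec_mem_inter.mp (hδmem a ha)
  have hδτ : ∀ c b, c ≠ 0 → δ c • τ b • β = τ (c * b) • β := fun c b hc => by
    rw [hτmul c b hc, mul_smul, mul_smul, show (δ c)⁻¹ • β = β by rw [inv_smul_eq_iff, (hδα c hc).2]]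
  -- diagonal elements
  have hRδ : ∀ c, c ≠ 0 → δ c ∈ R := by
    intro c hc
    obtain ⟨s, hs⟩ := isSquare_of_charTwo' c
    have hs0 : s ≠ 0 := fun h => hc (by rw [hs, h, mul_zero])
    refine hR _ ⟨!![s, 0; 0, s⁻¹], by simp [Matrix.det_fin_two, mul_inv_cancel₀ hs0]⟩
      fun v hv hv' hcase => ?_
    rcases hcase with rfl | ⟨b, rfl⟩
    · rw [hΦinf _ hv (by simp), (hδα c hc).1]
      exact hΦinf _ _ (by simp)
    · rw [hΦsome _ hv (by simp), hΦsome _ hv' (by simp [hs0]), hδτ c _ hc]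
      congr 2
      simp [hs]
      ring
  -- the involution, adjusted to fix `τ 1 • β`
  obtain ⟨c₁, hc₁, hu1⟩ : ∃ c, c ≠ 0 ∧ u₀ • τ 1 • β = τ c • β := by
    obtain ⟨o, ho⟩ := hΦ₀.2 (u₀ • τ 1 • β)
    rcases o with _ | c
    · exfalso
      have h1 : τ 1 • β = u₀ • α := by
        have e : u₀ • τ 1 • β = α := ho.symm
        calc τ 1 • β = u₀ • u₀ • τ 1 • β := by rw [← mul_smul u₀ u₀, huu₀, one_smul]
          _ = u₀ • α := by rw [e]
      exact one_ne_zero (α := F) (Option.some_injective _ (hΦ₀.1 (a₁ := some 1) (a₂ := some 0) (by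
        show τ 1 • β = τ 0 • β; rw [h1, hτ0, one_smul, hβ])))
    · refine ⟨c, fun h => ?_, ho.symm⟩
      have h1 : τ 1 • β = α := by
        have := congrArg (u₀ • ·) ho.symm
        simp only [Φ₀, Option.elim, h, hτ0, one_smul] at this
        rw [← mul_smul, huu₀, one_smul, hu₀β] at this
        exact this
      exact absurd (hΦ₀.1 (a₁ := some 1) (a₂ := none) h1) (by simp)
  let u := δ c₁⁻¹ * u₀
  have hc₁' : c₁⁻¹ ≠ 0 := inv_ne_zero hc₁
  have huα : u • α = β := by rw [mul_smul]; exact (hδα _ hc₁').2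
  have huβ : u • β = α := by rw [mul_smul, hu₀β]; exact (hδα _ hc₁').1
  have hu1' : u • τ 1 • β = τ 1 • β := by
    rw [mul_smul, hu1, hδτ _ _ hc₁', inv_mul_cancel₀ hc₁]
  have huδ : ∀ b, b ≠ 0 → u • τ b • β = τ b⁻¹ • β := by
    intro b hb
    have h1 : τ b • β = δ b • τ 1 • β := by rw [hδτ b 1 hb, mul_one]
    have h2 : u * δ b = δ b⁻¹ * u := by
      have hi : u₀ * δ b = δ b⁻¹ * u₀ := by
        rw [hδinv b hb]
        exact mul_inv_eq_iff_eq_mul.mp (hinv _ (hδmem b hb))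
      show δ c₁⁻¹ * u₀ * δ b = δ b⁻¹ * (δ c₁⁻¹ * u₀)
      rw [mul_assoc, hi, ← mul_assoc, ← mul_assoc,
        inverted_commute hinv (hδmem _ hc₁') (hδmem _ (inv_ne_zero hb))]
    rw [h1, ← mul_smul, h2, mul_smul, hu1', hδτ _ _ (inv_ne_zero hb), mul_one]
  have hRu : u ∈ R := by
    refine hR _ ⟨!![0, 1; 1, 0], by simp [Matrix.det_fin_two, CharTwo.neg_eq]⟩
      fun v hv hv' hcase => ?_
    rcases hcase with rfl | ⟨b, rfl⟩
    · rw [hΦinf _ hv (by simp), huα, hΦsome _ hv' (by simp)]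
      simp [hτ0]
    · rw [hΦsome _ hv (by simp)]
      by_cases hb : b = 0
      · rw [hΦinf _ hv' (by simp [hb])]
        simp [hb, hτ0, huβ]
      · rw [hΦsome _ hv' (by simp [hb])]
        simp [huδ b hb]
  have hRH : ∀ g ∈ Subgroup.normalizer ((T : Subgroup G) : Set G), g ∈ R := by
    intro g hg
    have hgα : g • α = α := basePt_fix.mpr hg
    obtain ⟨o, ho⟩ := hΦ₀.2 (g • β)
    rcases o with _ | a
    · exact absurd (MulAction.injective g (ho.symm.trans hgα.symm)) hβα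
    have hm : (τ a)⁻¹ * g ∈ Subgroup.normalizer ((T : Subgroup G) : Set G) ⊓
        (Subgroup.normalizer ((T : Subgroup G) : Set G)).map (MulAut.conj u₀).toMonoidHom := by
      refine ec_mem_inter.mpr ⟨?_, ?_⟩
      · rw [mul_smul, hgα, inv_smul_eq_iff, hTα]
      · rw [mul_smul, ← hβ, inv_smul_eq_iff]; exact ho.symm
    obtain ⟨c, hc, hcd⟩ := hδsurj _ hm
    have : g = τ a * δ c := by rw [hcd, mul_inv_cancel_left]
    exact this ▸ mul_mem (hRτ a) (hRδ c hc)
  have hRtop : ∀ g, g ∈ R := by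
    intro g
    by_cases hg : g • α = α
    · exact hRH g (basePt_fix.mp hg)
    obtain ⟨o, ho⟩ := hΦ₀.2 (g • α)
    rcases o with _ | a
    · exact absurd ho.symm hg
    have hm : (τ a * u)⁻¹ * g ∈ Subgroup.normalizer ((T : Subgroup G) : Set G) := by
      refine basePt_fix.mp ?_
      rw [mul_smul, inv_smul_eq_iff, mul_smul, huα]
      exact ho.symm
    have : g = τ a * u * ((τ a * u)⁻¹ * g) := (mul_inv_cancel_left _ _).symm
    rw [this]
    exact mul_mem (mul_mem (hRτ a) hRu) (hRH _ hm)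
  have hψinj : Function.Injective ψ := Matrix.ProjectiveSpecialLinearGroup.toPermHom_injective
  have hle : φ.range ≤ ψ.range := by rintro _ ⟨g, rfl⟩; exact hRtop g
  have heq : φ.range = ψ.range := by
    refine Subgroup.eq_of_le_of_card_ge hle ?_
    rw [← Nat.card_congr (MonoidHom.ofInjective hψinj).toEquiv,
      ← Nat.card_congr (MonoidHom.ofInjective hφinj).toEquiv,
      ← (Subgroup.normalizer ((T : Subgroup G) : Set G)).index_mul_card, ec_index hC hnc hnn, hHcard]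
    have h := Linear.card_PSL_two_mul (F := F)
    have hg : Nat.gcd 2 (Fintype.card F - 1) = 1 := by
      refine Nat.coprime_two_left.mpr ?_
      obtain ⟨l, hl⟩ := T.2.exists_card_eq
      have h4 := ec_four_le (T := T) hnc
      rw [hcard, hl]
      refine Nat.Even.sub_odd Nat.one_le_two_pow ?_ odd_one
      exact Nat.even_pow.mpr ⟨even_two, fun h0 => by rw [hl, h0] at h4; simp at h4⟩
    rw [hg, one_mul, hcard] at h
    rw [h, show Nat.card T ^ 2 - 1 = (Nat.card T + 1) * (Nat.card T - 1) by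
      rw [← Nat.sq_sub_sq, one_pow]]
    exact le_of_eq (by ring)
  exact ⟨F, iF, inferInstance, hcard, ⟨(MonoidHom.ofInjective hφinj).trans
    ((MulEquiv.subgroupCongr heq).trans (MonoidHom.ofInjective hψinj).symm)⟩⟩

end Cfsg.Agent.H39
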