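import Cfsg.Agent.H39.ElemCount

/-!
The action on the cosets of `N(T)` is sharply triply transitive.
-/

namespace Cfsg.Agent.H39

variable {G : Type*} [Group G] [Finite G] {T : Sylow 2 G}

/-- The base point of the action. -/
def basePt (T : Sylow 2 G) : G ⧸ Subgroup.normalizer ((T : Subgroup G) : Set G) := QuotientGroup.mk 1

theorem basePt_fix {g : G} :
    g • basePt T = basePt T ↔ g ∈ Subgroup.normalizer ((T : Subgroup G) : Set G) := by
  rw [basePt, se_smul_mk_eq_iff]; simp

theorem basePt_ne {g : G} (hg : g ∉ Subgroup.normalizer ((T : Subgroup G) : Set G)) :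
    g • basePt T ≠ basePt T := fun h => hg (basePt_fix.mp h)

theorem mk_fix {g a : G} :
    g • (QuotientGroup.mk a : G ⧸ Subgroup.normalizer ((T : Subgroup G) : Set G)) = QuotientGroup.mk a ↔
      g ∈ (Subgroup.normalizer ((T : Subgroup G) : Set G)).map (MulAut.conj a).toMonoidHom := by
  rw [se_smul_mk_eq_iff, mem_map_conj]

theorem ec_four_le (hnc : ¬ IsCyclic (T : Subgroup G)) : 4 ≤ Nat.card T := by
  obtain ⟨l, hl⟩ := T.2.exists_card_eq
  rcases Nat.lt_or_ge l 2 with h | h
  · exfalso
    apply hnc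
    interval_cases l
    · have := (Nat.card_eq_one_iff_unique.mp (hl.trans (pow_zero 2))).1
      exact isCyclic_of_subsingleton
    · exact isCyclic_of_prime_card (p := 2) (hl.trans (pow_one 2))
  · rw [hl]; exact le_trans (by norm_num) (Nat.pow_le_pow_right two_pos h)

/-- `T` is regular on the cosets other than its own. -/
theorem ec_regular (hC : ElemCentralizers G) (hnc : ¬ IsCyclic (T : Subgroup G))
    (hnn : ¬ (T : Subgroup G).Normal) {x y : G ⧸ Subgroup.normalizer ((T : Subgroup G) : Set G)}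
    (hx : x ≠ basePt T) (hy : y ≠ basePt T) : ∃! t : G, t ∈ T ∧ t • x = y := by
  classical
  have hH := ec_stronglyEmbedded hC hnc hnn
  have hfree : ∀ z, z ≠ basePt T → ∀ a b : G, a ∈ T → b ∈ T → a • z = b • z → a = b := by
    intro z hz a b ha hb h
    by_contra hne
    have hne' : b⁻¹ * a ≠ 1 := fun h1 => hne (inv_mul_eq_one.mp h1).symm
    have hm : b⁻¹ * a ∈ (T : Subgroup G) := mul_mem (inv_mem hb) ha
    exact hz (se_fix_unique hH (orderOf_eq_prime ((ec_elementary hC hnc).1 _ hm) hne')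
      (by rw [mul_smul, h, inv_smul_smul]) (basePt_fix.mpr (Subgroup.le_normalizer hm)))
  have hfix : ∀ t : G, t ∈ T → t • basePt T = basePt T :=
    fun t ht => basePt_fix.mpr (Subgroup.le_normalizer ht)
  let f : Option (T : Subgroup G) → G ⧸ Subgroup.normalizer ((T : Subgroup G) : Set G) :=
    fun o => o.elim (basePt T) fun t => (t : G) • x
  have hne : ∀ t : (T : Subgroup G), (t : G) • x ≠ basePt T := fun t h => hx (by
    rw [← hfix t t.2] at h; exact MulAction.injective (t : G) h)
  have hf : Function.Injective f := by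
    rintro (_ | a) (_ | b) h
    · rfl
    · exact absurd h.symm (hne b)
    · exact absurd h (hne a)
    · exact congrArg some (Subtype.ext (hfree x hx _ _ a.2 b.2 h))
  have hbij : Function.Bijective f := (Nat.bijective_iff_injective_and_card f).mpr ⟨hf, by
    rw [Finite.card_option]; exact (ec_index hC hnc hnn).symm⟩
  obtain ⟨o, ho⟩ := hbij.2 y
  rcases o with _ | t
  · exact absurd ho.symm hy
  exact ⟨t, ⟨t.2, ho⟩, fun t' ⟨ht', h'⟩ => hfree x hx _ _ ht' t.2 (h'.trans ho.symm)⟩

/-- An element fixing three cosets, one of them the base point, is trivial. -/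
theorem ec_three_fixed_base (hC : ElemCentralizers G) (hnc : ¬ IsCyclic (T : Subgroup G))
    (hnn : ¬ (T : Subgroup G).Normal) {x y : G ⧸ Subgroup.normalizer ((T : Subgroup G) : Set G)}
    {g : G} (hx : x ≠ basePt T) (hy : y ≠ basePt T) (hxy : x ≠ y)
    (h0 : g • basePt T = basePt T) (h1 : g • x = x) (h2 : g • y = y) : g = 1 := by
  obtain ⟨t, ⟨ht, hty⟩, -⟩ := ec_regular hC hnc hnn hx hy
  have hgN := basePt_fix.mp h0
  have ht' : g * t * g⁻¹ ∈ T := (Subgroup.mem_normalizer_iff.mp hgN t).mp ht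
  have he : g * t * g⁻¹ = t := (ec_regular hC hnc hnn hx hy).unique
    ⟨ht', by rw [mul_smul, mul_smul, show g⁻¹ • x = x by rw [inv_smul_eq_iff, h1], hty, h2]⟩ ⟨ht, hty⟩
  have ht1 : t ≠ 1 := fun h => hxy (by rw [h, one_smul] at hty; exact hty)
  have hto : orderOf t = 2 := orderOf_eq_prime ((ec_elementary hC hnc).1 t ht) ht1
  have hgT : g ∈ (T : Subgroup G) := by
    rw [← ec_centralizer_eq hC hnc hto ht, Subgroup.mem_centralizer_singleton_iff]
    exact mul_inv_eq_iff_eq_mul.mp he
  by_contra hg1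
  exact hx (se_fix_unique (ec_stronglyEmbedded hC hnc hnn)
    (orderOf_eq_prime ((ec_elementary hC hnc).1 g hgT) hg1) h1 h0)

theorem ec_exists_to_base (T : Sylow 2 G) (x : G ⧸ Subgroup.normalizer ((T : Subgroup G) : Set G)) :
    ∃ g : G, g • x = basePt T := by
  obtain ⟨a, rfl⟩ := QuotientGroup.mk_surjective x
  exact ⟨a⁻¹, by simp [basePt]⟩

theorem ec_three_fixed (hC : ElemCentralizers G) (hnc : ¬ IsCyclic (T : Subgroup G))
    (hnn : ¬ (T : Subgroup G).Normal) {x y z : G ⧸ Subgroup.normalizer ((T : Subgroup G) : Set G)}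
    {g : G} (hxy : x ≠ y) (hxz : x ≠ z) (hyz : y ≠ z)
    (h0 : g • x = x) (h1 : g • y = y) (h2 : g • z = z) : g = 1 := by
  obtain ⟨a, ha⟩ := ec_exists_to_base T x
  have key : ∀ w : G ⧸ Subgroup.normalizer ((T : Subgroup G) : Set G), g • w = w →
      (a * g * a⁻¹) • (a • w) = a • w := by
    intro w hw
    rw [mul_smul, inv_smul_smul, mul_smul, hw]
  have h := ec_three_fixed_base hC hnc hnn (x := a • y) (y := a • z) (g := a * g * a⁻¹)
    (fun h => hxy (MulAction.injective a (h.trans ha.symm)).symm)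
    (fun h => hxz (MulAction.injective a (h.trans ha.symm)).symm)
    (fun h => hyz (MulAction.injective a h))
    (by rw [← ha]; exact key x h0) (key y h1) (key z h2)
  exact conj_eq_one_iff.mp h

variable {u : G}

theorem ec_mem_inter {g : G} :
    g ∈ Subgroup.normalizer ((T : Subgroup G) : Set G) ⊓
        (Subgroup.normalizer ((T : Subgroup G) : Set G)).map (MulAut.conj u).toMonoidHom ↔
      g • basePt T = basePt T ∧ g • (u • basePt T) = u • basePt T := by
  rw [Subgroup.mem_inf, basePt_fix, show u • basePt T = QuotientGroup.mk u by simp [basePt], mk_fix]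

/-- `D` is transitive on the cosets other than its two fixed points. -/
theorem ec_inter_transitive (hC : ElemCentralizers G) (hnc : ¬ IsCyclic (T : Subgroup G))
    (hnn : ¬ (T : Subgroup G).Normal) (hu : orderOf u = 2)
    (huH : u ∉ Subgroup.normalizer ((T : Subgroup G) : Set G))
    {x y : G ⧸ Subgroup.normalizer ((T : Subgroup G) : Set G)}
    (hx : x ≠ basePt T) (hx' : x ≠ u • basePt T) (hy : y ≠ basePt T) (hy' : y ≠ u • basePt T) :
    ∃ d ∈ Subgroup.normalizer ((T : Subgroup G) : Set G) ⊓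
      (Subgroup.normalizer ((T : Subgroup G) : Set G)).map (MulAut.conj u).toMonoidHom, d • x = y := by
  classical
  set D := Subgroup.normalizer ((T : Subgroup G) : Set G) ⊓
      (Subgroup.normalizer ((T : Subgroup G) : Set G)).map (MulAut.conj u).toMonoidHom with hD
  have := Fintype.ofFinite (G ⧸ Subgroup.normalizer ((T : Subgroup G) : Set G))
  let f : D → {z : G ⧸ Subgroup.normalizer ((T : Subgroup G) : Set G) //
      z ∈ ({basePt T, u • basePt T} : Finset _)ᶜ} :=
    fun d => ⟨(d : G) • x, by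
      obtain ⟨h1, h2⟩ := ec_mem_inter.mp d.2
      rw [Finset.mem_compl, Finset.mem_insert, Finset.mem_singleton]
      rintro (h | h)
      · exact hx (MulAction.injective (d : G) (h.trans h1.symm))
      · exact hx' (MulAction.injective (d : G) (h.trans h2.symm))⟩
  have hf : Function.Injective f := by
    intro a b h
    have h' : (a : G) • x = (b : G) • x := congrArg Subtype.val h
    obtain ⟨h1, h2⟩ := ec_mem_inter.mp (mul_mem (inv_mem b.2) a.2)
    exact Subtype.ext (inv_mul_eq_one.mp (ec_three_fixed hC hnc hnn (basePt_ne huH).symm hx.symm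
      hx'.symm h1 h2 (by rw [mul_smul, h', inv_smul_smul]))).symm
  have hbij : Function.Bijective f := (Nat.bijective_iff_injective_and_card f).mpr ⟨hf, by
    rw [(ec_structure hC hnc hnn hu huH).2.2.2, Nat.card_eq_finsetCard, Finset.card_compl, Finset.card_pair (basePt_ne huH).symm,
      ← Nat.card_eq_fintype_card, ← Subgroup.index, ec_index hC hnc hnn]
    omega⟩
  obtain ⟨d, hd⟩ := hbij.2 ⟨y, by simp [hy, hy']⟩
  exact ⟨d, d.2, congrArg Subtype.val hd⟩

theorem ec_exists_outside (hC : ElemCentralizers G) (hnc : ¬ IsCyclic (T : Subgroup G))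
    (hnn : ¬ (T : Subgroup G).Normal) :
    ∃ u : G, orderOf u = 2 ∧ u ∉ Subgroup.normalizer ((T : Subgroup G) : Set G) := by
  have hH := ec_stronglyEmbedded hC hnc hnn
  obtain ⟨t, ht, htH⟩ := se_exists_involution hH
  obtain ⟨a, ha⟩ : ∃ a : G, a ∉ Subgroup.normalizer ((T : Subgroup G) : Set G) := by
    by_contra h
    push Not at h
    exact hH.1 (eq_top_iff.mpr fun x _ => h x)
  exact ⟨a * t * a⁻¹, by rw [orderOf_conj, ht], fun h => ha (se_mem_of_conj hH ht htH h)⟩

/-- Three distinct cosets can be moved to any three distinct cosets. -/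
theorem ec_three_transitive (hC : ElemCentralizers G) (hnc : ¬ IsCyclic (T : Subgroup G))
    (hnn : ¬ (T : Subgroup G).Normal)
    (x₁ x₂ x₃ y₁ y₂ y₃ : G ⧸ Subgroup.normalizer ((T : Subgroup G) : Set G))
    (hx12 : x₁ ≠ x₂) (hx13 : x₁ ≠ x₃) (hx23 : x₂ ≠ x₃)
    (hy12 : y₁ ≠ y₂) (hy13 : y₁ ≠ y₃) (hy23 : y₂ ≠ y₃) :
    ∃ g : G, g • x₁ = y₁ ∧ g • x₂ = y₂ ∧ g • x₃ = y₃ := by
  obtain ⟨u, hu, huH⟩ := ec_exists_outside hC hnc hnn
  have red : ∀ a b : G ⧸ Subgroup.normalizer ((T : Subgroup G) : Set G), a ≠ b →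
      ∃ g : G, g • a = basePt T ∧ g • b = u • basePt T := by
    intro a b hab
    obtain ⟨g, hg⟩ := ec_exists_to_base T a
    obtain ⟨t, ⟨ht, htb⟩, -⟩ := ec_regular hC hnc hnn (x := g • b) (y := u • basePt T)
      (fun h => hab (MulAction.injective g (hg.trans h.symm))) (basePt_ne huH)
    exact ⟨t * g, by rw [mul_smul, hg, basePt_fix.mpr (Subgroup.le_normalizer ht)],
      by rw [mul_smul, htb]⟩
  obtain ⟨g, hg1, hg2⟩ := red x₁ x₂ hx12
  obtain ⟨h, hh1, hh2⟩ := red y₁ y₂ hy12
  obtain ⟨d, hd, hdx⟩ := ec_inter_transitive hC hnc hnn hu huH (x := g • x₃) (y := h • y₃)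
    (fun e => hx13 (MulAction.injective g (hg1.trans e.symm)))
    (fun e => hx23 (MulAction.injective g (hg2.trans e.symm)))
    (fun e => hy13 (MulAction.injective h (hh1.trans e.symm)))
    (fun e => hy23 (MulAction.injective h (hh2.trans e.symm)))
  obtain ⟨hd1, hd2⟩ := ec_mem_inter.mp hd
  refine ⟨h⁻¹ * d * g, ?_, ?_, ?_⟩
  · rw [mul_smul, mul_smul, hg1, hd1, inv_smul_eq_iff, hh1]
  · rw [mul_smul, mul_smul, hg2, hd2, inv_smul_eq_iff, hh2]
  · rw [mul_smul, mul_smul, hdx, inv_smul_smul]

/-- The normalizer of `D`. -/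
theorem ec_normalizer_inter (hC : ElemCentralizers G) (hnc : ¬ IsCyclic (T : Subgroup G))
    (hnn : ¬ (T : Subgroup G).Normal) (hu : orderOf u = 2)
    (huH : u ∉ Subgroup.normalizer ((T : Subgroup G) : Set G)) :
    let H := Subgroup.normalizer ((T : Subgroup G) : Set G)
    let D := H ⊓ H.map (MulAut.conj u).toMonoidHom
    Subgroup.normalizer (D : Set G) = D ⊔ Subgroup.zpowers u ∧
      ∀ g : G, (∀ d ∈ D, d • (QuotientGroup.mk g : G ⧸ H) = QuotientGroup.mk g) ↔
        (QuotientGroup.mk g : G ⧸ H) = QuotientGroup.mk 1 ∨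
          (QuotientGroup.mk g : G ⧸ H) = QuotientGroup.mk u := by
  intro H D
  have hβ : u • basePt T = QuotientGroup.mk u := by simp [basePt]
  obtain ⟨hinv, -, -, hDcard⟩ := ec_structure hC hnc hnn hu huH
  obtain ⟨d₀, hd₀⟩ : ∃ d : D, d ≠ 1 := by
    have := ec_four_le (T := T) hnc
    have : 1 < Nat.card D := by show 1 < _; rw [show Nat.card D = _ from hDcard]; omega
    have := Finite.one_lt_card_iff_nontrivial.mp this
    exact exists_ne 1
  have hfixed : ∀ x : G ⧸ H, (∀ d ∈ D, d • x = x) ↔ x = basePt T ∨ x = u • basePt T := by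
    intro x
    constructor
    · intro h
      by_contra hne
      push Not at hne
      obtain ⟨h1, h2⟩ := ec_mem_inter.mp d₀.2
      exact hd₀ (Subtype.ext (ec_three_fixed hC hnc hnn (basePt_ne huH).symm hne.1.symm hne.2.symm
        h1 h2 (h _ d₀.2)))
    · rintro (rfl | rfl) d hd
      · exact (ec_mem_inter.mp hd).1
      · exact (ec_mem_inter.mp hd).2
  refine ⟨le_antisymm ?_ (sup_le Subgroup.le_normalizer ?_), fun g => ?_⟩
  · intro h hh
    have hperm : ∀ x : G ⧸ H, (∀ d ∈ D, d • x = x) → ∀ d ∈ D, d • (h • x) = h • x := by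
      intro x hx d hd
      have := hx _ ((Subgroup.mem_normalizer_iff''.mp hh d).mp hd)
      rw [mul_smul, mul_smul, inv_smul_eq_iff] at this
      exact this
    have h1 := (hfixed _).mp (hperm _ ((hfixed (basePt T)).mpr (Or.inl rfl)))
    have h2 := (hfixed _).mp (hperm _ ((hfixed (u • basePt T)).mpr (Or.inr rfl)))
    have huu : u * u = 1 := mul_self_of_orderOf_eq_two hu
    have hne := fun e => basePt_ne huH (MulAction.injective h e).symm
    rcases h1 with h1 | h1
    · refine Subgroup.mem_sup_left (ec_mem_inter.mpr ⟨h1, ?_⟩)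
      rcases h2 with h2 | h2
      · exact absurd (h1.trans h2.symm) hne
      · exact h2
    · have hm : u * h ∈ D := by
        refine ec_mem_inter.mpr ⟨by rw [mul_smul, h1, ← mul_smul, huu, one_smul], ?_⟩
        rcases h2 with h2 | h2
        · rw [mul_smul, h2]
        · exact absurd (h1.trans h2.symm) hne
      have e : h = u * (u * h) := by rw [← mul_assoc, huu, one_mul]
      rw [e]
      exact mul_mem (Subgroup.mem_sup_right (Subgroup.mem_zpowers u)) (Subgroup.mem_sup_left hm)
  · rw [Subgroup.zpowers_le]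
    exact mem_normalizer_of_conj_mem fun d hd => by rw [hinv d hd]; exact inv_mem hd
  · rw [hfixed, hβ]; rfl

end Cfsg.Agent.H39
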