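import Cfsg.Agent.H98.ExtSp.Spread

/-!
The variant of `Over.root_all` for fields with at least four elements, with no condition on the dimension.
-/

set_option autoImplicit false

namespace Cfsg.Agent.H98.ExtSp.Form

open Module Cfsg.Agent.H98.ExtField

variable {F : Type*} [Field F] {K : Type*} [Field K] [Algebra F K]
  {V : Type*} [AddCommGroup V] [Module F V] [Module K V] [IsScalarTower F K V]
  {S : Form F K V} {M : Subgroup (Module.End F V)ˣ}

variable [Fintype F] [FiniteDimensional F V] [FiniteDimensional F K]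

/-- `M` contains all the transvections of the trace form. -/
theorem Over.root_all_of_four (hM : S.Over M) (hr : (finrank F K).Prime) (hq : ∃ c : F, c ≠ 0 ∧ c ≠ 1)
    {g : (Module.End F V)ˣ} (hg : g ∈ M) {k : K}
    (hne : ∀ k' : K, ∃ x, (g : Module.End F V) (k • ((g⁻¹ : (Module.End F V)ˣ) : Module.End F V) x) ≠ k' • x)
    (v : V) (d : F) : S.Root M v d := by
  obtain ⟨x₀, hx₀⟩ := hne 0
  have hx0 : x₀ ≠ 0 := by
    rintro rfl
    simp at hx₀
  have hlt : finrank F K < finrank F V := by
    by_contra hle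
    obtain ⟨z, hz⟩ := S.exists_f_one hx0
    have htop : line F K x₀ = ⊤ := Submodule.eq_top_of_finrank_eq (le_antisymm (Submodule.finrank_le _)
      (by rw [finrank_line hx0]; omega))
    have := f_line (S := S) (htop.symm ▸ Submodule.mem_top : z ∈ line F K x₀) (self_mem_line x₀)
    rw [hz] at this
    exact one_ne_zero this
  obtain ⟨g₁, hg₁, v₁, u, x, hv₁, -, hxL, hxu, hd⟩ := hM.exists_config hr hlt hg hne
  obtain ⟨w, x, y, P⟩ := hM.exists_pair hg₁ hv₁ hr.two_le hxL hxu hd
  obtain ⟨c, hc0, hc1⟩ := hq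
  have hroot : S.Root M w (c * (1 - c)) := InD.root
    (((P.mem_E hM 1 (c • y)).sub P.w_ne (P.mem_E hM c y)).congr fun β => by
      simp only [smul_mul_assoc, map_smul, smul_eq_mul, one_mul, P.y_spec, mul_one]
      simp only [Algebra.smul_def, map_add, map_mul, map_sub, map_one]
      ring)
  have hc₀ : c * (1 - c) ≠ 0 := mul_ne_zero hc0 (sub_ne_zero.2 hc1.symm)
  rcases eq_or_ne v 0 with rfl | hv
  · unfold Root
    convert MN.zero (M := M) using 1
    exact LinearMap.ext fun x => by simp
  obtain ⟨t, htl, htw⟩ := S.exists_lin P.w_ne hv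
  exact htw ▸ (hM.root_full hroot hc₀ d).conj hM (hM.mem_of_lin htl)

end Cfsg.Agent.H98.ExtSp.Form
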