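import Cfsg.Agent.H39.SemiDihedralSubgroups
import Cfsg.Agent.H39.DihedralKlein
import Cfsg.Agent.H39.OddAut
import Cfsg.Agent.H39.WreathSubgroups
import Cfsg.Agent.PGroups.Taussky
import Cfsg.Agent.PGroups.TwoGroups

/-!
Self-centralising subgroups of a quasi-dihedral group whose automorphism group is not a 2-group.
-/

namespace Cfsg.Agent.H39

/-- A cyclic 2-group has a 2-group of automorphisms. -/
theorem isPGroup_mulAut_of_zpowers {X : Type*} [Group X] [Finite X] (hX : IsPGroup 2 X) (g : X)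
    (hg : ∀ u : X, u ∈ Subgroup.zpowers g) : IsPGroup 2 (MulAut X) :=
  isPGroup_mulAut fun φ hφ => by
    have hfix := fix_cyclic hX hφ (hg (φ g))
    refine MulEquiv.ext fun u => ?_
    obtain ⟨i, rfl⟩ := hg u
    rw [map_zpow, hfix]; rfl

namespace SDGen

variable {S : Type*} [Group S] [Finite S] {m : ℕ} {x y : S} (h : SDGen m x y)
include h

theorem out_mul_self_cases (i : ℤ) :
    x ^ i * y * (x ^ i * y) = 1 ∨ x ^ i * y * (x ^ i * y) = x ^ (4 * 2 ^ m : ℤ) := by
  rcases Int.even_or_odd i with ⟨k, hk⟩ | ⟨k, hk⟩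
  · left
    rw [hk, ← two_mul]
    exact mul_self_of_orderOf_eq_two (h.orderOf_out_even k)
  · exact Or.inr (hk ▸ h.out_odd_sq k)

theorem classify {X : Subgroup S} (hC : Subgroup.centralizer (X : Set S) ≤ X)
    (hA : ¬ IsPGroup 2 (MulAut X)) : IsKleinFour X ∨ Nonempty (X ≃* QuaternionGroup 2) := by
  have : Fact (Nat.Prime 2) := ⟨Nat.prime_two⟩
  have hP : IsPGroup 2 X := h.isPGroup.to_subgroup X
  set z := x ^ (4 * 2 ^ m : ℤ) with hz
  have hzX : z ∈ X := hC (Subgroup.mem_centralizer_iff.mpr fun g _ => h.z_central g)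
  by_cases hle : X ≤ Subgroup.zpowers x
  · exfalso
    have hxX : x ∈ X := hC (Subgroup.mem_centralizer_iff.mpr fun g hg => by
      obtain ⟨i, rfl⟩ := hle hg
      exact ((Commute.refl x).zpow_left i).eq)
    refine hA (isPGroup_mulAut_of_zpowers hP ⟨x, hxX⟩ fun u => ?_)
    obtain ⟨i, hi⟩ := hle u.2
    exact ⟨i, Subtype.ext (by rw [Subgroup.coe_zpow]; exact hi)⟩
  obtain ⟨g0, hg0, hg0x⟩ := SetLike.not_le_iff_exists.mp hle
  obtain ⟨a, rfl⟩ := (h.cases_elem g0).resolve_left fun ⟨i, hi⟩ => hg0x ⟨i, hi.symm⟩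
  have hcard := card_eq_two_mul_inf h.index_zpowers hle
  obtain ⟨c, hc⟩ := (Subgroup.isCyclic_iff_exists_zpowers_eq_top (X ⊓ Subgroup.zpowers x)).mp
    (isCyclic_of_injective (Subgroup.inclusion inf_le_right) (Subgroup.inclusion_injective _))
  have hcX : c ∈ X ⊓ Subgroup.zpowers x := hc ▸ Subgroup.mem_zpowers c
  obtain ⟨k, -, hk⟩ := (Nat.dvd_prime_pow Nat.prime_two).mp
    ((h.card ▸ orderOf_dvd_natCard c : orderOf c ∣ 2 ^ (m + 4)))
  rw [← hc, Nat.card_zpowers, hk] at hcard
  set c' : X := ⟨c, hcX.1⟩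
  have hoc' : orderOf c' = 2 ^ k := by rw [Subgroup.orderOf_mk]; exact hk
  have hmem : ∀ u : X, u ∈ Subgroup.zpowers c' ↔ (u : S) ∈ Subgroup.zpowers x := by
    intro u
    constructor
    · rintro ⟨i, rfl⟩
      rw [Subgroup.coe_zpow]
      exact Subgroup.zpow_mem _ hcX.2 i
    · intro hu
      have h1 : (u : S) ∈ Subgroup.zpowers c := hc ▸ ⟨u.2, hu⟩
      obtain ⟨i, hi⟩ := h1
      exact ⟨i, Subtype.ext (by rw [Subgroup.coe_zpow]; exact hi)⟩
  have hidx : (Subgroup.zpowers c').index = 2 := by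
    have h1 := (Subgroup.zpowers c').card_mul_index
    rw [Nat.card_zpowers, hoc', hcard, mul_comm 2] at h1
    exact Nat.eq_of_mul_eq_mul_left (by positivity) h1
  set g : X := ⟨_, hg0⟩
  have hg : g ∉ Subgroup.zpowers c' := fun hm => hg0x ((hmem g).mp hm)
  have hz' : (⟨z, hzX⟩ : X) ∈ Subgroup.zpowers c' := (hmem _).mpr ⟨_, rfl⟩
  have hk1 : k ≠ 0 := by
    intro e
    rw [e, pow_zero, orderOf_eq_one_iff] at hoc'
    rw [hoc', Subgroup.zpowers_one_eq_bot, Subgroup.mem_bot] at hz'
    exact ne_one_of_orderOf_eq_two h.orderOf_z (congrArg Subtype.val hz')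
  -- elements outside the cyclic part
  have hout : ∀ u : X, u ∉ Subgroup.zpowers c' → ∃ i : ℤ, (u : S) = x ^ i * y := fun u hu =>
    (h.cases_elem (u : S)).resolve_left fun ⟨i, hi⟩ => hu ((hmem u).mpr ⟨i, hi.symm⟩)
  have hord : ∀ u : X, u ∉ Subgroup.zpowers c' → orderOf u ≤ 4 := by
    intro u hu
    obtain ⟨i, hi⟩ := hout u hu
    rw [← Subgroup.orderOf_coe, hi]
    refine orderOf_le_of_pow_eq_one (by norm_num) ?_
    rw [show (4 : ℕ) = 2 * 2 from rfl, pow_mul, sq (x ^ i * y)]
    rcases h.out_mul_self_cases i with e | e <;> rw [e]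
    · exact one_pow 2
    · rw [← h.orderOf_z, pow_orderOf_eq_one]
  rcases Nat.lt_or_ge k 3 with hk3 | hk3
  swap
  · refine absurd (PGroups.isPGroup_mulAut hoc' hidx hg fun φ => ?_) hA
    by_contra hφ
    have h1 := hord _ hφ
    rw [MulEquiv.orderOf_eq, hoc'] at h1
    have : 2 ^ 3 ≤ 2 ^ k := Nat.pow_le_pow_right two_pos hk3
    omega
  obtain rfl | rfl : k = 1 ∨ k = 2 := by omega
  · -- order four
    have hcases : ∀ u : X, u ∈ Subgroup.zpowers c' → (u : S) = 1 ∨ (u : S) = z := by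
      intro u hu
      by_cases h1 : u = 1
      · exact Or.inl (congrArg Subtype.val h1)
      refine Or.inr ?_
      have ho : orderOf u = 2 := by
        have hd := orderOf_dvd_of_mem_zpowers hu
        rw [hoc'] at hd
        exact ((Nat.dvd_prime Nat.prime_two).mp hd).resolve_left
          (fun e => h1 (orderOf_eq_one_iff.mp e))
      rcases h.mem_ord_two (u : S) (by rw [Subgroup.orderOf_coe, ho]) with e | ⟨l, e⟩
      · exact e
      · obtain ⟨i, hi⟩ := (hmem u).mp hu
        exact absurd (e ▸ hi).symm (h.out_ne_in _ _)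
    have hform : ∀ u : X, (u : S) = 1 ∨ (u : S) = z ∨ (u : S) = x ^ a * y ∨
        (u : S) = z * (x ^ a * y) := by
      intro u
      by_cases hu : u ∈ Subgroup.zpowers c'
      · rcases hcases u hu with e | e
        exacts [Or.inl e, Or.inr (Or.inl e)]
      have h1 : u * g⁻¹ ∈ Subgroup.zpowers c' :=
        (Subgroup.mul_mem_iff_of_index_two hidx).mpr
          (iff_of_false hu fun hm => hg (inv_mem_iff.mp hm))
      have hug : (u : S) = ((u * g⁻¹ : X) : S) * (x ^ a * y) := by simp [g, mul_assoc]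
      rcases hcases _ h1 with e | e
      · exact Or.inr (Or.inr (Or.inl (by rw [hug, e, one_mul])))
      · exact Or.inr (Or.inr (Or.inr (by rw [hug, e])))
    rcases Int.even_or_odd a with ⟨l, hl⟩ | ⟨l, hl⟩
    · left
      refine klein_of_card_exponent (by rw [hcard]; norm_num) fun t ht => ?_
      have haa : x ^ a * y * (x ^ a * y) = 1 := by
        rw [hl, ← two_mul]; exact mul_self_of_orderOf_eq_two (h.orderOf_out_even l)
      have hzz : z * z = 1 := mul_self_of_orderOf_eq_two h.orderOf_z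
      rw [sq]
      rcases hform ⟨t, ht⟩ with e | e | e | e <;> simp only at e <;> rw [e]
      · exact one_mul 1
      · exact hzz
      · exact haa
      · rw [show z * (x ^ a * y) * (z * (x ^ a * y)) = z * ((x ^ a * y) * z) * (x ^ a * y) by group,
          h.z_central, ← mul_assoc z, hzz, one_mul, haa]
    · exfalso
      have hgg : x ^ a * y * (x ^ a * y) = z := by rw [hl]; exact h.out_odd_sq l
      refine hA (isPGroup_mulAut_of_zpowers hP g fun u => ?_)
      rcases hform u with e | e | e | e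
      · exact ⟨0, Subtype.ext (by simpa using e.symm)⟩
      · exact ⟨2, Subtype.ext (by rw [e, Subgroup.coe_zpow, zpow_two]; exact hgg)⟩
      · exact ⟨1, Subtype.ext (by rw [e]; simp [g])⟩
      · exact ⟨3, Subtype.ext (by
          rw [e, Subgroup.coe_zpow, show (3 : ℤ) = 2 + 1 by norm_num, zpow_add_one, zpow_two]
          show x ^ a * y * (x ^ a * y) * (x ^ a * y) = _
          rw [hgg])⟩
  · -- order eight
    have hcw : ∃ i : ℤ, c = x ^ (2 * 2 ^ m * i) := by
      rcases h.mem_ord_four c (hk.trans (by norm_num)) with e | e | ⟨l, e⟩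
      · exact ⟨1, by rw [e, mul_one]⟩
      · exact ⟨-1, by rw [e]; congr 1; ring⟩
      · obtain ⟨i, hi⟩ := hcX.2
        exact absurd (e ▸ hi).symm (h.out_ne_in _ _)
    obtain ⟨i₀, hi₀⟩ := hcw
    have hpar : ∀ u : X, u ∉ Subgroup.zpowers c' → ∃ j : ℤ, (u : S) = x ^ (a + 2 * j) * y := by
      intro u hu
      have h1 : u * g⁻¹ ∈ Subgroup.zpowers c' :=
        (Subgroup.mul_mem_iff_of_index_two hidx).mpr
          (iff_of_false hu fun hm => hg (inv_mem_iff.mp hm))
      obtain ⟨i, hi⟩ := h1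
      have hug : (u : S) = ((c' ^ i : X) : S) * (x ^ a * y) := by
        rw [show c' ^ i = u * g⁻¹ from hi]; simp [g, mul_assoc]
      refine ⟨2 ^ m * i₀ * i, ?_⟩
      rw [hug, Subgroup.coe_zpow]
      show c ^ i * (x ^ a * y) = _
      rw [hi₀, ← zpow_mul, in_mul_out]
      congr 2; ring
    rcases Int.even_or_odd a with ⟨l, hl⟩ | ⟨l, hl⟩
    · exfalso
      refine hA (PGroups.isPGroup_mulAut hoc' hidx hg fun φ => ?_)
      by_contra hφ
      obtain ⟨j, hj⟩ := hpar _ hφ
      have h1 : orderOf (φ c') = 2 := by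
        rw [← Subgroup.orderOf_coe, hj, hl, show l + l + 2 * j = 2 * (l + j) by ring]
        exact h.orderOf_out_even _
      rw [MulEquiv.orderOf_eq, hoc'] at h1
      norm_num at h1
    · right
      have hgg : x ^ a * y * (x ^ a * y) = z := by rw [hl]; exact h.out_odd_sq l
      refine PGroups.nonempty_mulEquiv_quaternion (c := c') (y := g) (by rw [hoc']; norm_num) hg ?_ ?_
        (by rw [hcard]; norm_num)
      · apply Subtype.ext
        rw [sq, sq, Subgroup.coe_mul, Subgroup.coe_mul]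
        show x ^ a * y * (x ^ a * y) = c * c
        rw [hgg]
        rcases h.mem_ord_two (c * c) (by
          rw [← sq, orderOf_pow_of_dvd two_ne_zero (by rw [hk]; norm_num), hk]; norm_num)
          with e | ⟨l', e⟩
        · exact e.symm
        · obtain ⟨i, hi⟩ := mul_mem hcX.2 hcX.2
          exact absurd (e ▸ hi).symm (h.out_ne_in _ _)
      · apply Subtype.ext
        rw [Subgroup.coe_mul, Subgroup.coe_mul, InvMemClass.coe_inv, InvMemClass.coe_inv]
        show x ^ a * y * c * (x ^ a * y)⁻¹ = c⁻¹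
        rw [hi₀, h.out_conj_in, ← zpow_neg, h.zpow_eq]
        exact ⟨2 ^ m * i₀, by ring⟩

end SDGen

end Cfsg.Agent.H39
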