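import Cfsg.Agent.H39.ThreeAction
import Cfsg.Agent.H39.Dihedral
import Mathlib.GroupTheory.SpecificGroups.Quaternion
import Mathlib.Data.Fin.VecNotation

/-!
A quaternion subgroup of order eight inside a group, its three cyclic subgroups of order four and
the automorphisms induced on it.
-/

namespace Cfsg.Agent.H39

variable {G : Type*} [Group G]

/-- Standard generators of a quaternion subgroup of order eight. -/
structure QGen (Q : Subgroup G) (i j : G) : Prop where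
  mem_i : i ∈ Q
  mem_j : j ∈ Q
  oi : orderOf i = 4
  oj : orderOf j = 4
  oij : orderOf (i * j) = 4
  sq : i * i = j * j
  sq' : i * j * (i * j) = j * j
  conj_ij : i * j * i⁻¹ = j⁻¹
  conj_ji : j * i * j⁻¹ = i⁻¹
  ne_j : j ≠ i ∧ j ≠ i⁻¹
  ne_ij : i * j ≠ i ∧ i * j ≠ i⁻¹ ∧ i * j ≠ j ∧ i * j ≠ j⁻¹
  cases : ∀ g ∈ Q, g = 1 ∨ g = i * i ∨ g = i ∨ g = i⁻¹ ∨ g = j ∨ g = j⁻¹ ∨ g = i * j ∨ g = (i * j)⁻¹

theorem qEight_facts :
    let i : QuaternionGroup 2 := .a 1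
    let j : QuaternionGroup 2 := .xa 0
    (∀ g : QuaternionGroup 2,
      g = 1 ∨ g = i * i ∨ g = i ∨ g = i⁻¹ ∨ g = j ∨ g = j⁻¹ ∨ g = i * j ∨ g = (i * j)⁻¹) ∧
    i * i = j * j ∧ i * j * (i * j) = j * j ∧ i * j * i⁻¹ = j⁻¹ ∧ j * i * j⁻¹ = i⁻¹ ∧
    i * i ≠ 1 ∧ i ^ 4 = 1 ∧ j * j ≠ 1 ∧ j ^ 4 = 1 ∧ i * j * (i * j) ≠ 1 ∧ (i * j) ^ 4 = 1 ∧
    j ≠ i ∧ j ≠ i⁻¹ ∧ i * j ≠ i ∧ i * j ≠ i⁻¹ ∧ i * j ≠ j ∧ i * j ≠ j⁻¹ := by decide

theorem exists_qGen {Q : Subgroup G} (e : Q ≃* QuaternionGroup 2) : ∃ i j : G, QGen Q i j := by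
  obtain ⟨hc, h1, h1', h2, h3, a1, a2, b1, b2, c1, c2, d1, d2, d3, d4, d5, d6⟩ := qEight_facts
  let f : QuaternionGroup 2 →* G := Q.subtype.comp e.symm.toMonoidHom
  have hf : Function.Injective f := Subtype.val_injective.comp e.symm.injective
  have hmem : ∀ g, f g ∈ Q := fun g => (e.symm g).2
  have ho : ∀ g : QuaternionGroup 2, g * g ≠ 1 → g ^ 4 = 1 → orderOf (f g) = 4 := fun g u v => by
    rw [orderOf_injective f hf]
    refine orderOf_eq_prime_pow (p := 2) (n := 1) ?_ v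
    rw [pow_one, pow_two]; exact u
  refine ⟨f (.a 1), f (.xa 0), hmem _, hmem _, ho _ a1 a2, ho _ b1 b2, ?_, ?_, ?_, ?_, ?_,
    ⟨hf.ne d1, ?_⟩, ⟨?_, ?_, ?_, ?_⟩, fun g hg => ?_⟩
  · rw [← map_mul]; exact ho _ c1 c2
  · rw [← map_mul, ← map_mul, h1]
  · rw [← map_mul, ← map_mul, ← map_mul, h1']
  · rw [← map_inv, ← map_inv, ← map_mul, ← map_mul, h2]
  · rw [← map_inv, ← map_inv, ← map_mul, ← map_mul, h3]
  · rw [← map_inv]; exact hf.ne d2
  · rw [← map_mul]; exact hf.ne d3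
  · rw [← map_mul, ← map_inv]; exact hf.ne d4
  · rw [← map_mul]; exact hf.ne d5
  · rw [← map_mul, ← map_inv]; exact hf.ne d6
  · obtain ⟨u, rfl⟩ : ∃ u, f u = g :=
      ⟨e ⟨g, hg⟩, congrArg Subtype.val (e.symm_apply_apply ⟨g, hg⟩)⟩
    simp only [← map_mul, ← map_inv]
    rcases hc u with rfl | rfl | rfl | rfl | rfl | rfl | rfl | rfl <;> simp only [map_one] <;> tauto

namespace QGen

variable {Q : Subgroup G} {i j : G} (h : QGen Q i j)
include h

/-- The three pairs of elements of order four. -/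
def pairs (_h : QGen Q i j) : Fin 3 → Set G := ![{i, i⁻¹}, {j, j⁻¹}, {i * j, (i * j)⁻¹}]

theorem mem_pairs {n : Fin 3} {a : G} (ha : a ∈ h.pairs n) : a ∈ Q := by
  fin_cases n <;> rcases ha with rfl | rfl
  exacts [h.mem_i, inv_mem h.mem_i, h.mem_j, inv_mem h.mem_j, mul_mem h.mem_i h.mem_j,
    inv_mem (mul_mem h.mem_i h.mem_j)]

theorem inv_mem_pairs {n : Fin 3} {a : G} (ha : a ∈ h.pairs n) : a⁻¹ ∈ h.pairs n := by
  fin_cases n <;> rcases ha with rfl | rfl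
  exacts [Or.inr rfl, Or.inl (inv_inv i), Or.inr rfl, Or.inl (inv_inv j), Or.inr rfl,
    Or.inl (inv_inv (i * j))]

theorem orderOf_pairs {n : Fin 3} {a : G} (ha : a ∈ h.pairs n) : orderOf a = 4 := by
  fin_cases n <;> rcases ha with rfl | rfl <;>
    first
    | exact h.oi
    | exact (orderOf_inv i).trans h.oi
    | exact h.oj
    | exact (orderOf_inv j).trans h.oj
    | exact h.oij
    | exact (orderOf_inv (i * j)).trans h.oij

theorem ii_order : orderOf (i * i) = 2 := by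
  rw [← pow_two, orderOf_pow_of_dvd two_ne_zero (by rw [h.oi]; norm_num), h.oi]

theorem mem_pairs_of_orderOf {a : G} (ha : a ∈ Q) (ho : orderOf a = 4) :
    ∃ n, a ∈ h.pairs n := by
  rcases h.cases a ha with rfl | rfl | rfl | rfl | rfl | rfl | rfl | rfl
  · simp at ho
  · rw [h.ii_order] at ho; omega
  exacts [⟨0, Or.inl rfl⟩, ⟨0, Or.inr rfl⟩, ⟨1, Or.inl rfl⟩, ⟨1, Or.inr rfl⟩, ⟨2, Or.inl rfl⟩,
    ⟨2, Or.inr rfl⟩]

theorem tri {N : Subgroup G} (hN : N ≤ Subgroup.normalizer (Q : Set G)) : Tri N h.pairs where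
  nonempty n := by fin_cases n <;> exact ⟨_, Or.inl rfl⟩
  disjoint := by
    obtain ⟨e1, e2⟩ := h.ne_j
    obtain ⟨f1, f2, f3, f4⟩ := h.ne_ij
    have pairsne : ∀ u v a : G, v ≠ u → v ≠ u⁻¹ → a ∈ ({u, u⁻¹} : Set G) → a ∉ ({v, v⁻¹} : Set G) := by
      rintro u v a g1 g2 (rfl | rfl) (e | e)
      · exact g1 e.symm
      · exact g2 (by rw [e, inv_inv])
      · exact g2 e.symm
      · exact g1 (inv_injective e).symm
    intro n n' a h1 h2
    fin_cases n <;> fin_cases n' <;> first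
    | rfl
    | exact absurd h2 (pairsne i j a e1 e2 h1)
    | exact absurd h1 (pairsne i j a e1 e2 h2)
    | exact absurd h2 (pairsne i (i * j) a f1 f2 h1)
    | exact absurd h1 (pairsne i (i * j) a f1 f2 h2)
    | exact absurd h2 (pairsne j (i * j) a f3 f4 h1)
    | exact absurd h1 (pairsne j (i * j) a f3 f4 h2)
  perm g hg n := by
    have hmem : ∀ a ∈ h.pairs n, g * a * g⁻¹ ∈ Q := fun a ha =>
      (Subgroup.mem_normalizer_iff.mp (hN hg) a).mp (h.mem_pairs ha)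
    have ho : ∀ a : G, orderOf (g * a * g⁻¹) = orderOf a := orderOf_conj g
    -- a representative and its inverse
    obtain ⟨r, hr, hF⟩ : ∃ r ∈ h.pairs n, ∀ a ∈ h.pairs n, a = r ∨ a = r⁻¹ := by
      fin_cases n <;> exact ⟨_, Or.inl rfl, fun a ha => ha⟩
    obtain ⟨n', hn'⟩ := h.mem_pairs_of_orderOf (hmem r hr) ((ho r).trans (h.orderOf_pairs hr))
    refine ⟨n', fun a ha => ?_⟩
    rcases hF a ha with rfl | rfl
    · exact hn'
    · rw [← conj_inv]; exact h.inv_mem_pairs hn'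

theorem inner_preserves {q : G} (hq : q ∈ Q) :
    ∀ n, ∀ a ∈ h.pairs n, q * a * q⁻¹ ∈ h.pairs n := by
  have hij : i * j * i = j := by
    calc i * j * i = i * j * i⁻¹ * (i * i) := by group
      _ = j := by rw [h.conj_ij, h.sq, inv_mul_cancel_left]
  have hi : ∀ n, ∀ a ∈ h.pairs n, i * a * i⁻¹ ∈ h.pairs n := by
    intro n a ha
    have hk : i * (i * j) * i⁻¹ = (i * j)⁻¹ := by
      rw [show i * (i * j) * i⁻¹ = i * (i * j * i⁻¹) by group, h.conj_ij]
      refine eq_inv_of_mul_eq_one_left ?_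
      calc i * j⁻¹ * (i * j) = i * (i * j * i⁻¹) * (i * j) := by rw [h.conj_ij]
        _ = i * i * (j * j) := by group
        _ = 1 := by rw [← h.sq, mul_self_of_orderOf_eq_two h.ii_order]
    fin_cases n <;> rcases ha with rfl | rfl
    · left; group
    · right; show i * i⁻¹ * i⁻¹ = i⁻¹; group
    · right; exact h.conj_ij
    · left; rw [← conj_inv, h.conj_ij, inv_inv]
    · right; exact hk
    · left; rw [← conj_inv, hk, inv_inv]
  have hj : ∀ n, ∀ a ∈ h.pairs n, j * a * j⁻¹ ∈ h.pairs n := by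
    intro n a ha
    have hk : j * (i * j) * j⁻¹ = (i * j)⁻¹ := by
      rw [show j * (i * j) * j⁻¹ = j * i * j⁻¹ * j by group, h.conj_ji]
      refine eq_inv_of_mul_eq_one_left ?_
      rw [show i⁻¹ * j * (i * j) = i⁻¹ * (j * i * j⁻¹) * (j * j) by group, h.conj_ji, ← h.sq]
      group
    fin_cases n <;> rcases ha with rfl | rfl
    · right; exact h.conj_ji
    · left; rw [← conj_inv, h.conj_ji, inv_inv]
    · left; group
    · right; show j * j⁻¹ * j⁻¹ = j⁻¹; group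
    · right; exact hk
    · left; rw [← conj_inv, hk, inv_inv]
  intro n a ha
  -- the preserving elements of `Q` are closed under products
  have hmul : ∀ u v : G, (∀ m, ∀ b ∈ h.pairs m, u * b * u⁻¹ ∈ h.pairs m) →
      (∀ m, ∀ b ∈ h.pairs m, v * b * v⁻¹ ∈ h.pairs m) →
      ∀ m, ∀ b ∈ h.pairs m, u * v * b * (u * v)⁻¹ ∈ h.pairs m := fun u v hu hv m b hb => by
    rw [show u * v * b * (u * v)⁻¹ = u * (v * b * v⁻¹) * u⁻¹ by group]
    exact hu m _ (hv m b hb)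
  have hi2 := hmul i i hi hi
  have hiI : i⁻¹ = i * i * i := by
    refine inv_eq_of_mul_eq_one_right ?_
    rw [show i * (i * i * i) = i * i * (i * i) by group, mul_self_of_orderOf_eq_two h.ii_order]
  have hjI : j⁻¹ = i * i * j := by
    refine inv_eq_of_mul_eq_one_right ?_
    rw [h.sq, show j * (j * j * j) = j * j * (j * j) by group, ← h.sq,
      mul_self_of_orderOf_eq_two h.ii_order]
  have hi3 : ∀ m, ∀ b ∈ h.pairs m, i⁻¹ * b * i⁻¹⁻¹ ∈ h.pairs m := by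
    rw [hiI]; exact hmul _ _ hi2 hi
  have hj3 : ∀ m, ∀ b ∈ h.pairs m, j⁻¹ * b * j⁻¹⁻¹ ∈ h.pairs m := by
    rw [hjI]; exact hmul _ _ hi2 hj
  rcases h.cases q hq with rfl | rfl | rfl | rfl | rfl | rfl | rfl | rfl
  · simpa using ha
  · exact hi2 n a ha
  · exact hi n a ha
  · exact hi3 n a ha
  · exact hj n a ha
  · exact hj3 n a ha
  · exact hmul i j hi hj n a ha
  · rw [mul_inv_rev i j]; exact hmul _ _ hj3 hi3 n a ha

/-- An element fixing each pair acts on `Q` as an element of `Q`. -/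
theorem exists_inner {g : G} (hg : ∀ n, ∀ a ∈ h.pairs n, g * a * g⁻¹ ∈ h.pairs n) :
    ∃ q ∈ Q, q⁻¹ * g ∈ Subgroup.centralizer (Q : Set G) := by
  obtain ⟨q, hq, e1, e2⟩ : ∃ q ∈ Q, q * i * q⁻¹ = g * i * g⁻¹ ∧ q * j * q⁻¹ = g * j * g⁻¹ := by
    rcases hg 0 i (Or.inl rfl) with a | a <;> rcases hg 1 j (Or.inl rfl) with b | b
    · exact ⟨1, one_mem _, by rw [a]; group, by rw [b]; group⟩
    · exact ⟨i, h.mem_i, by rw [a]; group, by rw [b]; exact h.conj_ij⟩
    · exact ⟨j, h.mem_j, by rw [a]; exact h.conj_ji, by rw [b]; group⟩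
    · refine ⟨i * j, mul_mem h.mem_i h.mem_j, ?_, ?_⟩
      · rw [a, show i * j * i * (i * j)⁻¹ = i * (j * i * j⁻¹) * i⁻¹ by group, h.conj_ji]; group
      · rw [b, show i * j * j * (i * j)⁻¹ = i * j * i⁻¹ by group, h.conj_ij]
  refine ⟨q, hq, Subgroup.mem_centralizer_iff.mpr fun u hu => ?_⟩
  have ci : Commute (q⁻¹ * g) i := by
    refine mul_inv_eq_iff_eq_mul.mp ?_
    rw [show q⁻¹ * g * i * (q⁻¹ * g)⁻¹ = q⁻¹ * (g * i * g⁻¹) * q by group, ← e1]; group
  have cj : Commute (q⁻¹ * g) j := by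
    refine mul_inv_eq_iff_eq_mul.mp ?_
    rw [show q⁻¹ * g * j * (q⁻¹ * g)⁻¹ = q⁻¹ * (g * j * g⁻¹) * q by group, ← e2]; group
  have cu : Commute (q⁻¹ * g) u := by
    rcases h.cases u hu with rfl | rfl | rfl | rfl | rfl | rfl | rfl | rfl
    exacts [Commute.one_right _, ci.mul_right ci, ci, ci.inv_right, cj, cj.inv_right,
      ci.mul_right cj, (ci.mul_right cj).inv_right]
  exact cu.eq.symm

theorem relIndex_eq' {N : Subgroup G} (hN : N ≤ Subgroup.normalizer (Q : Set G)) :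
    (Q ⊔ Subgroup.centralizer (Q : Set G)).relIndex N = Nat.card (h.tri hN).hom.range := by
  rw [← Subgroup.index_ker]
  show ((Q ⊔ _).subgroupOf _).index = _
  congr 1
  ext g
  rw [Tri.mem_ker, Subgroup.mem_subgroupOf]
  constructor
  · intro hg n a ha
    rw [← SetLike.mem_coe, sup_comm, Subgroup.coe_mul_of_left_le_normalizer_right _ _ (Subgroup.centralizer_le_normalizer _)] at hg
    obtain ⟨c, hc, q, hq, hqc⟩ := Set.mem_mul.mp hg
    have hb := h.inner_preserves hq n a ha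
    have hca : c * (q * a * q⁻¹) * c⁻¹ = q * a * q⁻¹ := by
      rw [← Subgroup.mem_centralizer_iff.mp hc _ (h.mem_pairs hb), mul_inv_cancel_right]
    rw [← hqc, show c * q * a * (c * q)⁻¹ = c * (q * a * q⁻¹) * c⁻¹ by group, hca]
    exact hb
  · intro hg
    obtain ⟨q, hq, hc⟩ := h.exists_inner hg
    rw [show (g : G) = q * (q⁻¹ * g) by group]
    exact mul_mem (Subgroup.mem_sup_left hq) (Subgroup.mem_sup_right hc)

theorem relIndex_eq :
    (Q ⊔ Subgroup.centralizer (Q : Set G)).relIndex (Subgroup.normalizer (Q : Set G))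
      = Nat.card (h.tri (le_refl _)).hom.range := h.relIndex_eq' (le_refl _)

end QGen

end Cfsg.Agent.H39
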