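import Cfsg.Agent.H39.WreathLocal
import Cfsg.Agent.Fusion.Tate

/-!
Fusion in a group with wreathed Sylow 2-subgroups.
-/

namespace Cfsg.Agent.H39

open scoped commutatorElement

universe u

variable {G : Type u} [Group G]

open Subgroup

namespace WGen

variable {S : Sylow 2 G} {m : ℕ} {x y z : (S : Subgroup G)} (h : WGen m x y z)
include h

/-- The normalisers of the base and of the exceptional subgroups control fusion. -/
theorem fusion [Finite G] (Φ : G → G → Prop) (hrefl : ∀ a ∈ (S : Subgroup G), Φ a a)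
    (htrans : ∀ a b c, Φ a b → Φ b c → Φ a c)
    (hS : ∀ a ∈ (S : Subgroup G), ∀ s ∈ (S : Subgroup G), Φ a (s⁻¹ * a * s))
    (hU : ∀ g ∈ normalizer (h.baseG : Set G), ∀ a ∈ h.baseG, Φ a (g⁻¹ * a * g))
    (hV : ∀ Q : Subgroup G, Q ≤ (S : Subgroup G) → Nonempty (Q ≃* QuaternionGroup 2) →
      ∀ g ∈ normalizer ((Q ⊔ h.centG : Subgroup G) : Set G), ∀ a ∈ Q ⊔ h.centG,
        Φ a (g⁻¹ * a * g))
    {a g : G} (ha : a ∈ (S : Subgroup G)) (hag : g⁻¹ * a * g ∈ (S : Subgroup G)) :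
    Φ a (g⁻¹ * a * g) := by
  have : Fact (Nat.Prime 2) := ⟨Nat.prime_two⟩
  refine fusion_relation S Φ hrefl htrans (fun H hH hcen hext g' hg' b hb => ?_) ha hag
  by_cases hA : IsPGroup 2 (MulAut H)
  · obtain ⟨-, s, hs, -, hsa⟩ := normalizer_le_actsLike_of_aut S.isPGroup' hext hA hg'
    rw [hsa b hb]
    exact hS b (hH hb) s hs
  have hC : centralizer ((H.subgroupOf (S : Subgroup G) : Subgroup _) : Set (S : Subgroup G))
      ≤ H.subgroupOf (S : Subgroup G) := fun c hc => hcen ⟨c.2, mem_centralizer_iff.mpr fun v hv =>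
    congrArg Subtype.val (mem_centralizer_iff.mp hc ⟨v, hH hv⟩ hv)⟩
  have hA' : ¬ IsPGroup 2 (MulAut (H.subgroupOf (S : Subgroup G))) := fun hp =>
    hA (hp.of_equiv (MulAut.congr (subgroupOfEquivOfLe hH)))
  rcases h.classify hC hA' with hk | ⟨δ, hk⟩
  · obtain rfl : H = h.baseG := by rw [baseG, ← hk, map_subgroupOf_eq_of_le hH]
    exact hU g' hg' b hb
  · obtain ⟨Q, hQS, hQ, rfl, -⟩ := h.exc_exists_quat ⟨hH, δ, hk⟩
    exact hV Q hQS hQ g' hg' b hb

/-- When both automisers have order two, `S` controls its own fusion. -/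
theorem self_control [Finite G]
    (hU : normalizer (h.baseG : Set G) ≤ actsLike (S : Subgroup G) h.baseG)
    (hV : ∀ Q : Subgroup G, Q ≤ (S : Subgroup G) → Nonempty (Q ≃* QuaternionGroup 2) →
      normalizer ((Q ⊔ h.centG : Subgroup G) : Set G) ≤ actsLike (S : Subgroup G) (Q ⊔ h.centG))
    {a g : G} (ha : a ∈ (S : Subgroup G)) (hag : g⁻¹ * a * g ∈ (S : Subgroup G)) :
    ∃ s ∈ (S : Subgroup G), g⁻¹ * a * g = s⁻¹ * a * s := by
  refine h.fusion (fun u v => ∃ s ∈ (S : Subgroup G), v = s⁻¹ * u * s)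
    (fun u _ => ⟨1, one_mem _, by simp⟩)
    (fun u v w ⟨s, hs, e⟩ ⟨t, ht, e'⟩ => ⟨s * t, mul_mem hs ht, by rw [e', e]; group⟩)
    (fun u _ s hs => ⟨s, hs, rfl⟩) ?_ ?_ ha hag
  · intro g' hg' b hb
    obtain ⟨-, s, hs, -, hsa⟩ := hU hg'
    exact ⟨s, hs, hsa b hb⟩
  · intro Q hQS hQ g' hg' b hb
    obtain ⟨-, s, hs, -, hsa⟩ := hV Q hQS hQ hg'
    exact ⟨s, hs, hsa b hb⟩

theorem base_invariant_S {a s : G} (ha : a ∈ (S : Subgroup G)) (hs : s ∈ (S : Subgroup G)) :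
    a ∈ h.baseG ↔ s⁻¹ * a * s ∈ h.baseG := by
  have hn := normal_of_index_eq_two h.index_base
  have e : s⁻¹ * a * s
      = (((⟨s, hs⟩ : (S : Subgroup G))⁻¹ * ⟨a, ha⟩ * ⟨s, hs⟩ : (S : Subgroup G)) : G) := rfl
  rw [e, h.mem_baseG, show (a ∈ h.baseG) ↔ (⟨a, ha⟩ : (S : Subgroup G)) ∈ h.base from
    h.mem_baseG (u := ⟨a, ha⟩)]
  constructor
  · intro hm; exact hn.conj_mem' _ hm (⟨s, hs⟩ : (S : Subgroup G))
  · intro hm
    have e1 := hn.conj_mem _ hm (⟨s, hs⟩ : (S : Subgroup G))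
    convert e1 using 1
    group

/-- When the exceptional automisers are small, a normal subgroup of index two cuts out the base. -/
theorem exists_index_two [Finite G]
    (hV : ∀ Q : Subgroup G, Q ≤ (S : Subgroup G) → Nonempty (Q ≃* QuaternionGroup 2) →
      normalizer ((Q ⊔ h.centG : Subgroup G) : Set G) ≤ actsLike (S : Subgroup G) (Q ⊔ h.centG)) :
    ∃ K : Subgroup G, K.Normal ∧ K.index = 2 ∧ K.subgroupOf (S : Subgroup G) = h.base := by
  have : Fact (Nat.Prime 2) := ⟨Nat.prime_two⟩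
  obtain ⟨K, hK, hidx, hKS⟩ := exists_normal_of_invariant S (n := 1)
    (by simp [Nat.card_eq_fintype_card]) (indexTwoHom h.index_base)
    (indexTwoHom_surjective _) fun a g ha hag => by
      rw [indexTwoHom_eq, ← h.mem_baseG, ← h.mem_baseG]
      refine (h.fusion (fun u v => (u ∈ h.baseG ↔ v ∈ h.baseG)) (fun _ _ => Iff.rfl)
        (fun _ _ _ => Iff.trans) (fun _ hu _ hs => h.base_invariant_S hu hs) ?_ ?_ ha hag).symm
      · intro g' hg' b hb
        exact iff_of_true hb ((mem_normalizer_iff''.mp hg' b).mp hb)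
      · intro Q hQS hQ g' hg' b hb
        obtain ⟨-, s, hs, -, hsa⟩ := hV Q hQS hQ hg'
        rw [hsa b hb]
        exact h.base_invariant_S (sup_le hQS h.centG_le hb) hs
  exact ⟨K, hK, by simpa using hidx, hKS.trans (ker_indexTwoHom _)⟩

/-- The quaternion subgroup as a subgroup of `G`. -/
def quatG : Subgroup G := h.quat.map (S : Subgroup G).subtype

theorem mem_quatG {u : (S : Subgroup G)} : (u : G) ∈ h.quatG ↔ u ∈ h.quat :=
  ⟨fun ⟨v, hv, hvu⟩ => (Subtype.ext hvu : v = u) ▸ hv, fun hu => ⟨u, hu, rfl⟩⟩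

theorem commutator_le_quat : commutator (S : Subgroup G) ≤ h.quat := by
  rw [h.commutator_eq, zpowers_le]
  have e := (h.in_mem_quat (a := 1) (b := -1)).mpr (by simp)
  simpa using e

theorem quat8_le_quatG [Finite G] {Q : Subgroup G} (e : Q ≃* QuaternionGroup 2)
    (hQS : Q ≤ (S : Subgroup G)) : Q ≤ h.quatG := fun q hq =>
  h.mem_quatG (u := ⟨q, hQS hq⟩) |>.mpr
    ((h.quat8_le_quat ((subgroupOfEquivOfLe hQS).trans e)) hq)

theorem index_quat [Finite G] : h.quat.index = 2 ^ (m + 2) := by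
  have e := h.quat.index_mul_card
  rw [h.card_quat, h.card, show 2 ^ (2 * (m + 2) + 1) = 2 ^ (m + 2) * (2 * 2 ^ (m + 2)) by ring] at e
  exact Nat.eq_of_mul_eq_mul_right (by positivity) e

/-- When the base automiser is small, a normal subgroup cuts out the quaternion subgroup. -/
theorem exists_quat_kernel [Finite G]
    (hU : normalizer (h.baseG : Set G) ≤ actsLike (S : Subgroup G) h.baseG) :
    ∃ K : Subgroup G, K.Normal ∧ K.index = 2 ^ (m + 2) ∧
      K.subgroupOf (S : Subgroup G) = h.quat := by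
  have : Fact (Nat.Prime 2) := ⟨Nat.prime_two⟩
  haveI : h.quat.Normal := h.sumSub_normal
  letI : CommGroup ((S : Subgroup G) ⧸ h.quat) :=
    { (inferInstance : Group ((S : Subgroup G) ⧸ h.quat)) with
      mul_comm := fun p q => by
        obtain ⟨a, rfl⟩ := QuotientGroup.mk'_surjective h.quat p
        obtain ⟨b, rfl⟩ := QuotientGroup.mk'_surjective h.quat q
        rw [← map_mul, ← map_mul]
        refine QuotientGroup.eq.mpr (h.commutator_le_quat ?_)
        rw [show (a * b)⁻¹ * (b * a) = ⁅b⁻¹, a⁻¹⁆ by rw [commutatorElement_def]; group,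
          _root_.commutator_def]
        exact commutator_mem_commutator (mem_top _) (mem_top _) }
  have hswap : ∀ u s : G, u ∈ (S : Subgroup G) → s ∈ (S : Subgroup G) →
      u⁻¹ * (s⁻¹ * u * s) ∈ h.quatG := by
    intro u s hu hs
    have hm : (⁅(⟨u, hu⟩ : (S : Subgroup G))⁻¹, (⟨s, hs⟩ : (S : Subgroup G))⁻¹⁆) ∈ h.quat := by
      refine h.commutator_le_quat ?_
      rw [_root_.commutator_def]
      exact commutator_mem_commutator (mem_top _) (mem_top _)
    have := h.mem_quatG.mpr hm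
    simpa [commutatorElement_def, mul_assoc] using this
  refine (exists_normal_of_invariant S (n := m + 2) ?_ (QuotientGroup.mk' h.quat)
    (QuotientGroup.mk'_surjective _) fun a g ha hag => ?_).imp fun K hK =>
      ⟨hK.1, hK.2.1, hK.2.2.trans (QuotientGroup.ker_mk' _)⟩
  · rw [← Subgroup.index_eq_card, h.index_quat]
  · refine (QuotientGroup.eq.mpr ?_).symm
    rw [← h.mem_quatG]
    show a⁻¹ * (g⁻¹ * a * g) ∈ h.quatG
    refine h.fusion (fun u v => u⁻¹ * v ∈ h.quatG) (fun u _ => by simp)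
      (fun u v w e1 e2 => by simpa [mul_assoc] using mul_mem e1 e2)
      (fun u hu s hs => hswap u s hu hs) ?_ ?_ ha hag
    · intro g' hg' b hb
      obtain ⟨-, s, hs, -, hsa⟩ := hU hg'
      rw [hsa b hb]
      exact hswap b s (h.baseG_le hb) hs
    · rintro Q hQS ⟨e⟩ g' hg' b hb
      rw [← SetLike.mem_coe, coe_mul_of_left_le_normalizer_right Q h.centG (fun q hq =>
        mem_normalizer_of_conj_mem fun t ht => by
          rwa [← h.centG_comm ht (hQS hq), mul_inv_cancel_right])] at hb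
      obtain ⟨q, hq, t, ht, rfl⟩ := Set.mem_mul.mp hb
      have hqg : g'⁻¹ * q * g' ∈ Q :=
        (mem_normalizer_iff''.mp (h.quat_of_sup e hQS hg') q).mp hq
      have htg : g'⁻¹ * t * g' = t := by
        rw [mul_assoc, mem_centralizer_iff.mp (h.exc_normalizer_le_centralizer e hQS hg') t ht,
          inv_mul_cancel_left]
      have hm : q⁻¹ * (g'⁻¹ * q * g') ∈ Q := mul_mem (inv_mem hq) hqg
      have e1 : (q * t)⁻¹ * (g'⁻¹ * (q * t) * g') = q⁻¹ * (g'⁻¹ * q * g') := by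
        calc (q * t)⁻¹ * (g'⁻¹ * (q * t) * g')
            = t⁻¹ * (q⁻¹ * (g'⁻¹ * q * g') * (g'⁻¹ * t * g')) := by group
          _ = t⁻¹ * (q⁻¹ * (g'⁻¹ * q * g') * t) := by rw [htg]
          _ = t⁻¹ * (t * (q⁻¹ * (g'⁻¹ * q * g'))) := by rw [h.centG_comm ht (hQS hm)]
          _ = _ := by rw [inv_mul_cancel_left]
      rw [e1]
      exact h.quat8_le_quatG e hQS hm

/-- When the base automiser is small, the centre of `S` is elementwise weakly closed. -/
theorem cent_closed [Finite G]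
    (hU : normalizer (h.baseG : Set G) ≤ actsLike (S : Subgroup G) h.baseG)
    {a g : G} (ha : a ∈ (S : Subgroup G)) (hag : g⁻¹ * a * g ∈ (S : Subgroup G))
    (hz : a ∈ h.centG ∨ g⁻¹ * a * g ∈ h.centG) : a = g⁻¹ * a * g := by
  have hfix : ∀ a ∈ (S : Subgroup G), ∀ s ∈ (S : Subgroup G),
      a ∈ h.centG ∨ s⁻¹ * a * s ∈ h.centG → a = s⁻¹ * a * s := by
    rintro a - s hs (h1 | h1)
    · rw [mul_assoc, h.centG_comm h1 hs, inv_mul_cancel_left]
    · have := h.centG_comm h1 (inv_mem hs)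
      calc a = s * (s⁻¹ * a * s * s⁻¹) := by group
        _ = s * (s⁻¹ * (s⁻¹ * a * s)) := by rw [this]
        _ = _ := by group
  refine h.fusion (fun u v => u ∈ h.centG ∨ v ∈ h.centG → u = v) (fun _ _ _ => rfl) ?_ hfix ?_ ?_
    ha hag hz
  · rintro u v w e1 e2 (h1 | h1)
    · have := e1 (Or.inl h1)
      subst this
      exact e2 (Or.inl h1)
    · have := e2 (Or.inr h1)
      subst this
      exact e1 (Or.inr h1)
  · intro g' hg' b hb
    obtain ⟨-, s, hs, -, hsa⟩ := hU hg'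
    rw [hsa b hb]
    exact hfix b (h.baseG_le hb) s hs
  · rintro Q hQS ⟨e⟩ g' hg' b - hz'
    have hg2 := h.exc_normalizer_le_centralizer e hQS hg'
    rcases hz' with h1 | h1
    · rw [mul_assoc, mem_centralizer_iff.mp hg2 b h1, inv_mul_cancel_left]
    · have := mem_centralizer_iff.mp (inv_mem hg2) _ h1
      calc b = g' * (g'⁻¹ * b * g' * g'⁻¹) := by group
        _ = g' * (g'⁻¹ * (g'⁻¹ * b * g')) := by rw [this]
        _ = _ := by group

/-- Every involution is conjugate to one of three involutions of `S`. -/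
theorem conj_ord_two [Finite G] {t : G} (ht : orderOf t = 2) :
    IsConj t ((x ^ (2 * 2 ^ m : ℤ) * y ^ (0 : ℤ) : (S : Subgroup G)) : G) ∨
      IsConj t ((x ^ (2 * 2 ^ m : ℤ) * y ^ (2 * 2 ^ m : ℤ) : (S : Subgroup G)) : G) ∨
      IsConj t (z : G) := by
  have : Fact (Nat.Prime 2) := ⟨Nat.prime_two⟩
  obtain ⟨g, hg⟩ := exists_conj_le_sylow (IsPGroup.of_card (p := 2) (n := 1)
    (by rw [Nat.card_zpowers, ht, pow_one])) S (R := zpowers t)
  have htS := hg t (mem_zpowers t)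
  have hc : IsConj t (g * t * g⁻¹) := isConj_iff.mpr ⟨g, rfl⟩
  rcases h.mem_ord_two ⟨_, htS⟩ (by rw [Subgroup.orderOf_mk, orderOf_conj, ht]) with
    e | e | e | ⟨a, e⟩
  · left; rwa [show g * t * g⁻¹ = _ from congrArg Subtype.val e] at hc
  · left
    refine hc.trans ?_
    rw [show g * t * g⁻¹ = _ from congrArg Subtype.val e]
    exact isConj_iff.mpr ⟨z, congrArg Subtype.val (h.z_conj 0 (2 * 2 ^ m))⟩
  · right; left; rwa [show g * t * g⁻¹ = _ from congrArg Subtype.val e] at hc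
  · right; right
    refine hc.trans (IsConj.symm ?_)
    rw [show g * t * g⁻¹ = _ from congrArg Subtype.val e]
    exact isConj_iff.mpr
      ⟨((x ^ a * y ^ (0 : ℤ) : (S : Subgroup G)) : G), congrArg Subtype.val (h.conj_z a)⟩

theorem orderOf_AG : orderOf ((x ^ (2 * 2 ^ m : ℤ) * y ^ (0 : ℤ) : (S : Subgroup G)) : G) = 2 :=
  (h.mem_basePts (n := 0) rfl).2

theorem orderOf_CG :
    orderOf ((x ^ (2 * 2 ^ m : ℤ) * y ^ (2 * 2 ^ m : ℤ) : (S : Subgroup G)) : G) = 2 :=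
  (h.mem_basePts (n := 2) rfl).2

theorem orderOf_zG : orderOf (z : G) = 2 := by rw [Subgroup.orderOf_coe, h.oz]

/-- A large base automiser fuses the involutions of the base. -/
theorem A_conj_C [Finite G]
    (h6 : (centralizer (h.baseG : Set G)).relIndex (normalizer (h.baseG : Set G)) = 6) :
    IsConj ((x ^ (2 * 2 ^ m : ℤ) * y ^ (0 : ℤ) : (S : Subgroup G)) : G)
      ((x ^ (2 * 2 ^ m : ℤ) * y ^ (2 * 2 ^ m : ℤ) : (S : Subgroup G)) : G) := by
  obtain ⟨g, -, -, hcyc⟩ := (h.baseTri (le_refl _)).exists_cycle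
    (h.base_relIndex_eq ▸ h6 ▸ (by norm_num)) ⊤ fun _ _ => ⟨0, mem_top _⟩
  refine isConj_iff.mpr ⟨g * g, ?_⟩
  have e := hcyc (0 + 1) _ (hcyc 0 _ rfl)
  refine Eq.trans ?_ (show g * (g * _ * g⁻¹) * g⁻¹ = _ from e)
  simp only [mul_assoc, mul_inv_rev]

/-- A large exceptional automiser fuses `x ^ (2 ^ (m + 1))` with `z`. -/
theorem A_conj_z [Finite G] {Q : Subgroup G} (e : Q ≃* QuaternionGroup 2)
    (hQS : Q ≤ (S : Subgroup G))
    (h6 : ((Q ⊔ h.centG) ⊔ centralizer ((Q ⊔ h.centG : Subgroup G) : Set G)).relIndex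
        (normalizer ((Q ⊔ h.centG : Subgroup G) : Set G)) = 6) :
    IsConj ((x ^ (2 * 2 ^ m : ℤ) * y ^ (0 : ℤ) : (S : Subgroup G)) : G) (z : G) := by
  obtain ⟨i, j, hq⟩ := exists_qGen e
  have e' := (subgroupOfEquivOfLe hQS).trans e
  obtain ⟨k, a, b, hk, hu, -, -, -⟩ := h.quat_struct e'
  set u : (S : Subgroup G) := x ^ ((2 : ℤ) ^ m * k) * y ^ (-((2 : ℤ) ^ m * k)) with hudef
  obtain ⟨s, rfl⟩ := hk
  have huo : orderOf (u : G) = 4 := by
    rw [Subgroup.orderOf_coe]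
    refine orderOf_eq_prime_pow (p := 2) (n := 1) ?_ ?_
    · rw [pow_one, pow_two, hudef, h.mul_in, h.pq_eq_one]
      rintro ⟨⟨r, hr⟩, -⟩
      have h0 : (2 * 2 ^ m : ℤ) ≠ 0 := by positivity
      have : (2 * s + 1 : ℤ) = 2 * r := mul_left_cancel₀ h0 (by linarith)
      omega
    · rw [hudef, (h.comm.zpow_zpow _ _).mul_pow, ← zpow_natCast, ← zpow_natCast, ← zpow_mul,
        ← zpow_mul, h.pq_eq_one]
      push_cast
      exact ⟨⟨2 * s + 1, by ring⟩, ⟨-(2 * s + 1), by ring⟩⟩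
  obtain ⟨n, hn⟩ := hq.mem_pairs_of_orderOf hu huo
  obtain ⟨g, hgN, -, hcyc⟩ := (hq.tri (h.quat_of_sup e hQS)).exists_cycle
    (h.exc_relIndex_eq hq e hQS ▸ h6 ▸ (by norm_num)) ⊤ fun _ _ => ⟨0, mem_top _⟩
  have hgu := hcyc n _ hn
  have hguQ := hq.mem_pairs hgu
  set v : (S : Subgroup G) := ⟨g * u * g⁻¹, hQS hguQ⟩ with hvdef
  have hvq : v ∈ h.quat := (h.quat8_le_quat e') hguQ
  set t : (S : Subgroup G) := x ^ ((2 : ℤ) ^ m * (2 * s + 1)) * y ^ ((2 : ℤ) ^ m * (2 * s + 1))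
  have ht : (t : G) ∈ h.centG := h.mem_centG.mpr (h.in_mem_center.mpr (by simp))
  have hut : u * t = x ^ (2 * 2 ^ m : ℤ) * y ^ (0 : ℤ) := by
    rw [hudef, h.mul_in, h.pq_eq]
    exact ⟨⟨s, by ring⟩, ⟨0, by ring⟩⟩
  have hc1 : IsConj ((u * t : (S : Subgroup G)) : G) ((v * t : (S : Subgroup G)) : G) := by
    refine isConj_iff.mpr ⟨g, ?_⟩
    have hgt : g * (t : G) * g⁻¹ = t := by
      rw [← mem_centralizer_iff.mp (h.exc_normalizer_le_centralizer e hQS hgN) _ ht,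
        mul_inv_cancel_right]
    show g * ((u : G) * t) * g⁻¹ = g * u * g⁻¹ * t
    calc g * ((u : G) * t) * g⁻¹ = g * u * g⁻¹ * (g * t * g⁻¹) := by group
      _ = _ := by rw [hgt]
  rw [hut] at hc1
  refine hc1.trans ?_
  rcases h.cases_elem v with ⟨c, d, hcd⟩ | ⟨c, d, hcd⟩
  · -- `v` would lie in the pair of `u`
    exfalso
    have hcd2 : (4 * 2 ^ m : ℤ) ∣ c + d := h.in_mem_quat.mp (hcd ▸ hvq)
    obtain ⟨hVS, δ, hδ⟩ := h.exc_sup_quat e hQS
    obtain ⟨r, hr⟩ := (hδ.2.1 c d).mp (show x ^ c * y ^ d ∈ _ from hcd ▸ mem_sup_left hguQ)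
    obtain ⟨r', hr'⟩ := hcd2
    have hc' : c = 2 ^ m * (r + 2 * r') := by linarith
    have hvo : orderOf v = 4 := by
      rw [← Subgroup.orderOf_coe]; exact (orderOf_conj g _).trans huo
    rcases Int.even_or_odd (r + 2 * r') with ⟨l, hl⟩ | ⟨l, hl⟩
    · have h2 : v ^ 2 = 1 := by
        rw [hcd, pow_two, h.mul_in, h.pq_eq_one]
        exact ⟨⟨l, by rw [hc', hl]; ring⟩,
          ⟨2 * r' - l, by rw [hc', hl] at hr'; linear_combination 2 * hr'⟩⟩
      have := orderOf_dvd_of_pow_eq_one h2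
      rw [hvo] at this
      omega
    · have hin : g * (u : G) * g⁻¹ ∈ hq.pairs n := by
        have hd' : d = 4 * 2 ^ m * r' - c := by linarith
        rcases Int.even_or_odd (l - s) with ⟨o, ho⟩ | ⟨o, ho⟩
        · have hvu : v = u := by
            rw [hcd, hudef, h.pq_eq]
            exact ⟨⟨o, by rw [hc', hl]; linear_combination (2 * 2 ^ m : ℤ) * ho⟩,
              ⟨r' - o, by rw [hd', hc', hl]; linear_combination (-2 * 2 ^ m : ℤ) * ho⟩⟩
          rw [show g * (u : G) * g⁻¹ = _ from congrArg Subtype.val hvu]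
          exact hn
        · have hvu : v = u⁻¹ := by
            rw [hcd, hudef, h.in_inv, h.pq_eq]
            exact ⟨⟨o + s + 1, by rw [hc', hl]; linear_combination (2 * 2 ^ m : ℤ) * ho⟩,
              ⟨r' - o - s - 1, by rw [hd', hc', hl]; linear_combination (-2 * 2 ^ m : ℤ) * ho⟩⟩
          rw [show g * (u : G) * g⁻¹ = _ from congrArg Subtype.val hvu]
          exact hq.inv_mem_pairs hn
      have := (hq.tri (h.quat_of_sup e hQS)).disjoint _ _ _ hgu hin
      exact absurd this ((by decide : ∀ n : Fin 3, n + 1 ≠ n) n)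
  · have hcd2 : (4 * 2 ^ m : ℤ) ∣ c + d - 2 * 2 ^ m := h.out_mem_quat.mp (hcd ▸ hvq)
    obtain ⟨r, hr⟩ := hcd2
    set A : ℤ := c + 2 ^ m * (2 * s + 1)
    have e1 : v * t = x ^ A * y ^ (-A) * z := by
      rw [hcd, h.out_mul_in, h.out_eq_out]
      exact ⟨by simp [A], ⟨r + s + 1, by simp only [A]; linear_combination hr⟩⟩
    rw [e1]
    exact (isConj_iff.mpr
      ⟨((x ^ A * y ^ (0 : ℤ) : (S : Subgroup G)) : G), congrArg Subtype.val (h.conj_z A)⟩).symm

/-- With a large base automiser the base lies in every subgroup of index two of `K`. -/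
theorem base_le_of_index_two [Finite G] {K : Subgroup G} (hUK : h.baseG ≤ K)
    (h6 : (centralizer (h.baseG : Set G)).relIndex (normalizer (h.baseG : Set G)) = 6)
    (hK : ∀ g : G, ∃ e : ℕ, g ^ (4 ^ e) ∈ K) {L : Subgroup K} (hL : L.index = 2)
    (a : K) (ha : (a : G) ∈ h.baseG) : a ∈ L := by
  obtain ⟨g, hgN, hgK, hcyc⟩ := (h.baseTri (le_refl _)).exists_cycle
    (h.base_relIndex_eq ▸ h6 ▸ (by norm_num)) K fun g _ => hK g
  have hconj : ∀ v ∈ h.baseG, g * v * g⁻¹ ∈ h.baseG := fun v hv =>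
    (mem_normalizer_iff.mp hgN v).mp hv
  set b : K := ⟨g, hgK⟩ * a * ⟨g, hgK⟩⁻¹ with hb
  set c : K := ⟨g, hgK⟩ * b * ⟨g, hgK⟩⁻¹ with hc
  have hbU : (b : G) ∈ h.baseG := hconj _ ha
  have hcU : (c : G) ∈ h.baseG := hconj _ hbU
  -- the product of an involution and its two images is trivial
  have hprod : ∀ w ∈ h.baseG, w * w = 1 → w * (g * w * g⁻¹) * (g * (g * w * g⁻¹) * g⁻¹) = 1 := by
    intro w hw hww
    by_cases h1 : w = 1
    · rw [h1]; group
    obtain ⟨n, hn⟩ := h.exists_basePts hw (orderOf_eq_two_of_mul_self hww h1)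
    have h2 := hcyc n w hn
    have h3 := hcyc (n + 1) _ h2
    have hd : (4 * 2 ^ m : ℤ) ∣ 2 * (2 * 2 ^ m) := ⟨1, by ring⟩
    fin_cases n <;>
    · rw [show g * (g * w * g⁻¹) * g⁻¹ = _ from h3, show g * w * g⁻¹ = _ from h2,
        show w = _ from hn, ← Subgroup.coe_mul, ← Subgroup.coe_mul, OneMemClass.coe_eq_one,
        h.mul_in, h.mul_in, h.pq_eq_one]
      exact ⟨dvd_of_eq' hd (by ring), dvd_of_eq' hd (by ring)⟩
  set N₂ : ℕ := 2 * 2 ^ m with hN₂
  have hpow : ((a * b * c : K) : G) ^ N₂ = 1 := by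
    have c1 : Commute (a : G) (b : G) := h.baseG_comm ha hbU
    have c2 : Commute ((a : G) * b) (c : G) := h.baseG_comm (mul_mem ha hbU) hcU
    show ((a : G) * b * c) ^ N₂ = 1
    rw [c2.mul_pow, c1.mul_pow]
    have hsq : (a : G) ^ N₂ * (a : G) ^ N₂ = 1 := by
      obtain ⟨a', ⟨p, q, rfl⟩, ha'⟩ := ha
      rw [← pow_add, ← ha', ← map_pow, ← map_one (S : Subgroup G).subtype]
      congr 1
      rw [(h.comm.zpow_zpow p q).mul_pow, ← zpow_natCast, ← zpow_natCast, ← zpow_mul, ← zpow_mul,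
        h.pq_eq_one]
      constructor <;> exact ⟨_, by rw [hN₂]; push_cast; ring⟩
    have := hprod _ (pow_mem ha N₂) hsq
    rw [← conj_pow] at this
    rw [← conj_pow] at this
    exact this
  obtain ⟨w, ⟨p, q, rfl⟩, hw⟩ : ((a * b * c : K) : G) ∈ h.baseG :=
    mul_mem (mul_mem ha hbU) hcU
  have hm : (2 * 2 ^ m : ℤ) ≠ 0 := by positivity
  rw [← hw, ← map_pow, ← map_one (S : Subgroup G).subtype] at hpow
  have hpow' := Subgroup.subtype_injective _ hpow
  rw [(h.comm.zpow_zpow p q).mul_pow, ← zpow_natCast, ← zpow_natCast, ← zpow_mul, ← zpow_mul,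
    h.pq_eq_one] at hpow'
  obtain ⟨⟨p', hp'⟩, q', hq'⟩ := hpow'
  rw [hN₂] at hp' hq'
  push_cast at hp' hq'
  obtain rfl : p = p' + p' := mul_left_cancel₀ hm (by linear_combination hp')
  obtain rfl : q = q' + q' := mul_left_cancel₀ hm (by linear_combination hq')
  rw [← h.mul_in] at hw
  set r : K := ⟨((x ^ p' * y ^ q' : (S : Subgroup G)) : G),
    hUK (h.mem_baseG.mpr (h.in_mem_base _ _))⟩
  have habc : a * b * c ∈ L := by
    rw [show a * b * c = r ^ 2 from (Subtype.ext (by rw [pow_two]; exact hw)).symm]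
    exact sq_mem_of_index_two hL r
  have hn := normal_of_index_eq_two hL
  have e1 : a ∈ L ↔ b ∈ L := ⟨fun hm => hn.conj_mem a hm _, fun hm => by
    simpa [hb, mul_assoc] using hn.conj_mem b hm (⟨g, hgK⟩ : K)⁻¹⟩
  have e2 : b ∈ L ↔ c ∈ L := ⟨fun hm => hn.conj_mem b hm _, fun hm => by
    simpa [hc, mul_assoc] using hn.conj_mem c hm (⟨g, hgK⟩ : K)⁻¹⟩
  rw [mul_mem_iff_of_index_two hL, mul_mem_iff_of_index_two hL] at habc
  tauto

/-- With a large exceptional automiser the elements of the quaternion subgroup outside the base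
lie in every subgroup of index two of `K`. -/
theorem quat_out_mem [Finite G] {Q : Subgroup G} (e : Q ≃* QuaternionGroup 2)
    (hQS : Q ≤ (S : Subgroup G))
    (h6 : ((Q ⊔ h.centG) ⊔ centralizer ((Q ⊔ h.centG : Subgroup G) : Set G)).relIndex
        (normalizer ((Q ⊔ h.centG : Subgroup G) : Set G)) = 6)
    {K : Subgroup G} (hKS : h.quat ≤ K.subgroupOf (S : Subgroup G))
    (hK : ∀ g : G, ∃ e : ℕ, g ^ (4 ^ e) ∈ K) {L : Subgroup K} (hL : L.index = 2) {a b : ℤ}
    (hab : (4 * 2 ^ m : ℤ) ∣ a + b - 2 * 2 ^ m) (w : K)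
    (hw : (w : G) = ((x ^ a * y ^ b * z : (S : Subgroup G)) : G)) : w ∈ L := by
  have hδ : (2 : ℤ) ∣ a - b :=
    dvd_of_eq' (((show (2 : ℤ) ∣ 4 * 2 ^ m from ⟨2 * 2 ^ m, by ring⟩).trans hab).add
      (show (2 : ℤ) ∣ 2 * 2 ^ m - 2 * b from ⟨2 ^ m - b, by ring⟩)) (by ring)
  have hX := h.diffSub_exceptional hδ
  obtain ⟨⟨e'⟩, -⟩ := h.exc_inf_quat hX
  set Q' : Subgroup G := (h.diffSub (a - b) ⊓ h.quat).map (S : Subgroup G).subtype with hQ'
  have hQS' : Q' ≤ (S : Subgroup G) := map_subtype_le _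
  let e'' : Q' ≃* QuaternionGroup 2 :=
    (equivMapOfInjective _ _ (Subgroup.subtype_injective _)).symm.trans e'
  obtain ⟨i, j, hq⟩ := exists_qGen e''
  have h6' := (h.exc_relIndex_conj (h.exc_sup_quat e hQS) (h.exc_sup_quat e'' hQS')).trans h6
  rw [h.exc_relIndex_eq hq e'' hQS'] at h6'
  have h3 : 3 ∣ (Q' ⊔ centralizer (Q' : Set G)).relIndex (normalizer (Q' : Set G)) := by
    rw [hq.relIndex_eq]
    refine dvd_trans (show 3 ∣ Nat.card (hq.tri (h.quat_of_sup e'' hQS')).hom.range from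
      ⟨2, h6'⟩) (Subgroup.card_dvd_of_le ?_)
    rintro _ ⟨g, rfl⟩
    refine ⟨⟨g, h.quat_of_sup e'' hQS' g.2⟩, Equiv.ext fun n => ?_⟩
    exact (hq.tri (le_refl _)).unique ((hq.tri (le_refl _)).hom_spec _ n)
      ((hq.tri (h.quat_of_sup e'' hQS')).hom_spec g n)
  refine hq.le_of_index_two ?_ h3 (fun g _ => hK g) hL w (hw ▸ ?_)
  · rintro _ ⟨v, hv, rfl⟩
    exact hKS hv.2
  · exact ⟨_, ⟨(hX.2.2 a b).mpr (by simp), h.out_mem_quat.mpr hab⟩, rfl⟩

/-- With a large exceptional automiser every subgroup of index two of `K` contains `h.quat`. -/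
theorem quat_le_of_index_two [Finite G] {Q : Subgroup G} (e : Q ≃* QuaternionGroup 2)
    (hQS : Q ≤ (S : Subgroup G))
    (h6 : ((Q ⊔ h.centG) ⊔ centralizer ((Q ⊔ h.centG : Subgroup G) : Set G)).relIndex
        (normalizer ((Q ⊔ h.centG : Subgroup G) : Set G)) = 6)
    {K : Subgroup G} (hKS : h.quat ≤ K.subgroupOf (S : Subgroup G))
    (hK : ∀ g : G, ∃ e : ℕ, g ^ (4 ^ e) ∈ K) {L : Subgroup K} (hL : L.index = 2)
    (v : (S : Subgroup G)) (hv : v ∈ h.quat) : (v : G) ∈ L.map K.subtype := by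
  have hout : ∀ a b : ℤ, (4 * 2 ^ m : ℤ) ∣ a + b - 2 * 2 ^ m →
      ((x ^ a * y ^ b * z : (S : Subgroup G)) : G) ∈ L.map K.subtype := fun a b hab =>
    ⟨⟨_, hKS (h.out_mem_quat.mpr hab)⟩, h.quat_out_mem e hQS h6 hKS hK hL hab _ rfl, rfl⟩
  rcases h.cases_elem v with ⟨a, b, rfl⟩ | ⟨a, b, rfl⟩
  · have e1 : x ^ a * y ^ b
        = x ^ (a + 2 * 2 ^ m) * y ^ b * z * (x ^ (2 * 2 ^ m : ℤ) * y ^ (0 : ℤ) * z)⁻¹ := by
      rw [h.out_inv, h.out_mul_out, h.pq_eq]
      exact ⟨by simp, by simp⟩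
    rw [e1, Subgroup.coe_mul, Subgroup.coe_inv]
    exact mul_mem (hout _ _ (dvd_of_eq' (h.in_mem_quat.mp hv) (by ring)))
      (inv_mem (hout _ _ (by simp)))
  · exact hout a b (h.out_mem_quat.mp hv)

end WGen

end Cfsg.Agent.H39
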