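import Cfsg.Agent.H39.QEight
import Cfsg.Agent.H39.WreathKlein
import Cfsg.Agent.H39.Basic

/-!
The automorphisms induced on a four-subgroup, and cycles of order three inside a normal subgroup.
-/

namespace Cfsg.Agent.H39

variable {G : Type*} [Group G]

open Subgroup

theorem klein_commute {U : Subgroup G} (hU : IsKleinFour U) {a b : G} (ha : a ∈ U) (hb : b ∈ U) :
    a * b = b * a := by
  have e : ∀ g ∈ U, g⁻¹ = g := fun g hg => inv_eq_of_mul_eq_one_right (klein_mul_self hU hg)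
  calc a * b = (a * b)⁻¹ := (e _ (mul_mem ha hb)).symm
    _ = b * a := by rw [mul_inv_rev, e a ha, e b hb]

/-- A basis of a four-subgroup. -/
theorem klein_basis [Finite G] {U : Subgroup G} (hU : IsKleinFour U) :
    ∃ a b : G, a ∈ U ∧ b ∈ U ∧ a ≠ 1 ∧ b ≠ 1 ∧ a ≠ b ∧
      ∀ u ∈ U, u = 1 ∨ u = a ∨ u = b ∨ u = a * b := by
  have hc : Nat.card U = 4 := hU.card_four
  obtain ⟨⟨a, ha⟩, ha1⟩ := Subgroup.ne_bot_iff_exists_ne_one.mp fun e : U = ⊥ => by
    rw [e, Subgroup.card_bot] at hc; omega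
  have ha1' : a ≠ 1 := fun e => ha1 (Subtype.ext e)
  obtain ⟨b, hb, hb1, hab⟩ : ∃ b ∈ U, b ≠ 1 ∧ a ≠ b := by
    by_contra hcon
    push Not at hcon
    have hsub : (U : Set G) ⊆ ({1, a} : Set G) := fun u hu => by
      by_cases h1 : u = 1
      · exact Or.inl h1
      · exact Or.inr (hcon u hu h1).symm
    have := (Set.ncard_le_ncard hsub).trans (Set.ncard_insert_le _ _)
    rw [← Nat.card_coe_set_eq, show Nat.card (U : Set G) = 4 from hc, Set.ncard_singleton] at this
    omega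
  have ho : ∀ v ∈ U, v ≠ 1 → orderOf v = 2 := fun v hv h1 =>
    orderOf_eq_two_of_mul_self (klein_mul_self hU hv) h1
  obtain ⟨T, hT, hTm⟩ := klein_mk (ho a ha ha1') (ho b hb hb1) hab (klein_commute hU ha hb)
  have hTU : T = U := klein_eq_of_le hT hU fun v hv => by
    rcases (hTm v).mp hv with rfl | rfl | rfl | rfl
    exacts [one_mem _, ha, hb, mul_mem ha hb]
  exact ⟨a, b, ha, hb, ha1', hb1, hab, fun u hu => (hTm u).mp (hTU.symm ▸ hu)⟩

theorem klein_tri_facts [Finite G] {U : Subgroup G} (hU : IsKleinFour U) :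
    ∃ a b : G, ∃ h : Tri (normalizer (U : Set G)) ![({a} : Set G), {b}, {a * b}],
      a ∈ U ∧ b ∈ U ∧
      (centralizer (U : Set G)).relIndex (normalizer (U : Set G)) = Nat.card h.hom.range := by
  obtain ⟨a, b, ha, hb, ha1, hb1, hab, hm⟩ := klein_basis hU
  have hab1 : a * b ≠ 1 := fun e => hab (by
    rw [← inv_eq_of_mul_eq_one_right (klein_mul_self hU ha), inv_eq_of_mul_eq_one_right e])
  have hmem : ∀ n, ∀ u ∈ (![({a} : Set G), {b}, {a * b}]) n, u ∈ U ∧ u ≠ 1 := by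
    intro n u hu
    fin_cases n <;> cases hu
    exacts [⟨ha, ha1⟩, ⟨hb, hb1⟩, ⟨mul_mem ha hb, hab1⟩]
  have h : Tri (normalizer (U : Set G)) ![({a} : Set G), {b}, {a * b}] :=
    { nonempty := fun n => by fin_cases n <;> exact ⟨_, rfl⟩
      disjoint := by
        intro i j u hi hj
        have h3 : a ≠ a * b := fun e => hb1 (mul_eq_left.mp e.symm)
        have h4 : b ≠ a * b := fun e => ha1 (mul_eq_right.mp e.symm)
        fin_cases i <;> fin_cases j <;> first
          | rfl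
          | exact absurd (hi.symm.trans hj) hab
          | exact absurd (hj.symm.trans hi) hab
          | exact absurd (hi.symm.trans hj) h3
          | exact absurd (hj.symm.trans hi) h3
          | exact absurd (hi.symm.trans hj) h4
          | exact absurd (hj.symm.trans hi) h4
      perm := fun g hg n => by
        obtain ⟨r, hr, hF⟩ : ∃ r, r ∈ (![({a} : Set G), {b}, {a * b}]) n ∧
            ∀ u ∈ (![({a} : Set G), {b}, {a * b}]) n, u = r := by
          fin_cases n <;> exact ⟨_, rfl, fun u hu => hu⟩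
        obtain ⟨hrU, hr1⟩ := hmem n r hr
        rcases hm _ ((mem_normalizer_iff.mp hg r).mp hrU) with e | e | e | e
        · exact absurd (conj_eq_one_iff.mp e) hr1
        · exact ⟨0, fun u hu => by rw [hF u hu, e]; rfl⟩
        · exact ⟨1, fun u hu => by rw [hF u hu, e]; rfl⟩
        · exact ⟨2, fun u hu => by rw [hF u hu, e]; rfl⟩ }
  refine ⟨a, b, h, ha, hb, ?_⟩
  rw [← Subgroup.index_ker]
  show ((centralizer (U : Set G)).subgroupOf _).index = _
  congr 1
  ext g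
  rw [Tri.mem_ker, Subgroup.mem_subgroupOf, mem_centralizer_iff]
  constructor
  · intro hg n u hu
    rw [← hg u (hmem n u hu).1, mul_inv_cancel_right]
    exact hu
  · intro hg u hu
    refine (mul_inv_eq_iff_eq_mul.mp ?_).symm
    rcases hm u hu with rfl | rfl | rfl | rfl
    · group
    · exact hg 0 _ rfl
    · exact hg 1 _ rfl
    · exact hg 2 _ rfl

/-- In a subgroup `L` of index two, a cyclically permuted triple `a, b, a * b` lies inside. -/
theorem mem_of_cycle {K : Subgroup G} {L : Subgroup K} (hL : L.index = 2) {g a b c : K}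
    (h1 : g * a * g⁻¹ = b ∨ g * a * g⁻¹ = b⁻¹) (h2 : g * b * g⁻¹ = c ∨ g * b * g⁻¹ = c⁻¹)
    (hc : c = a * b) : a ∈ L ∧ b ∈ L := by
  have hn := Subgroup.normal_of_index_eq_two hL
  have step : ∀ u v : K, (g * u * g⁻¹ = v ∨ g * u * g⁻¹ = v⁻¹) → (u ∈ L ↔ v ∈ L) := by
    intro u v huv
    have e : u ∈ L ↔ g * u * g⁻¹ ∈ L :=
      ⟨fun hu => hn.conj_mem u hu g, fun hu => by simpa [mul_assoc] using hn.conj_mem _ hu g⁻¹⟩
    rcases huv with e' | e' <;> rw [e'] at e
    · exact e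
    · exact e.trans inv_mem_iff
  have hab := step a b h1
  have hc' : c ∈ L := hc ▸ (Subgroup.mul_mem_iff_of_index_two hL).mpr hab
  have hb : b ∈ L := (step b c h2).mpr hc'
  exact ⟨hab.mpr hb, hb⟩

section Cycle

variable [Finite G] {K : Subgroup G}

/-- A four-subgroup with a cyclic automiser of order three inside `K` lies in every subgroup of
index two of `K`. -/
theorem klein_le_of_index_two {U : Subgroup G} (hU : IsKleinFour U) (hUK : U ≤ K)
    (h3 : 3 ∣ (centralizer (U : Set G)).relIndex (normalizer (U : Set G)))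
    (hK : ∀ g ∈ normalizer (U : Set G), ∃ e : ℕ, g ^ (4 ^ e) ∈ K)
    {L : Subgroup K} (hL : L.index = 2) : ∀ u : K, (u : G) ∈ U → u ∈ L := by
  obtain ⟨a, b, h, ha, hb, he⟩ := klein_tri_facts hU
  obtain ⟨g, hgN, hgK, hcyc⟩ := h.exists_cycle (he ▸ h3) K hK
  obtain ⟨e1, e2⟩ := mem_of_cycle hL (g := ⟨g, hgK⟩) (a := ⟨a, hUK ha⟩) (b := ⟨b, hUK hb⟩)
    (c := ⟨a * b, hUK (mul_mem ha hb)⟩) (Or.inl (Subtype.ext (hcyc 0 a rfl)))
    (Or.inl (Subtype.ext (hcyc 1 b rfl))) rfl
  intro u hu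
  let U' : Subgroup G := L.map K.subtype
  suffices hle : U ≤ U' by
    obtain ⟨v, hv, hvu⟩ := hle hu
    exact (Subtype.ext hvu : v = u) ▸ hv
  obtain ⟨T, hT, hTm⟩ := klein_mk
    (orderOf_eq_two_of_mul_self (klein_mul_self hU ha) (fun e => by
      have := h.disjoint 1 2 b rfl (show b ∈ ({a * b} : Set G) by rw [e, one_mul]; rfl)
      exact absurd this (by decide)))
    (orderOf_eq_two_of_mul_self (klein_mul_self hU hb) (fun e => by
      have := h.disjoint 0 2 a rfl (show a ∈ ({a * b} : Set G) by rw [e, mul_one]; rfl)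
      exact absurd this (by decide)))
    (fun e => absurd (h.disjoint 0 1 a rfl (show a ∈ ({b} : Set G) from e)) (by decide))
    (klein_commute hU ha hb)
  have hTU : T = U := klein_eq_of_le hT hU fun v hv => by
    rcases (hTm v).mp hv with rfl | rfl | rfl | rfl
    exacts [one_mem _, ha, hb, mul_mem ha hb]
  intro v hv
  rcases (hTm v).mp (hTU.symm ▸ hv) with rfl | rfl | rfl | rfl
  exacts [one_mem _, ⟨_, e1, rfl⟩, ⟨_, e2, rfl⟩, mul_mem ⟨_, e1, rfl⟩ ⟨_, e2, rfl⟩]

theorem QGen.le_of_index_two {Q : Subgroup G} {i j : G} (h : QGen Q i j) (hQK : Q ≤ K)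
    (h3 : 3 ∣ (Q ⊔ centralizer (Q : Set G)).relIndex (normalizer (Q : Set G)))
    (hK : ∀ g ∈ normalizer (Q : Set G), ∃ e : ℕ, g ^ (4 ^ e) ∈ K)
    {L : Subgroup K} (hL : L.index = 2) : ∀ u : K, (u : G) ∈ Q → u ∈ L := by
  obtain ⟨g, hgN, hgK, hcyc⟩ := (h.tri (le_refl _)).exists_cycle (h.relIndex_eq ▸ h3) K hK
  obtain ⟨e1, e2⟩ := mem_of_cycle hL (g := ⟨g, hgK⟩) (a := ⟨i, hQK h.mem_i⟩) (b := ⟨j, hQK h.mem_j⟩)
    (c := ⟨i * j, hQK (mul_mem h.mem_i h.mem_j)⟩)
    ((hcyc 0 i (Or.inl rfl)).imp (fun e => Subtype.ext e) fun e => Subtype.ext e)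
    ((hcyc 1 j (Or.inl rfl)).imp (fun e => Subtype.ext e) fun e => Subtype.ext e) rfl
  intro u hu
  have hle : Q ≤ L.map K.subtype := by
    have hi : i ∈ L.map K.subtype := ⟨_, e1, rfl⟩
    have hj : j ∈ L.map K.subtype := ⟨_, e2, rfl⟩
    intro v hv
    rcases h.cases v hv with rfl | rfl | rfl | rfl | rfl | rfl | rfl | rfl
    exacts [one_mem _, mul_mem hi hi, hi, inv_mem hi, hj, inv_mem hj, mul_mem hi hj,
      inv_mem (mul_mem hi hj)]
  obtain ⟨v, hv, hvu⟩ := hle hu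
  exact (Subtype.ext hvu : v = u) ▸ hv

/-- With a three-cycle all elements of order four of the quaternion subgroup are conjugate. -/
theorem QGen.isConj_of_orderOf {Q : Subgroup G} {i j : G} (h : QGen Q i j)
    (h3 : 3 ∣ (Q ⊔ centralizer (Q : Set G)).relIndex (normalizer (Q : Set G)))
    {a b : G} (ha : a ∈ Q) (hb : b ∈ Q) (hao : orderOf a = 4) (hbo : orderOf b = 4) :
    IsConj a b := by
  obtain ⟨g, -, -, hcyc⟩ := (h.tri (le_refl _)).exists_cycle (h.relIndex_eq ▸ h3) ⊤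
    fun _ _ => ⟨0, Subgroup.mem_top _⟩
  have hii : IsConj i i⁻¹ := isConj_iff.mpr ⟨j, h.conj_ji⟩
  have hjj : IsConj j j⁻¹ := isConj_iff.mpr ⟨i, h.conj_ij⟩
  have hij : IsConj i j := by
    have e : IsConj i (g * i * g⁻¹) := isConj_iff.mpr ⟨g, rfl⟩
    rcases hcyc 0 i (Or.inl rfl) with e' | e' <;> rw [e'] at e
    · exact e
    · exact e.trans hjj.symm
  have hjk : IsConj j (i * j) ∨ IsConj j (i * j)⁻¹ := by
    have e : IsConj j (g * j * g⁻¹) := isConj_iff.mpr ⟨g, rfl⟩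
    rcases hcyc 1 j (Or.inl rfl) with e' | e' <;> rw [e'] at e
    · exact Or.inl e
    · exact Or.inr e
  have hkk : IsConj (i * j) (i * j)⁻¹ := isConj_iff.mpr ⟨j, by
    refine eq_inv_of_mul_eq_one_left ?_
    rw [show j * (i * j) * j⁻¹ * (i * j) = j * i * j⁻¹ * (j * i * j⁻¹) * (j * j) by group,
      h.conj_ji, show i⁻¹ * i⁻¹ = (i * i)⁻¹ by group, h.sq, inv_mul_cancel]⟩
  have hjk' : IsConj j (i * j) := hjk.elim id fun e => e.trans hkk.symm
  have key : ∀ u ∈ Q, orderOf u = 4 → IsConj i u := by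
    intro u hu huo
    obtain ⟨n, hn⟩ := h.mem_pairs_of_orderOf hu huo
    fin_cases n <;> rcases hn with rfl | rfl
    exacts [IsConj.refl _, hii, hij, hij.trans hjj, hij.trans hjk', (hij.trans hjk').trans hkk]
  exact (key a ha hao).symm.trans (key b hb hbo)

end Cycle

end Cfsg.Agent.H39
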