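import Cfsg.Agent.H39.SemiDihedral
import Cfsg.Agent.PGroups.Basic
import Cfsg.Agent.PGroups.TwoGroups

/-!
Maximal subgroups, derived subgroup and centre of a quasi-dihedral group.
-/

namespace Cfsg.Agent.H39

open scoped commutatorElement

variable {S : Type*} [Group S]

theorem isCoatom_of_index_two {M : Subgroup S} (hM : M.index = 2) : IsCoatom M := by
  refine ⟨fun h => by rw [h, Subgroup.index_top] at hM; omega, fun K hK => ?_⟩
  have h := Subgroup.relIndex_mul_index hK.le
  rw [hM] at h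
  rcases Nat.prime_two.eq_one_or_self_of_dvd K.index (Dvd.intro_left _ h) with h1 | h1
  · exact Subgroup.index_eq_one.mp h1
  · rw [h1] at h
    exact absurd (Subgroup.relIndex_eq_one.mp (show M.relIndex K = 1 by omega)) (not_le_of_gt hK)

theorem eq_of_le_of_index_two [Finite S] {M N : Subgroup S} (hM : M.index = 2) (hN : N.index = 2)
    (h : M ≤ N) : M = N := by
  refine Subgroup.eq_of_le_of_card_ge h (le_of_eq ?_)
  have h1 := M.index_mul_card
  have h2 := N.index_mul_card
  rw [hM] at h1; rw [hN] at h2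
  omega

namespace SDGen

variable {m : ℕ} {x y : S} (h : SDGen m x y)
include h

theorem x_not_mem_evenPart (e : ℤ) : x ∉ h.evenPart e := by
  have : x ^ (1 : ℤ) ∉ h.evenPart e := by rw [h.in_mem_evenPart]; decide
  simpa using this

variable [Finite S]

theorem coatom_eq {M : Subgroup S} (hM : IsCoatom M) :
    M = Subgroup.zpowers x ∨ M = h.evenPart 1 ∨ M = h.evenPart 0 := by
  have : Fact (Nat.Prime 2) := ⟨Nat.prime_two⟩
  have hidx := PGroups.index_eq_of_isCoatom h.isPGroup hM
  have hsq : ∀ k : ℤ, x ^ (2 * k) ∈ M := fun k => by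
    rw [zpow_mul]
    refine M.zpow_mem ?_ k
    rw [zpow_two]
    exact Subgroup.mul_self_mem_of_index_two hidx x
  by_cases hx : x ∈ M
  · exact Or.inl (eq_of_le_of_index_two h.index_zpowers hidx (Subgroup.zpowers_le.mpr hx)).symm
  by_cases hy : y ∈ M
  · refine Or.inr (Or.inr (eq_of_le_of_index_two (h.index_evenPart 0) hidx ?_).symm)
    rintro g ⟨k, rfl | rfl⟩
    · exact hsq k
    · rw [add_zero]; exact mul_mem (hsq k) hy
  · refine Or.inr (Or.inl (eq_of_le_of_index_two (h.index_evenPart 1) hidx ?_).symm)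
    have hxy : x * y ∈ M := (Subgroup.mul_mem_iff_of_index_two hidx).mpr (by tauto)
    rintro g ⟨k, rfl | rfl⟩
    · exact hsq k
    · rw [zpow_add_one, mul_assoc]; exact mul_mem (hsq k) hxy

theorem orderOf_sq : orderOf (x ^ 2) = 2 ^ (m + 2) := by
  rw [orderOf_pow_of_dvd two_ne_zero (by rw [h.ox, pow_succ]; exact Dvd.intro_left _ rfl), h.ox,
    pow_succ, Nat.mul_div_cancel _ two_pos]

theorem card_evenPart (e : ℤ) : Nat.card (h.evenPart e) = 2 ^ (m + 3) := by
  have e1 := (h.evenPart e).index_mul_card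
  rw [h.index_evenPart, h.card, show 2 ^ (m + 4) = 2 * 2 ^ (m + 3) by ring] at e1
  omega

theorem evenPart_equiv (e : ℤ) :
    let c : h.evenPart e := ⟨x ^ 2, ⟨1, Or.inl (by rw [mul_one, ← zpow_natCast]; rfl)⟩⟩
    let b : h.evenPart e := ⟨x ^ e * y, ⟨0, Or.inr (by rw [mul_zero, zero_add])⟩⟩
    orderOf c = 2 ^ (m + 2) ∧ b ∉ Subgroup.zpowers c ∧ b * c * b⁻¹ = c⁻¹ := by
  intro c b
  refine ⟨by rw [← Subgroup.orderOf_coe, h.orderOf_sq], ?_, ?_⟩
  · rintro ⟨k, hk⟩
    have e1 := congrArg Subtype.val hk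
    simp only [c, b, SubgroupClass.coe_zpow] at e1
    rw [← zpow_natCast, ← zpow_mul] at e1
    exact h.out_ne_in _ _ e1.symm
  · apply Subtype.ext
    simp only [c, b, Subgroup.coe_mul, InvMemClass.coe_inv]
    rw [← zpow_natCast, h.out_conj_in, ← zpow_neg, h.zpow_eq]
    exact ⟨1, by push_cast; ring⟩

theorem quaternion_equiv : Nonempty (h.evenPart 1 ≃* QuaternionGroup (2 ^ (m + 1))) := by
  obtain ⟨hc, hb, hconj⟩ := h.evenPart_equiv 1
  refine PGroups.nonempty_mulEquiv_quaternion (hc.trans (by ring)) hb ?_ hconj ?_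
  · apply Subtype.ext
    simp only [SubgroupClass.coe_pow]
    rw [sq, ← pow_mul, ← zpow_natCast, show (1 : ℤ) = 2 * 0 + 1 by ring, h.out_odd_sq, h.zpow_eq]
    exact ⟨0, by push_cast; ring⟩
  · rw [h.card_evenPart]; ring

theorem dihedral_equiv : Nonempty (h.evenPart 0 ≃* DihedralGroup (2 ^ (m + 2))) := by
  obtain ⟨hc, hb, hconj⟩ := h.evenPart_equiv 0
  refine PGroups.nonempty_mulEquiv_dihedral hc hb ?_ hconj ?_
  · apply Subtype.ext
    simp only [SubgroupClass.coe_pow, OneMemClass.coe_one]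
    rw [sq]
    exact mul_self_of_orderOf_eq_two (by simpa using h.orderOf_out_even 0)
  · rw [h.card_evenPart]; ring

theorem zpowers_sq_normal : (Subgroup.zpowers (x ^ 2)).Normal := by
  refine ⟨fun g ⟨k, hk⟩ a => ?_⟩
  have hk' : g = x ^ (2 * k) := by
    rw [← hk]; show (x ^ 2) ^ k = _; rw [← zpow_natCast, ← zpow_mul]; rfl
  rcases h.conj_in a (2 * k) with e | e
  · exact ⟨k, by show (x ^ 2) ^ k = _; rw [hk', e, ← zpow_natCast, ← zpow_mul]; rfl⟩
  · refine ⟨k * (4 * 2 ^ m - 1), ?_⟩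
    show (x ^ 2) ^ (k * (4 * 2 ^ m - 1)) = _
    rw [hk', e, ← zpow_natCast, ← zpow_mul]
    congr 1
    push_cast
    ring

theorem commutator_eq : commutator S = Subgroup.zpowers (x ^ 2) := by
  have : Fact (Nat.Prime 2) := ⟨Nat.prime_two⟩
  have := h.zpowers_sq_normal
  refine le_antisymm (PGroups.commutator_le_of_index_dvd_sq (p := 2) _ ?_) ?_
  · have e := (Subgroup.zpowers (x ^ 2)).index_mul_card
    rw [Nat.card_zpowers, h.orderOf_sq, h.card, show 2 ^ (m + 4) = 2 ^ 2 * 2 ^ (m + 2) by ring] at e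
    exact dvd_of_eq (Nat.eq_of_mul_eq_mul_right (by positivity) e)
  · rw [Subgroup.zpowers_le]
    have hc : ⁅y, x ^ (-(1 + 2 * 2 ^ m) : ℤ)⁆ ∈ commutator S :=
      Subgroup.commutator_mem_commutator (Subgroup.mem_top _) (Subgroup.mem_top _)
    convert hc using 1
    rw [commutatorElement_def, h.conj_zpow_x, ← zpow_neg, ← zpow_add, ← zpow_natCast, h.zpow_eq]
    exact ⟨2 ^ m, by push_cast; ring⟩

theorem frattini_eq : frattini S = Subgroup.zpowers (x ^ 2) := by
  have : Fact (Nat.Prime 2) := ⟨Nat.prime_two⟩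
  refine le_antisymm (fun g hg => ?_) (Subgroup.zpowers_le.mpr (PGroups.pow_mem_frattini h.isPGroup x))
  have h1 : g ∈ Subgroup.zpowers x :=
    frattini_le_coatom (isCoatom_of_index_two h.index_zpowers) hg
  have h2 : g ∈ h.evenPart 0 := frattini_le_coatom (isCoatom_of_index_two (h.index_evenPart 0)) hg
  obtain ⟨i, rfl⟩ := h1
  obtain ⟨k, hk⟩ := (h.in_mem_evenPart).mp h2
  refine ⟨k, ?_⟩
  show (x ^ 2) ^ k = x ^ i
  rw [hk, ← zpow_natCast, ← zpow_mul]; congr 1; push_cast; ring

theorem card_center : Nat.card (Subgroup.center S) = 2 := by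
  have e : Subgroup.center S = Subgroup.zpowers (x ^ (4 * 2 ^ m : ℤ)) := by
    refine le_antisymm (fun g hg => ?_) (Subgroup.zpowers_le.mpr (Subgroup.mem_center_iff.mpr h.z_central))
    rw [Subgroup.mem_center_iff] at hg
    rcases h.cases_elem g with ⟨j, rfl⟩ | ⟨j, rfl⟩
    · rcases h.commute_out_in (i := 0) (j := j) (by rw [← hg, mul_inv_cancel_right]) with e | e
      · rw [e]; exact one_mem _
      · rw [e]; exact Subgroup.mem_zpowers _
    · exfalso
      have e := mul_inv_eq_iff_eq_mul.mpr (hg (x ^ (1 : ℤ))).symm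
      rw [h.out_conj_in, h.zpow_eq] at e
      obtain ⟨c, hc⟩ := e
      have : (1 : ℤ) = 2 * (2 ^ m - 2 * 2 ^ m * c) := by linarith
      omega
  rw [e, Nat.card_zpowers, h.orderOf_z]

theorem closure_involutions : Subgroup.closure {g : S | orderOf g = 2} = h.evenPart 0 := by
  refine le_antisymm ((Subgroup.closure_le _).mpr fun g hg => ?_) ?_
  · rcases h.mem_ord_two g hg with rfl | ⟨k, rfl⟩
    · exact h.in_mem_evenPart.mpr ⟨2 * 2 ^ m, by ring⟩
    · exact ⟨k, Or.inr (by rw [add_zero])⟩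
  · rintro g ⟨k, rfl | rfl⟩
    · have hy : y ∈ Subgroup.closure {g : S | orderOf g = 2} := Subgroup.subset_closure h.oy
      have hm := mul_mem (Subgroup.subset_closure (k := {g : S | orderOf g = 2}) (h.orderOf_out_even k)) hy
      rwa [mul_assoc, h.y_mul_self, mul_one] at hm
    · rw [add_zero]; exact Subgroup.subset_closure (h.orderOf_out_even k)

theorem normal_cases (N : Subgroup S) [hN : N.Normal] (hne : N ≠ ⊤) :
    IsCoatom N ∨ (IsCyclic N ∧ N ≤ commutator S) := by
  by_cases hin : ∀ g ∈ N, g ∈ Subgroup.zpowers x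
  · by_cases hx : ∀ g ∈ N, g ∈ h.evenPart 0
    · right
      have hle : N ≤ Subgroup.zpowers (x ^ 2) := fun g hg => by
        obtain ⟨i, rfl⟩ := hin g hg
        obtain ⟨k, hk⟩ := h.in_mem_evenPart.mp (hx _ hg)
        refine ⟨k, ?_⟩
        show (x ^ 2) ^ k = x ^ i
        rw [hk, ← zpow_natCast, ← zpow_mul]; congr 1; push_cast; ring
      exact ⟨Subgroup.isCyclic_of_le hle, h.commutator_eq ▸ hle⟩
    · left
      push Not at hx
      obtain ⟨g, hg, hge⟩ := hx
      obtain ⟨i, rfl⟩ := hin g hg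
      simp only at hg hge
      rw [h.in_mem_evenPart, Int.not_even_iff_odd] at hge
      have hcop : (Int.natAbs i).Coprime (orderOf x) := by
        rw [h.ox]
        exact (Nat.coprime_two_right.mpr (Int.natAbs_odd.mpr hge)).pow_right _
      have hxN : x ∈ N := by
        have h1 : x ^ (i.natAbs) ∈ N := by
          rcases Int.natAbs_eq i with e | e
          · rw [e, zpow_natCast] at hg; exact hg
          · rw [e, zpow_neg, zpow_natCast] at hg; exact inv_mem_iff.mp hg
        obtain ⟨r, hr⟩ := exists_pow_eq_self_of_coprime hcop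
        rw [← hr]
        exact pow_mem h1 r
      have hNx : N = Subgroup.zpowers x := le_antisymm hin (Subgroup.zpowers_le.mpr hxN)
      rw [hNx]
      exact isCoatom_of_index_two h.index_zpowers
  · left
    push Not at hin
    obtain ⟨g, hg, hgx⟩ := hin
    obtain ⟨i, rfl⟩ : ∃ i : ℤ, g = x ^ i * y :=
      (h.cases_elem g).resolve_left fun ⟨j, e⟩ => hgx ⟨j, e.symm⟩
    have hev : ∀ k : ℤ, x ^ (2 * k) ∈ N := fun k => by
      have hc : x ^ (k * (1 + 2 * 2 ^ m)) * (x ^ i * y) * (x ^ (k * (1 + 2 * 2 ^ m)))⁻¹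
          * (x ^ i * y)⁻¹ ∈ N := mul_mem (hN.conj_mem _ hg _) (inv_mem hg)
      rw [h.conj_out, h.out_inv, h.out_mul_out] at hc
      convert hc using 1
      rw [h.zpow_eq]
      exact ⟨2 ^ m * k + i * (2 * 2 ^ m - 1), by ring⟩
    have hle : h.evenPart i ≤ N := by
      rintro g ⟨k, rfl | rfl⟩
      · exact hev k
      · rw [← in_mul_out]; exact mul_mem (hev k) hg
    have hco := isCoatom_of_index_two (h.index_evenPart i)
    rcases lt_or_eq_of_le hle with hlt | heq
    · exact absurd (hco.2 N hlt) hne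
    · exact heq ▸ hco

end SDGen

end Cfsg.Agent.H39
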