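import Cfsg.Agent.H39.SemiDihedralCentric
import Cfsg.Agent.H39.SemiDihedralMaximal
import Cfsg.Agent.H39.FusionCentric
import Cfsg.Agent.H39.KleinTri
import Cfsg.Agent.H39.DihedralFusion

/-!
Fusion in a group with quasi-dihedral Sylow 2-subgroups: it is controlled by the automisers of a
four-subgroup and of a quaternion subgroup of order eight.
-/

namespace Cfsg.Agent.H39

universe u

variable {G : Type u} [Group G] [Finite G]

open Subgroup

/-- If the automorphism group of `H` is a 2-group, its normaliser acts on it as `S` does. -/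
theorem normalizer_le_actsLike_of_aut {S H : Subgroup G} (hS : IsPGroup 2 S)
    (hext : ¬ 2 ∣ (S ⊓ normalizer (H : Set G)).relIndex (normalizer (H : Set G)))
    (hA : IsPGroup 2 (MulAut H)) : normalizer (H : Set G) ≤ actsLike S H := by
  have : Fact (Nat.Prime 2) := ⟨Nat.prime_two⟩
  intro g hg
  have hcent : ∀ c ∈ normalizer (H : Set G), Nat.Coprime (orderOf c) 2 →
      c ∈ centralizer (H : Set G) := by
    intro c hc hco
    have hker : (⟨c, hc⟩ : normalizer (H : Set G)) ∈ H.normalizerMonoidHom.ker := by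
      rw [MonoidHom.mem_ker, ← orderOf_eq_one_iff]
      obtain ⟨j, hj⟩ := hA (H.normalizerMonoidHom ⟨c, hc⟩)
      refine Nat.eq_one_of_dvd_coprimes (a := 2 ^ j) (b := orderOf c)
        (Nat.Coprime.pow_left _ hco.symm) (orderOf_dvd_of_pow_eq_one hj) ?_
      rw [← Subgroup.orderOf_mk c hc]
      exact orderOf_map_dvd _ _
    rw [normalizerMonoidHom_ker] at hker
    exact hker
  obtain ⟨s, hs, hsa⟩ := Fusion.exists_centralizer_mul hS hext hcent hg
  refine ⟨hg, s, hs, ?_, hsa⟩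
  have hinv : s⁻¹ ∈ normalizer (H : Set G) := mem_normalizer_of_conj_mem fun a ha => by
    rw [inv_inv, ← hsa a ha]
    exact (mem_normalizer_iff''.mp hg a).mp ha
  simpa using inv_mem hinv

/-- If the automiser has order two and is visible in `S`, the normaliser acts as `S` does. -/
theorem normalizer_le_actsLike_of_two {S H K : Subgroup G} (hK : K ≤ actsLike S H)
    (h2 : K.relIndex (normalizer (H : Set G)) = 2) {w : G} (hwS : w ∈ S)
    (hwN : w ∈ normalizer (H : Set G)) (hwK : w ∉ K) : normalizer (H : Set G) ≤ actsLike S H :=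
  le_of_relIndex_two h2 hwN hwK (inf_le_left.trans hK) (mem_actsLike_self hwS hwN)

theorem le_actsLike_self {S H : Subgroup G} (hH : H ≤ S) : H ≤ actsLike S H :=
  fun _ ha => mem_actsLike_self (hH ha) (le_normalizer ha)

/-- Conjugation of automisers. -/
theorem map_conj_normalizer (T : Subgroup G) (s : G) :
    normalizer ((T.map (MulAut.conj s).toMonoidHom : Subgroup G) : Set G)
      = (normalizer (T : Set G)).map (MulAut.conj s).toMonoidHom := by
  ext g
  rw [mem_normalizer_iff_map_conj, mem_map_conj, mem_normalizer_iff_map_conj, map_conj_map_conj]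
  constructor
  · intro e
    have := congrArg (fun W : Subgroup G => W.map (MulAut.conj s⁻¹).toMonoidHom) e
    simp only [map_conj_map_conj] at this
    rwa [inv_mul_cancel, map_conj_one, ← mul_assoc] at this
  · intro e
    have := congrArg (fun W : Subgroup G => W.map (MulAut.conj s).toMonoidHom) e
    simp only [map_conj_map_conj] at this
    rwa [show s * (s⁻¹ * g * s) = g * s by group] at this

theorem map_conj_centralizer (T : Subgroup G) (s : G) :
    centralizer ((T.map (MulAut.conj s).toMonoidHom : Subgroup G) : Set G)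
      = (centralizer (T : Set G)).map (MulAut.conj s).toMonoidHom := by
  ext g
  rw [mem_map_conj, mem_centralizer_iff, mem_centralizer_iff]
  constructor
  · intro h u hu
    have := h _ (conj_mem_map_conj (g := s) hu)
    calc u * (s⁻¹ * g * s) = s⁻¹ * (s * u * s⁻¹ * g) * s := by group
      _ = s⁻¹ * g * s * u := by rw [this]; group
  · intro h u hu
    have := h _ (mem_map_conj.mp hu)
    calc u * g = s * (s⁻¹ * u * s * (s⁻¹ * g * s)) * s⁻¹ := by group
      _ = g * u := by rw [this]; group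

/-- An element of 2-power order outside the kernel makes the index even. -/
theorem two_dvd_relIndex {N K : Subgroup G} (hn : (K.subgroupOf N).Normal) {w : G} (hwN : w ∈ N)
    (hwK : w ∉ K) (hw : ∃ j : ℕ, w ^ 2 ^ j = 1) : 2 ∣ K.relIndex N := by
  obtain ⟨j, hj⟩ := hw
  haveI := hn
  set q := QuotientGroup.mk' (K.subgroupOf N) ⟨w, hwN⟩
  have hq : q ≠ 1 := fun e => by
    have h1 := (QuotientGroup.eq_one_iff (N := K.subgroupOf N) (⟨w, hwN⟩ : N)).mp e
    exact hwK h1
  have hd : orderOf q ∣ 2 ^ j := orderOf_dvd_of_pow_eq_one (by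
    rw [← map_pow, show (⟨w, hwN⟩ : N) ^ 2 ^ j = 1 from Subtype.ext hj, map_one])
  obtain ⟨k, -, hk⟩ := (Nat.dvd_prime_pow Nat.prime_two).mp hd
  have h2 : 2 ∣ orderOf q := by
    rcases k with _ | k
    · exact absurd (orderOf_eq_one_iff.mp (by simpa using hk)) hq
    · rw [hk, pow_succ]; exact dvd_mul_left _ _
  exact h2.trans (orderOf_dvd_natCard q)

namespace SDGen

variable {S : Sylow 2 G} {m : ℕ} {x y : (S : Subgroup G)} (h : SDGen m x y)
include h

omit h in
theorem klein_sub {T : Subgroup G} (hT : IsKleinFour T) (hTS : T ≤ (S : Subgroup G)) :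
    IsKleinFour (T.subgroupOf (S : Subgroup G)) := by
  refine klein_of_card_exponent ?_ fun t ht => Subtype.ext ?_
  · rw [Nat.card_congr (subgroupOfEquivOfLe hTS).toEquiv]; exact hT.card_four
  · rw [SubgroupClass.coe_pow, sq]; exact klein_mul_self hT ht

theorem klein_exists {T : Subgroup G} (hT : IsKleinFour T) (hTS : T ≤ (S : Subgroup G)) :
    ∃ k : ℤ, ((x ^ (4 * 2 ^ m : ℤ) : (S : Subgroup G)) : G) ∈ T ∧
      ((x ^ (2 * k) * y : (S : Subgroup G)) : G) ∈ T ∧
      ∀ g ∈ T, ∃ hg : g ∈ (S : Subgroup G), (⟨g, hg⟩ : (S : Subgroup G)) ∈ h.evenPart 0 := by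
  obtain ⟨k, hk⟩ := h.klein_char (klein_sub hT hTS)
  have hzT : x ^ (4 * 2 ^ m : ℤ) ∈ T.subgroupOf (S : Subgroup G) := (hk _).mpr (Or.inr (Or.inl rfl))
  have haT : x ^ (2 * k) * y ∈ T.subgroupOf (S : Subgroup G) :=
    (hk _).mpr (Or.inr (Or.inr (Or.inl rfl)))
  refine ⟨k, hzT, haT, fun g hg => ⟨hTS hg, ?_⟩⟩
  have hz : x ^ (4 * 2 ^ m : ℤ) ∈ h.evenPart 0 := h.in_mem_evenPart.mpr ⟨2 * 2 ^ m, by ring⟩
  have ha : x ^ (2 * k) * y ∈ h.evenPart 0 := h.out_mem_evenPart.mpr ⟨k, by ring⟩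
  rcases (hk ⟨g, hTS hg⟩).mp hg with e | e | e | e <;> rw [e]
  exacts [one_mem _, hz, ha, mul_mem hz ha]

theorem quat_exists {Q : Subgroup G} (e : Q ≃* QuaternionGroup 2) (hQS : Q ≤ (S : Subgroup G)) :
    ∃ i : ℤ, ((x ^ (2 * 2 ^ m : ℤ) : (S : Subgroup G)) : G) ∈ Q ∧
      ((x ^ (2 * i + 1) * y : (S : Subgroup G)) : G) ∈ Q ∧
      (∀ g ∈ Q, ∃ hg : g ∈ (S : Subgroup G), (⟨g, hg⟩ : (S : Subgroup G)) ∈ h.evenPart 1) ∧
      ∀ g ∈ Q, orderOf g = 2 → g = ((x ^ (4 * 2 ^ m : ℤ) : (S : Subgroup G)) : G) := by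
  obtain ⟨i, hi⟩ := h.quat_char ((subgroupOfEquivOfLe hQS).trans e)
  have hw : x ^ (2 * 2 ^ m : ℤ) ∈ Q.subgroupOf (S : Subgroup G) :=
    (hi _).mpr ⟨1, Or.inl (by rw [mul_one])⟩
  have hb : x ^ (2 * i + 1) * y ∈ Q.subgroupOf (S : Subgroup G) :=
    (hi _).mpr ⟨0, Or.inr (by simp)⟩
  refine ⟨i, hw, hb, fun g hg => ⟨hQS hg, ?_⟩, fun g hg ho => ?_⟩
  · obtain ⟨k, e1 | e1⟩ := (hi ⟨g, hQS hg⟩).mp hg <;> rw [e1]
    · exact h.in_mem_evenPart.mpr ⟨2 ^ m * k, by ring⟩
    · rw [in_mul_out]; exact h.out_mem_evenPart.mpr ⟨2 ^ m * k + i, by ring⟩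
  · have ho' : orderOf (⟨g, hQS hg⟩ : (S : Subgroup G)) = 2 := by rw [Subgroup.orderOf_mk, ho]
    rcases h.mem_ord_two _ ho' with e1 | ⟨l, e1⟩
    · exact congrArg Subtype.val e1
    · exfalso
      obtain ⟨k, e2 | e2⟩ := (hi ⟨g, hQS hg⟩).mp hg <;> rw [e1] at e2
      · exact h.out_ne_in _ _ e2
      · rw [in_mul_out, h.out_eq_out] at e2
        obtain ⟨c, hc⟩ := e2
        have : (1 : ℤ) = 2 * (l - 2 ^ m * k - i - 4 * 2 ^ m * c) := by linarith
        omega

theorem klein_witness {T : Subgroup G} (hT : IsKleinFour T) (hTS : T ≤ (S : Subgroup G)) :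
    ∃ w ∈ (S : Subgroup G), w ∈ normalizer (T : Set G) ∧ w ∉ centralizer (T : Set G) := by
  set T' := T.subgroupOf (S : Subgroup G)
  have hT' := klein_sub hT hTS
  obtain ⟨w, hw, hwT⟩ : ∃ w ∈ normalizer (T' : Set (S : Subgroup G)), w ∉ T' := by
    by_contra hcon
    push Not at hcon
    have := h.klein_relIndex hT'
    rw [relIndex_eq_one.mpr hcon] at this
    omega
  refine ⟨w, w.2, mem_normalizer_of_conj_mem fun g hg =>
    (mem_normalizer_iff.mp hw ⟨g, hTS hg⟩).mp hg, fun hc => hwT ((h.klein_centralizer hT').le ?_)⟩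
  exact mem_centralizer_iff.mpr fun t ht => Subtype.ext (mem_centralizer_iff.mp hc t.1 ht)

theorem quat_witness {Q : Subgroup G} (e : Q ≃* QuaternionGroup 2) (hQS : Q ≤ (S : Subgroup G)) :
    ∃ w ∈ (S : Subgroup G), w ∈ normalizer (Q : Set G) ∧
      w ∉ Q ⊔ centralizer (Q : Set G) := by
  set Q' := Q.subgroupOf (S : Subgroup G)
  have e' := (subgroupOfEquivOfLe hQS).trans e
  obtain ⟨w, hw, hwQ⟩ : ∃ w ∈ normalizer (Q' : Set (S : Subgroup G)), w ∉ Q' := by
    by_contra hcon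
    push Not at hcon
    have := h.quat_relIndex e'
    rw [relIndex_eq_one.mpr hcon] at this
    omega
  refine ⟨w, w.2, mem_normalizer_of_conj_mem fun g hg =>
    (mem_normalizer_iff.mp hw ⟨g, hQS hg⟩).mp hg, fun hc => hwQ ?_⟩
  rw [← SetLike.mem_coe, sup_comm, coe_mul_of_left_le_normalizer_right _ _
    (centralizer_le_normalizer _)] at hc
  obtain ⟨c, hc, q, hq, hcq⟩ := Set.mem_mul.mp hc
  have hcS : c ∈ (S : Subgroup G) := by
    have : c = (w : G) * q⁻¹ := by rw [← hcq, mul_inv_cancel_right]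
    exact this ▸ mul_mem w.2 (inv_mem (hQS hq))
  have hcQ : (⟨c, hcS⟩ : (S : Subgroup G)) ∈ Q' := by
    have h1 : (⟨c, hcS⟩ : (S : Subgroup G)) ∈ centralizer (Q' : Set (S : Subgroup G)) :=
      mem_centralizer_iff.mpr fun t ht => Subtype.ext (mem_centralizer_iff.mp hc t.1 ht)
    rw [h.quat_centralizer e'] at h1
    obtain ⟨v, -, hv⟩ := h1
    exact hv ▸ v.2
  show (w : G) ∈ Q
  exact hcq ▸ mul_mem hcQ hq

theorem klein_acts_of_two {T : Subgroup G} (hT : IsKleinFour T) (hTS : T ≤ (S : Subgroup G))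
    (h2 : (centralizer (T : Set G)).relIndex (normalizer (T : Set G)) = 2) :
    normalizer (T : Set G) ≤ actsLike (S : Subgroup G) T := by
  obtain ⟨w, hwS, hwN, hwC⟩ := h.klein_witness hT hTS
  exact normalizer_le_actsLike_of_two (centralizer_le_actsLike _ _) h2 hwS hwN hwC

theorem quat_acts_of_two {Q : Subgroup G} (e : Q ≃* QuaternionGroup 2) (hQS : Q ≤ (S : Subgroup G))
    (h2 : (Q ⊔ centralizer (Q : Set G)).relIndex (normalizer (Q : Set G)) = 2) :
    normalizer (Q : Set G) ≤ actsLike (S : Subgroup G) Q := by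
  obtain ⟨w, hwS, hwN, hwC⟩ := h.quat_witness e hQS
  exact normalizer_le_actsLike_of_two (sup_le (le_actsLike_self hQS) (centralizer_le_actsLike _ _))
    h2 hwS hwN hwC

theorem klein_relIndex_even {T : Subgroup G} (hT : IsKleinFour T) (hTS : T ≤ (S : Subgroup G)) :
    (centralizer (T : Set G)).relIndex (normalizer (T : Set G)) = 2 ∨
      (centralizer (T : Set G)).relIndex (normalizer (T : Set G)) = 6 := by
  obtain ⟨w, hwS, hwN, hwC⟩ := h.klein_witness hT hTS
  obtain ⟨a, b, ht, -, -, he⟩ := klein_tri_facts hT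
  have h6 := he ▸ ht.card_range_dvd
  have h2 : 2 ∣ (centralizer (T : Set G)).relIndex (normalizer (T : Set G)) := by
    refine two_dvd_relIndex ?_ hwN hwC ?_
    · rw [← normalizerMonoidHom_ker]; exact MonoidHom.normal_ker _
    · obtain ⟨j, hj⟩ := S.isPGroup' ⟨w, hwS⟩
      exact ⟨j, congrArg Subtype.val hj⟩
  have h7 := Nat.le_of_dvd (by norm_num) h6
  interval_cases (centralizer (T : Set G)).relIndex (normalizer (T : Set G)) <;> omega

theorem quat_relIndex_even {Q : Subgroup G} (e : Q ≃* QuaternionGroup 2)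
    (hQS : Q ≤ (S : Subgroup G)) :
    (Q ⊔ centralizer (Q : Set G)).relIndex (normalizer (Q : Set G)) = 2 ∨
      (Q ⊔ centralizer (Q : Set G)).relIndex (normalizer (Q : Set G)) = 6 := by
  obtain ⟨w, hwS, hwN, hwC⟩ := h.quat_witness e hQS
  obtain ⟨i, j, hq⟩ := exists_qGen e
  have h6 := hq.relIndex_eq ▸ (hq.tri (le_refl _)).card_range_dvd
  have h2 : 2 ∣ (Q ⊔ centralizer (Q : Set G)).relIndex (normalizer (Q : Set G)) := by
    refine two_dvd_relIndex ?_ hwN hwC ?_
    · have e1 : (Q ⊔ centralizer (Q : Set G)).subgroupOf (normalizer (Q : Set G))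
          = Q.subgroupOf (normalizer (Q : Set G)) ⊔
            (centralizer (Q : Set G)).subgroupOf (normalizer (Q : Set G)) :=
        subgroupOf_sup le_normalizer (centralizer_le_normalizer _)
      haveI : ((centralizer (Q : Set G)).subgroupOf (normalizer (Q : Set G))).Normal := by
        rw [← normalizerMonoidHom_ker]; exact MonoidHom.normal_ker _
      haveI : (Q.subgroupOf (normalizer (Q : Set G))).Normal := Subgroup.normal_in_normalizer
      rw [e1]; infer_instance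
    · obtain ⟨j', hj⟩ := S.isPGroup' ⟨w, hwS⟩
      exact ⟨j', congrArg Subtype.val hj⟩
  have h7 := Nat.le_of_dvd (by norm_num) h6
  interval_cases (Q ⊔ centralizer (Q : Set G)).relIndex (normalizer (Q : Set G)) <;> omega

theorem klein_conjG {T₁ T₂ : Subgroup G} (h₁ : IsKleinFour T₁) (h₂ : IsKleinFour T₂)
    (h₁S : T₁ ≤ (S : Subgroup G)) (h₂S : T₂ ≤ (S : Subgroup G)) :
    ∃ s ∈ (S : Subgroup G), T₁.map (MulAut.conj s).toMonoidHom = T₂ := by
  obtain ⟨s, hs⟩ := h.klein_conj (klein_sub h₁ h₁S) (klein_sub h₂ h₂S)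
  refine ⟨s, s.2, ?_⟩
  have e := congrArg (fun W : Subgroup (S : Subgroup G) => W.map (S : Subgroup G).subtype) hs
  simp only [Subgroup.map_map] at e
  rw [show (S : Subgroup G).subtype.comp (MulAut.conj s).toMonoidHom
    = (MulAut.conj (s : G)).toMonoidHom.comp (S : Subgroup G).subtype from rfl, ← Subgroup.map_map,
    map_subgroupOf_eq_of_le h₁S, map_subgroupOf_eq_of_le h₂S] at e
  exact e

theorem quat_conjG {Q₁ Q₂ : Subgroup G} (e₁ : Q₁ ≃* QuaternionGroup 2)
    (e₂ : Q₂ ≃* QuaternionGroup 2) (h₁S : Q₁ ≤ (S : Subgroup G)) (h₂S : Q₂ ≤ (S : Subgroup G)) :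
    ∃ s ∈ (S : Subgroup G), Q₁.map (MulAut.conj s).toMonoidHom = Q₂ := by
  obtain ⟨s, hs⟩ := h.quat_conj ((subgroupOfEquivOfLe h₁S).trans e₁)
    ((subgroupOfEquivOfLe h₂S).trans e₂)
  refine ⟨s, s.2, ?_⟩
  have e := congrArg (fun W : Subgroup (S : Subgroup G) => W.map (S : Subgroup G).subtype) hs
  simp only [Subgroup.map_map] at e
  rw [show (S : Subgroup G).subtype.comp (MulAut.conj s).toMonoidHom
    = (MulAut.conj (s : G)).toMonoidHom.comp (S : Subgroup G).subtype from rfl, ← Subgroup.map_map,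
    map_subgroupOf_eq_of_le h₁S, map_subgroupOf_eq_of_le h₂S] at e
  exact e

theorem klein_relIndex_eq {T₁ T₂ : Subgroup G} (h₁ : IsKleinFour T₁) (h₂ : IsKleinFour T₂)
    (h₁S : T₁ ≤ (S : Subgroup G)) (h₂S : T₂ ≤ (S : Subgroup G)) :
    (centralizer (T₂ : Set G)).relIndex (normalizer (T₂ : Set G))
      = (centralizer (T₁ : Set G)).relIndex (normalizer (T₁ : Set G)) := by
  obtain ⟨s, -, rfl⟩ := h.klein_conjG h₁ h₂ h₁S h₂S
  rw [map_conj_normalizer, map_conj_centralizer,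
    relIndex_map_map_of_injective _ _ (MulAut.conj s).injective]

theorem quat_relIndex_eq {Q₁ Q₂ : Subgroup G} (e₁ : Q₁ ≃* QuaternionGroup 2)
    (e₂ : Q₂ ≃* QuaternionGroup 2) (h₁S : Q₁ ≤ (S : Subgroup G)) (h₂S : Q₂ ≤ (S : Subgroup G)) :
    (Q₂ ⊔ centralizer (Q₂ : Set G)).relIndex (normalizer (Q₂ : Set G))
      = (Q₁ ⊔ centralizer (Q₁ : Set G)).relIndex (normalizer (Q₁ : Set G)) := by
  obtain ⟨s, -, rfl⟩ := h.quat_conjG e₁ e₂ h₁S h₂S
  rw [map_conj_normalizer, map_conj_centralizer, ← Subgroup.map_sup,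
    relIndex_map_map_of_injective _ _ (MulAut.conj s).injective]

/-- The normalisers of four-subgroups and of quaternion subgroups of order eight control fusion. -/
theorem fusion (Φ : G → G → Prop) (hrefl : ∀ a ∈ (S : Subgroup G), Φ a a)
    (htrans : ∀ a b c, Φ a b → Φ b c → Φ a c)
    (hS : ∀ a ∈ (S : Subgroup G), ∀ s ∈ (S : Subgroup G), Φ a (s⁻¹ * a * s))
    (hT : ∀ T : Subgroup G, T ≤ (S : Subgroup G) → IsKleinFour T →
      ∀ g ∈ normalizer (T : Set G), ∀ a ∈ T, Φ a (g⁻¹ * a * g))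
    (hQ : ∀ Q : Subgroup G, Q ≤ (S : Subgroup G) → Nonempty (Q ≃* QuaternionGroup 2) →
      ∀ g ∈ normalizer (Q : Set G), ∀ a ∈ Q, Φ a (g⁻¹ * a * g))
    {a g : G} (ha : a ∈ (S : Subgroup G)) (hag : g⁻¹ * a * g ∈ (S : Subgroup G)) :
    Φ a (g⁻¹ * a * g) := by
  have : Fact (Nat.Prime 2) := ⟨Nat.prime_two⟩
  refine fusion_relation S Φ hrefl htrans (fun H hH hcen hext x hx b hb => ?_) ha hag
  by_cases hA : IsPGroup 2 (MulAut H)
  · obtain ⟨-, s, hs, -, hsa⟩ := normalizer_le_actsLike_of_aut S.isPGroup' hext hA hx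
    rw [hsa b hb]
    exact hS b (hH hb) s hs
  have hC : centralizer ((H.subgroupOf (S : Subgroup G) : Subgroup _) : Set (S : Subgroup G))
      ≤ H.subgroupOf (S : Subgroup G) := fun c hc => hcen ⟨c.2, mem_centralizer_iff.mpr fun v hv =>
    congrArg Subtype.val (mem_centralizer_iff.mp hc ⟨v, hH hv⟩ hv)⟩
  have hA' : ¬ IsPGroup 2 (MulAut (H.subgroupOf (S : Subgroup G))) := fun hp =>
    hA (hp.of_equiv (MulAut.congr (subgroupOfEquivOfLe hH)))
  rcases h.classify hC hA' with hk | ⟨⟨e⟩⟩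
  · refine hT H hH (klein_of_card_exponent ?_ fun t ht => ?_) x hx b hb
    · rw [← Nat.card_congr (subgroupOfEquivOfLe hH).toEquiv]; exact hk.card_four
    · rw [sq]
      exact congrArg Subtype.val
        (klein_mul_self hk (t := ⟨t, hH ht⟩) ht)
  · exact hQ H hH ⟨(subgroupOfEquivOfLe hH).symm.trans e⟩ x hx b hb

/-- Every involution is conjugate to `z` or to `y`. -/
theorem conj_ord_two {t : G} (ht : orderOf t = 2) :
    IsConj t ((x ^ (4 * 2 ^ m : ℤ) : (S : Subgroup G)) : G) ∨ IsConj t (y : G) := by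
  have : Fact (Nat.Prime 2) := ⟨Nat.prime_two⟩
  obtain ⟨g, hg⟩ := exists_conj_le_sylow (IsPGroup.of_card (p := 2) (n := 1)
    (by rw [Nat.card_zpowers, ht, pow_one])) S (R := zpowers t)
  have htS := hg t (mem_zpowers t)
  have hc : IsConj t (g * t * g⁻¹) := isConj_iff.mpr ⟨g, rfl⟩
  rcases h.mem_ord_two ⟨_, htS⟩ (by rw [Subgroup.orderOf_mk, orderOf_conj, ht]) with e | ⟨k, e⟩
  · left; rwa [show g * t * g⁻¹ = _ from congrArg Subtype.val e] at hc
  · right
    refine hc.trans ?_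
    have h1 := (S : Subgroup G).subtype.map_isConj (h.isConj_out_of_dvd 0 k)
    rw [show g * t * g⁻¹ = _ from congrArg Subtype.val e]
    simpa using h1

/-- Every element of order four is conjugate to `w` or to `x * y`. -/
theorem conj_ord_four {t : G} (ht : orderOf t = 4) :
    IsConj t ((x ^ (2 * 2 ^ m : ℤ) : (S : Subgroup G)) : G) ∨
      IsConj t ((x ^ (1 : ℤ) * y : (S : Subgroup G)) : G) := by
  have : Fact (Nat.Prime 2) := ⟨Nat.prime_two⟩
  obtain ⟨g, hg⟩ := exists_conj_le_sylow (IsPGroup.of_card (p := 2) (n := 2)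
    (by rw [Nat.card_zpowers, ht]; norm_num)) S (R := zpowers t)
  have htS := hg t (mem_zpowers t)
  have hc : IsConj t (g * t * g⁻¹) := isConj_iff.mpr ⟨g, rfl⟩
  rcases h.mem_ord_four ⟨_, htS⟩ (by rw [Subgroup.orderOf_mk, orderOf_conj, ht]) with e | e | ⟨k, e⟩
  · left; rwa [show g * t * g⁻¹ = _ from congrArg Subtype.val e] at hc
  · left
    refine hc.trans ?_
    have h0 : IsConj (x ^ (-(2 * 2 ^ m) : ℤ)) (x ^ (2 * 2 ^ m : ℤ)) := isConj_iff.mpr ⟨y, by
      rw [show y = x ^ (0 : ℤ) * y by simp, h.out_conj_in, h.zpow_eq]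
      exact ⟨-(2 ^ m), by ring⟩⟩
    have h1 := (S : Subgroup G).subtype.map_isConj h0
    rw [show g * t * g⁻¹ = _ from congrArg Subtype.val e]
    exact h1
  · right
    refine hc.trans ?_
    have h1 := (S : Subgroup G).subtype.map_isConj (h.isConj_out_of_dvd 1 k)
    rw [show g * t * g⁻¹ = _ from congrArg Subtype.val e, add_comm (2 * k) 1]
    exact h1

theorem orderOf_zG : orderOf ((x ^ (4 * 2 ^ m : ℤ) : (S : Subgroup G)) : G) = 2 := by
  rw [Subgroup.orderOf_coe, h.orderOf_z]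

theorem orderOf_yG : orderOf (y : G) = 2 := by rw [Subgroup.orderOf_coe, h.oy]

theorem orderOf_wG : orderOf ((x ^ (2 * 2 ^ m : ℤ) : (S : Subgroup G)) : G) = 4 := by
  rw [Subgroup.orderOf_coe, h.orderOf_w]

theorem orderOf_bG : orderOf ((x ^ (1 : ℤ) * y : (S : Subgroup G)) : G) = 4 := by
  rw [Subgroup.orderOf_coe]
  exact h.orderOf_of_sq_eq_z (h.out_odd_sq 0)

theorem z_conj_y {T : Subgroup G} (hT : IsKleinFour T) (hTS : T ≤ (S : Subgroup G))
    (h6 : (centralizer (T : Set G)).relIndex (normalizer (T : Set G)) = 6) :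
    IsConj ((x ^ (4 * 2 ^ m : ℤ) : (S : Subgroup G)) : G) (y : G) := by
  obtain ⟨k, hz, ha, -⟩ := h.klein_exists hT hTS
  have h1 := (S : Subgroup G).subtype.map_isConj (h.isConj_out_of_dvd 0 k)
  refine (klein_isConj_of_relIndex hT (by omega) hz ha (ne_one_of_orderOf_eq_two h.orderOf_zG)
    (ne_one_of_orderOf_eq_two ?_)).trans (by simpa using h1)
  rw [Subgroup.orderOf_coe, h.orderOf_out_even]

theorem w_conj_b {Q : Subgroup G} (e : Q ≃* QuaternionGroup 2) (hQS : Q ≤ (S : Subgroup G))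
    (h6 : (Q ⊔ centralizer (Q : Set G)).relIndex (normalizer (Q : Set G)) = 6) :
    IsConj ((x ^ (2 * 2 ^ m : ℤ) : (S : Subgroup G)) : G)
      ((x ^ (1 : ℤ) * y : (S : Subgroup G)) : G) := by
  obtain ⟨i, hw, hb, -⟩ := h.quat_exists e hQS
  obtain ⟨i', j', hq⟩ := exists_qGen e
  have h1 := (S : Subgroup G).subtype.map_isConj (h.isConj_out_of_dvd 1 i)
  rw [add_comm 1 (2 * i)] at h1
  refine (hq.isConj_of_orderOf (by rw [h6]; norm_num) hw hb h.orderOf_wG ?_).trans h1
  rw [Subgroup.orderOf_coe]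
  exact h.orderOf_of_sq_eq_z (h.out_odd_sq i)

/-- The parity of a maximal subgroup is invariant under `S`. -/
theorem parity_conj (e : ℤ) {a s : G} (ha : a ∈ (S : Subgroup G)) (hs : s ∈ (S : Subgroup G)) :
    a ∈ (h.evenPart e).map (S : Subgroup G).subtype ↔
      s⁻¹ * a * s ∈ (h.evenPart e).map (S : Subgroup G).subtype := by
  have hn := normal_of_index_eq_two (h.index_evenPart e)
  have key : ∀ u : (S : Subgroup G), (u : G) ∈ (h.evenPart e).map (S : Subgroup G).subtype ↔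
      u ∈ h.evenPart e := fun u =>
    ⟨fun ⟨v, hv, hvu⟩ => (Subtype.ext hvu : v = u) ▸ hv, fun hu => ⟨u, hu, rfl⟩⟩
  rw [← Subgroup.coe_mk _ a ha, key, show s⁻¹ * a * s
    = (((⟨s, hs⟩ : (S : Subgroup G))⁻¹ * ⟨a, ha⟩ * ⟨s, hs⟩ : (S : Subgroup G)) : G) from rfl, key]
  constructor
  · intro hm; exact hn.conj_mem' _ hm (⟨s, hs⟩ : (S : Subgroup G))
  · intro hm
    have e1 := hn.conj_mem _ hm (⟨s, hs⟩ : (S : Subgroup G))
    convert e1 using 1
    group

/-- Invariance of a parity when the matching automiser is small. -/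
theorem parity_invariant (e : ℤ)
    (hT : e = 0 ∨ ∀ T : Subgroup G, T ≤ (S : Subgroup G) → IsKleinFour T →
      normalizer (T : Set G) ≤ actsLike (S : Subgroup G) T)
    (hQ : e = 1 ∨ ∀ Q : Subgroup G, Q ≤ (S : Subgroup G) → Nonempty (Q ≃* QuaternionGroup 2) →
      normalizer (Q : Set G) ≤ actsLike (S : Subgroup G) Q)
    {a g : G} (ha : a ∈ (S : Subgroup G)) (hag : g⁻¹ * a * g ∈ (S : Subgroup G)) :
    a ∈ (h.evenPart e).map (S : Subgroup G).subtype ↔
      g⁻¹ * a * g ∈ (h.evenPart e).map (S : Subgroup G).subtype := by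
  refine h.fusion (fun u v => (u ∈ (h.evenPart e).map (S : Subgroup G).subtype ↔
    v ∈ (h.evenPart e).map (S : Subgroup G).subtype)) (fun _ _ => Iff.rfl)
    (fun _ _ _ => Iff.trans) (fun _ hu _ hs => h.parity_conj e hu hs) ?_ ?_ ha hag
  · intro T hTS hT' x' hx b hb
    rcases hT with rfl | hT
    · obtain ⟨-, -, -, hmem⟩ := h.klein_exists hT' hTS
      obtain ⟨_, h1⟩ := hmem b hb
      obtain ⟨_, h2⟩ := hmem _ ((mem_normalizer_iff''.mp hx b).mp hb)
      exact iff_of_true ⟨_, h1, rfl⟩ ⟨_, h2, rfl⟩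
    · obtain ⟨-, s, hs, -, hsa⟩ := hT T hTS hT' hx
      rw [hsa b hb]; exact h.parity_conj e (hTS hb) hs
  · intro Q hQS hQ' x' hx b hb
    rcases hQ with rfl | hQ
    · obtain ⟨-, -, -, hmem, -⟩ := h.quat_exists hQ'.some hQS
      obtain ⟨_, h1⟩ := hmem b hb
      obtain ⟨_, h2⟩ := hmem _ ((mem_normalizer_iff''.mp hx b).mp hb)
      exact iff_of_true ⟨_, h1, rfl⟩ ⟨_, h2, rfl⟩
    · obtain ⟨-, s, hs, -, hsa⟩ := hQ Q hQS hQ' hx
      rw [hsa b hb]; exact h.parity_conj e (hQS hb) hs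

/-- The normal subgroup of index two cutting out a maximal subgroup. -/
theorem exists_index_two (e : ℤ)
    (hinv : ∀ (a g : G), a ∈ (S : Subgroup G) → g⁻¹ * a * g ∈ (S : Subgroup G) →
      (a ∈ (h.evenPart e).map (S : Subgroup G).subtype ↔
        g⁻¹ * a * g ∈ (h.evenPart e).map (S : Subgroup G).subtype)) :
    ∃ K : Subgroup G, K.Normal ∧ K.index = 2 ∧ K.subgroupOf (S : Subgroup G) = h.evenPart e := by
  have : Fact (Nat.Prime 2) := ⟨Nat.prime_two⟩
  have key : ∀ u : (S : Subgroup G), (u : G) ∈ (h.evenPart e).map (S : Subgroup G).subtype ↔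
      u ∈ h.evenPart e := fun u =>
    ⟨fun ⟨v, hv, hvu⟩ => (Subtype.ext hvu : v = u) ▸ hv, fun hu => ⟨u, hu, rfl⟩⟩
  obtain ⟨K, hK, hidx, hKS⟩ := exists_normal_of_invariant S (n := 1)
    (by simp [Nat.card_eq_fintype_card]) (indexTwoHom (h.index_evenPart e))
    (indexTwoHom_surjective _) fun a g ha hag => by
      rw [indexTwoHom_eq, ← key, ← key]
      exact (hinv a g ha hag).symm
  exact ⟨K, hK, by simpa using hidx, hKS.trans (ker_indexTwoHom _)⟩

/-- A four-subgroup through every noncentral involution of `S`. -/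
theorem klein_through {T : Subgroup G} (hT : IsKleinFour T) (hTS : T ≤ (S : Subgroup G)) (k : ℤ) :
    ∃ T' : Subgroup G, IsKleinFour T' ∧ T' ≤ (S : Subgroup G) ∧
      ((x ^ (2 * k) * y : (S : Subgroup G)) : G) ∈ T' ∧
      (centralizer (T' : Set G)).relIndex (normalizer (T' : Set G))
        = (centralizer (T : Set G)).relIndex (normalizer (T : Set G)) := by
  obtain ⟨k₀, -, ha, -⟩ := h.klein_exists hT hTS
  obtain ⟨s, hs⟩ := isConj_iff.mp (h.isConj_out_of_dvd (2 * k) (k₀ - k))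
  rw [show 2 * k + 2 * (k₀ - k) = 2 * k₀ by ring] at hs
  have hTS' : T.map (MulAut.conj (s : G)).toMonoidHom ≤ (S : Subgroup G) := by
    rintro _ ⟨t, ht, rfl⟩
    exact mul_mem (mul_mem s.2 (hTS ht)) (inv_mem s.2)
  have hT' : IsKleinFour (T.map (MulAut.conj (s : G)).toMonoidHom : Subgroup G) :=
    klein_of_card_exponent (by rw [card_map_conj]; exact hT.card_four) (by
      rintro _ ⟨t, ht, rfl⟩
      rw [← map_pow, sq, klein_mul_self hT ht, map_one])
  refine ⟨_, hT', hTS', ?_, h.klein_relIndex_eq hT hT' hTS hTS'⟩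
  rw [← hs]
  exact conj_mem_map_conj ha

/-- A quaternion subgroup of order eight through every odd element outside `⟨x⟩`. -/
theorem quat_through {Q : Subgroup G} (e : Q ≃* QuaternionGroup 2) (hQS : Q ≤ (S : Subgroup G))
    (k : ℤ) :
    ∃ Q' : Subgroup G, Nonempty (Q' ≃* QuaternionGroup 2) ∧ Q' ≤ (S : Subgroup G) ∧
      ((x ^ (2 * k + 1) * y : (S : Subgroup G)) : G) ∈ Q' ∧
      (Q' ⊔ centralizer (Q' : Set G)).relIndex (normalizer (Q' : Set G))
        = (Q ⊔ centralizer (Q : Set G)).relIndex (normalizer (Q : Set G)) := by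
  obtain ⟨i, -, hb, -⟩ := h.quat_exists e hQS
  obtain ⟨s, hs⟩ := isConj_iff.mp (h.isConj_out_of_dvd (2 * k + 1) (i - k))
  rw [show 2 * k + 1 + 2 * (i - k) = 2 * i + 1 by ring] at hs
  have hQS' : Q.map (MulAut.conj (s : G)).toMonoidHom ≤ (S : Subgroup G) := by
    rintro _ ⟨t, ht, rfl⟩
    exact mul_mem (mul_mem s.2 (hQS ht)) (inv_mem s.2)
  let e' := (Q.equivMapOfInjective (MulAut.conj (s : G)).toMonoidHom
    (MulAut.conj (s : G)).injective).symm.trans e
  refine ⟨_, ⟨e'⟩, hQS', ?_, h.quat_relIndex_eq e e' hQS hQS'⟩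
  rw [← hs]
  exact conj_mem_map_conj hb

/-- With a large automiser the noncentral involutions lie in every index-two subgroup of `K`. -/
theorem outs_even_mem {T : Subgroup G} (hT : IsKleinFour T) (hTS : T ≤ (S : Subgroup G))
    (h6 : (centralizer (T : Set G)).relIndex (normalizer (T : Set G)) = 6) {K : Subgroup G}
    (hKS : h.evenPart 0 ≤ K.subgroupOf (S : Subgroup G)) (hK : ∀ g : G, ∃ e : ℕ, g ^ (4 ^ e) ∈ K)
    {L : Subgroup K} (hL : L.index = 2) (k : ℤ) :
    ∀ u : K, (u : G) = ((x ^ (2 * k) * y : (S : Subgroup G)) : G) → u ∈ L := by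
  obtain ⟨T', hT', hTS', ha, he⟩ := h.klein_through hT hTS k
  have hTK : T' ≤ K := fun t ht => by
    obtain ⟨-, -, -, hmem⟩ := h.klein_exists hT' hTS'
    obtain ⟨_, h1⟩ := hmem t ht
    exact hKS h1
  intro u hu
  exact klein_le_of_index_two hT' hTK (by rw [he, h6]; norm_num) (fun g _ => hK g) hL u (hu ▸ ha)

/-- With a large automiser the odd elements outside `⟨x⟩` lie in every index-two subgroup of `K`. -/
theorem outs_odd_mem {Q : Subgroup G} (e : Q ≃* QuaternionGroup 2) (hQS : Q ≤ (S : Subgroup G))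
    (h6 : (Q ⊔ centralizer (Q : Set G)).relIndex (normalizer (Q : Set G)) = 6) {K : Subgroup G}
    (hKS : h.evenPart 1 ≤ K.subgroupOf (S : Subgroup G)) (hK : ∀ g : G, ∃ e : ℕ, g ^ (4 ^ e) ∈ K)
    {L : Subgroup K} (hL : L.index = 2) (k : ℤ) :
    ∀ u : K, (u : G) = ((x ^ (2 * k + 1) * y : (S : Subgroup G)) : G) → u ∈ L := by
  obtain ⟨Q', ⟨e'⟩, hQS', ha, he⟩ := h.quat_through e hQS k
  have hQK : Q' ≤ K := fun t ht => by
    obtain ⟨-, -, -, hmem, -⟩ := h.quat_exists e' hQS'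
    obtain ⟨_, h1⟩ := hmem t ht
    exact hKS h1
  obtain ⟨i, j, hq⟩ := exists_qGen e'
  intro u hu
  exact hq.le_of_index_two hQK (by rw [he, h6]; norm_num) (fun g _ => hK g) hL u (hu ▸ ha)

end SDGen

end Cfsg.Agent.H39
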