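import Cfsg.Agent.H39.SemiDihedralFusion
import Cfsg.Agent.H39.WreathFusion
import Cfsg.Agent.S1205
import Cfsg.Agent.S1210

/-!
The centralizer of a central involution in a group with quasi-dihedral or wreathed Sylow 2-subgroups
and no subgroup of index 2.
-/

namespace Cfsg.Agent.H39

universe u

open Subgroup

theorem WGen.map_equiv {A B : Type*} [Group A] [Group B] {m : ℕ} {x y z : A} (h : WGen m x y z)
    (e : A ≃* B) : WGen m (e x) (e y) (e z) where
  card := (Nat.card_congr e.toEquiv).symm.trans h.card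
  ox := by rw [MulEquiv.orderOf_eq]; exact h.ox
  comm := h.comm.map e
  disj := by
    rw [eq_bot_iff]
    rintro g ⟨⟨a, ha⟩, ⟨b, hb⟩⟩
    have e1 : x ^ a = y ^ b := e.injective (by
      rw [map_zpow, map_zpow]; exact ha.trans hb.symm)
    have e2 : x ^ a = 1 := mem_bot.mp (h.disj ▸ ⟨⟨a, rfl⟩, ⟨b, e1.symm⟩⟩)
    rw [mem_bot, ← show e x ^ a = g from ha, ← map_zpow, e2, map_one]
  oz := by rw [MulEquiv.orderOf_eq]; exact h.oz
  swap := by rw [← map_inv, ← map_mul, ← map_mul, h.swap]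

theorem SDGen.map_equiv {A B : Type*} [Group A] [Group B] {m : ℕ} {x y : A} (h : SDGen m x y)
    (e : A ≃* B) : SDGen m (e x) (e y) where
  card := (Nat.card_congr e.toEquiv).symm.trans h.card
  ox := by rw [MulEquiv.orderOf_eq]; exact h.ox
  oy := by rw [MulEquiv.orderOf_eq]; exact h.oy
  conj := by rw [← map_inv, ← map_mul, ← map_mul, h.conj, map_pow]

theorem SDGen.isQuasiDihedral {A : Type*} [Group A] {m : ℕ} {x y : A} (h : SDGen m x y) :
    Cfsg.IsQuasiDihedral A :=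
  ⟨m + 3, by omega, h.card, x, y, h.ox, h.oy, by
    rw [h.conj, show m + 3 - 1 = m + 2 by omega]⟩

theorem WGen.isWreathed {A : Type*} [Group A] {m : ℕ} {x y z : A} (h : WGen m x y z) :
    Cfsg.IsWreathed A :=
  ⟨m + 2, by omega, h.card, x, y, z, h.ox, h.comm, h.disj, h.oz, h.swap⟩

variable {G : Type u} [Group G] [Finite G]

/-- The conclusion asked for the centralizer. -/
def IsQGroupAt (C : Subgroup G) (c : ℕ) : Prop :=
  ∃ R : Sylow 2 ↥C, Nat.card R = c ∧
    (∃ K : Subgroup ↥C, K.Normal ∧ (∃ a : ℕ, K.index = 2 ^ a) ∧ (∀ H : Subgroup ↥K, H.index ≠ 2) ∧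
      (∀ P : Sylow 2 ↥K, ∃ m : ℕ, 1 ≤ m ∧
        Nonempty ((P : Subgroup ↥K) ≃* QuaternionGroup (2 ^ m)))) ∧
    ∀ Z₀ : Subgroup ↥C, Z₀ ≤ (center (R : Subgroup ↥C)).map (R : Subgroup ↥C).subtype →
      Cfsg.IsWeaklyClosed Z₀ (R : Subgroup ↥C)

theorem exists_index_two_of_normal {K : Subgroup G} [K.Normal] {n : ℕ}
    (hK : K.index = 2 ^ (n + 1)) : ∃ H : Subgroup G, H.index = 2 := by
  have : Fact (Nat.Prime 2) := ⟨Nat.prime_two⟩
  obtain ⟨W, hW⟩ := Sylow.exists_subgroup_card_pow_prime (G := G ⧸ K) 2 (n := n) (by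
    rw [← index_eq_card, hK]; exact pow_dvd_pow 2 (Nat.le_succ n))
  refine ⟨W.comap (QuotientGroup.mk' K), ?_⟩
  rw [index_comap_of_surjective _ (QuotientGroup.mk'_surjective K)]
  have e := W.index_mul_card
  rw [hW, ← index_eq_card, hK, pow_succ'] at e
  exact Nat.eq_of_mul_eq_mul_right (by positivity) e

/-- A local automiser modulo inner automorphisms may be computed in an overgroup of the normaliser. -/
theorem relIndex_subgroupOf_local {V C : Subgroup G} (hV : V ≤ C) (hN : normalizer (V : Set G) ≤ C) :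
    (V.subgroupOf C ⊔ centralizer ((V.subgroupOf C : Subgroup C) : Set C)).relIndex
        (normalizer ((V.subgroupOf C : Subgroup C) : Set C))
      = (V ⊔ centralizer (V : Set G)).relIndex (normalizer (V : Set G)) := by
  have hc : centralizer (V : Set G) ≤ C := (centralizer_le_normalizer _).trans hN
  have e1 : normalizer ((V.subgroupOf C : Subgroup C) : Set C)
      = (normalizer (V : Set G)).subgroupOf C := by
    ext g
    rw [mem_subgroupOf, mem_normalizer_iff, mem_normalizer_iff]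
    exact ⟨fun h u => ⟨fun hu => (h ⟨u, hV hu⟩).mp hu, fun hu => (h ⟨u, by
      have h1 := mul_mem (mul_mem (inv_mem g.2) (hV hu)) g.2
      rwa [show (g : G)⁻¹ * ((g : G) * u * (g : G)⁻¹) * (g : G) = u by group] at h1⟩).mpr hu⟩,
      fun h u => h u.1⟩
  have e2 : centralizer ((V.subgroupOf C : Subgroup C) : Set C)
      = (centralizer (V : Set G)).subgroupOf C := by
    ext g
    rw [mem_subgroupOf, mem_centralizer_iff, mem_centralizer_iff]
    exact ⟨fun h v hv => congrArg Subtype.val (h ⟨v, hV hv⟩ hv),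
      fun h v hv => Subtype.ext (h v.1 hv)⟩
  rw [e1, e2, ← subgroupOf_sup hV hc, relIndex_subgroupOf hN]

namespace WGen

variable {S : Sylow 2 G} {m : ℕ} {x y z : (S : Subgroup G)} (h : WGen m x y z)
include h

omit [Finite G] in
theorem exists_quat8 [Finite G] :
    ∃ Q : Subgroup G, Q ≤ (S : Subgroup G) ∧ Nonempty (Q ≃* QuaternionGroup 2) := by
  have hX := h.diffSub_exceptional (δ := 0) (dvd_zero _)
  obtain ⟨⟨e⟩, -⟩ := h.exc_inf_quat hX
  exact ⟨_, map_subtype_le _,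
    ⟨(equivMapOfInjective _ _ (Subgroup.subtype_injective _)).symm.trans e⟩⟩

/-- Without subgroups of index two both automisers have order six. -/
theorem six_of_no_index_two (hG : ∀ H : Subgroup G, H.index ≠ 2) :
    (centralizer (h.baseG : Set G)).relIndex (normalizer (h.baseG : Set G)) = 6 ∧
    ∀ Q : Subgroup G, Q ≤ (S : Subgroup G) → Nonempty (Q ≃* QuaternionGroup 2) →
      ((Q ⊔ h.centG) ⊔ centralizer ((Q ⊔ h.centG : Subgroup G) : Set G)).relIndex
        (normalizer ((Q ⊔ h.centG : Subgroup G) : Set G)) = 6 := by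
  refine ⟨h.base_relIndex_even.resolve_left fun h₁ => ?_, fun Q hQS ⟨eQ⟩ =>
    (h.exc_relIndex_even eQ hQS).resolve_left fun h₂ => ?_⟩
  · obtain ⟨K, hKn, hKi, -⟩ := h.exists_quat_kernel (h.base_acts_of_two h₁)
    obtain ⟨H, hH⟩ := exists_index_two_of_normal (n := m + 1) hKi
    exact hG H hH
  · obtain ⟨K, -, hK2, -⟩ := h.exists_index_two fun Q' hQ'S ⟨e⟩ => h.exc_acts_of_two e hQ'S
      ((h.exc_relIndex_conj (h.exc_sup_quat eQ hQS) (h.exc_sup_quat e hQ'S)).trans h₂)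
    exact hG K hK2

/-- Without subgroups of index two all involutions are conjugate. -/
theorem conj_C_of_no_index_two (hG : ∀ H : Subgroup G, H.index ≠ 2) {t : G} (ht : orderOf t = 2) :
    IsConj t ((x ^ (2 * 2 ^ m : ℤ) * y ^ (2 * 2 ^ m : ℤ) : (S : Subgroup G)) : G) := by
  obtain ⟨h6, h6'⟩ := h.six_of_no_index_two hG
  obtain ⟨Q, hQS, ⟨e⟩⟩ := h.exists_quat8
  rcases h.conj_ord_two ht with e1 | e1 | e1
  · exact e1.trans (h.A_conj_C h6)
  · exact e1
  · exact (e1.trans (h.A_conj_z e hQS (h6' Q hQS ⟨e⟩)).symm).trans (h.A_conj_C h6)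

theorem qGroupAt (hG : ∀ H : Subgroup G, H.index ≠ 2) :
    IsQGroupAt (centralizer
      ({((x ^ (2 * 2 ^ m : ℤ) * y ^ (2 * 2 ^ m : ℤ) : (S : Subgroup G)) : G)} : Set G))
      (Nat.card S) := by
  set d : (S : Subgroup G) := x ^ (2 * 2 ^ m : ℤ) * y ^ (2 * 2 ^ m : ℤ) with hd
  set C := centralizer ({(d : G)} : Set G) with hC
  have hdc : (d : G) ∈ h.centG := h.mem_centG.mpr (h.in_mem_center.mpr (by simp))
  have hSC : (S : Subgroup G) ≤ C := fun s hs =>
    mem_centralizer_singleton_iff.mpr (h.centG_comm hdc hs).symm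
  have hd2 : orderOf d = 2 := by rw [← Subgroup.orderOf_coe]; exact h.orderOf_CG
  have hdS : (d : G) ∈ (S : Subgroup G) := d.2
  let SC : Sylow 2 C := S.subtype hSC
  let f : (S : Subgroup G) ≃* (SC : Subgroup C) := (subgroupOfEquivOfLe hSC).symm
  have hw := h.map_equiv f
  obtain ⟨Q, hQS, ⟨eQ⟩⟩ := h.exists_quat8
  have eQC : Q.subgroupOf C ≃* QuaternionGroup 2 :=
    (subgroupOfEquivOfLe (hQS.trans hSC)).trans eQ
  have hQSC : Q.subgroupOf C ≤ (SC : Subgroup C) := fun v hv => hQS hv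
  -- the base automiser is small inside `C`
  have h1 : (centralizer (hw.baseG : Set C)).relIndex (normalizer (hw.baseG : Set C)) = 2 := by
    refine hw.base_relIndex_even.resolve_right fun h6 => ?_
    obtain ⟨g, hg⟩ := isConj_iff.mp (hw.A_conj_C h6).symm
    have hcen : (g : G) * d = d * g := (mem_centralizer_singleton_iff.mp g.2)
    have e := congrArg Subtype.val hg
    simp only [← map_zpow, ← map_mul] at e
    change (g : G) * (d : G) * (g : G)⁻¹ = ((x ^ (2 * 2 ^ m : ℤ) * y ^ (0 : ℤ) : (S : Subgroup G)) : G) at e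
    rw [hcen, mul_inv_cancel_right, hd] at e
    exact h.half_not_dvd (by simpa using (h.pq_eq.mp (Subtype.ext e)).2)
  -- the exceptional automiser is unchanged
  have hV : (Q ⊔ h.centG).subgroupOf C = Q.subgroupOf C ⊔ hw.centG := by
    rw [subgroupOf_sup (hQS.trans hSC) (h.centG_le.trans hSC)]
    congr 1
    ext v
    constructor
    · rintro ⟨t, ht, hv⟩
      refine ⟨f t, mem_center_iff.mpr fun w => ?_, Subtype.ext hv⟩
      obtain ⟨w, rfl⟩ := f.surjective w
      rw [← map_mul, ← map_mul, mem_center_iff.mp ht w]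
    · rintro ⟨w, hw', rfl⟩
      obtain ⟨t, rfl⟩ := f.surjective w
      refine ⟨t, mem_center_iff.mpr fun u => f.injective ?_, rfl⟩
      rw [map_mul, map_mul]
      exact mem_center_iff.mp hw' (f u)
  have h2 : ((Q.subgroupOf C ⊔ hw.centG) ⊔
      centralizer ((Q.subgroupOf C ⊔ hw.centG : Subgroup C) : Set C)).relIndex
      (normalizer ((Q.subgroupOf C ⊔ hw.centG : Subgroup C) : Set C)) = 6 := by
    rw [← hV, relIndex_subgroupOf_local (sup_le (hQS.trans hSC) (h.centG_le.trans hSC)) ?_]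
    · exact (h.six_of_no_index_two hG).2 Q hQS ⟨eQ⟩
    · intro g hg
      exact mem_centralizer_singleton_iff.mpr
        (mem_centralizer_iff.mp (h.exc_normalizer_le_centralizer eQ hQS hg) _ hdc).symm
  obtain ⟨⟨K, hKn, hKi, hKP, hKH⟩, hwc, -⟩ :=
    Cfsg.Agent.S1210.result SC hw.isWreathed (m + 2) hw.card hw.baseG hw.baseG_le
      ⟨⟨fun a b => Subtype.ext (hw.baseG_comm a.2 b.2)⟩⟩ hw.card_baseG (Q.subgroupOf C) hQSC eQC
      h1 h2
  exact ⟨SC, Nat.card_congr f.symm.toEquiv, ⟨K, hKn, ⟨_, hKi⟩, hKH, hKP⟩, hwc⟩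

end WGen

namespace SDGen

variable {S : Sylow 2 G} {m : ℕ} {x y : (S : Subgroup G)} (h : SDGen m x y)
include h

/-- A quaternion subgroup of order eight. -/
def quad : Subgroup (S : Subgroup G) where
  carrier := {g | (∃ i : ℤ, g = x ^ i ∧ (2 * 2 ^ m : ℤ) ∣ i) ∨
    ∃ i : ℤ, g = x ^ i * y ∧ (2 * 2 ^ m : ℤ) ∣ i - 1}
  one_mem' := Or.inl ⟨0, by simp⟩
  mul_mem' := by
    rintro g g' (⟨a, rfl, h1⟩ | ⟨a, rfl, h1⟩) (⟨b, rfl, h2⟩ | ⟨b, rfl, h2⟩)
    · exact Or.inl ⟨_, (zpow_add x a b).symm, h1.add h2⟩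
    · exact Or.inr ⟨_, in_mul_out a b, dvd_of_eq' (h1.add h2) (by ring)⟩
    · exact Or.inr ⟨_, h.out_mul_in a b,
        dvd_of_eq' (h1.add (h2.mul_right (4 * 2 ^ m - 1 : ℤ))) (by ring)⟩
    · exact Or.inl ⟨_, h.out_mul_out a b,
        dvd_of_eq' ((h1.sub h2).add (dvd_mul_of_dvd_right (dvd_mul_right (2 * 2 ^ m : ℤ) 2) b))
          (by ring)⟩
  inv_mem' := by
    rintro g (⟨a, rfl, h1⟩ | ⟨a, rfl, h1⟩)
    · exact Or.inl ⟨-a, (zpow_neg x a).symm, h1.neg_right⟩
    · exact Or.inr ⟨_, h.out_inv a,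
        dvd_of_eq' (h1.sub (dvd_mul_of_dvd_right (dvd_mul_right (2 * 2 ^ m : ℤ) 2) a)) (by ring)⟩

theorem exists_quat8 : ∃ Q : Subgroup G, Q ≤ (S : Subgroup G) ∧ Nonempty (Q ≃* QuaternionGroup 2) := by
  set w := x ^ (2 * 2 ^ m : ℤ) with hw
  have hwQ : w ∈ h.quad := Or.inl ⟨_, rfl, dvd_rfl⟩
  have hbQ : x ^ (1 : ℤ) * y ∈ h.quad := Or.inr ⟨_, rfl, by simp⟩
  have hn : ¬ h.quad ≤ zpowers x := fun hle => by
    obtain ⟨j, hj⟩ := hle hbQ
    exact h.out_ne_in _ _ hj.symm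
  have hcap : h.quad ⊓ zpowers x = zpowers w := by
    refine le_antisymm ?_ (zpowers_le.mpr ⟨hwQ, ⟨_, rfl⟩⟩)
    rintro g ⟨(⟨i, rfl, ⟨c, rfl⟩⟩ | ⟨i, rfl, -⟩), hgx⟩
    · exact ⟨c, (zpow_mul x _ c).symm⟩
    · obtain ⟨j, hj⟩ := hgx
      exact absurd hj.symm (h.out_ne_in _ _)
  obtain ⟨e⟩ : Nonempty (h.quad ≃* QuaternionGroup 2) := by
    refine Cfsg.Agent.PGroups.nonempty_mulEquiv_quaternion (c := ⟨w, hwQ⟩)
      (y := ⟨x ^ (1 : ℤ) * y, hbQ⟩) ?_ ?_ ?_ ?_ ?_
    · rw [Subgroup.orderOf_mk, h.orderOf_w]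
    · rintro ⟨k, hk⟩
      have e := congrArg Subtype.val hk
      simp only [SubgroupClass.coe_zpow, hw, ← zpow_mul] at e
      exact h.out_ne_in _ _ e.symm
    · apply Subtype.ext
      simp only [Subgroup.coe_pow, pow_two]
      show x ^ (1 : ℤ) * y * (x ^ (1 : ℤ) * y) = w * w
      rw [h.out_sq, hw, ← zpow_add, h.zpow_eq]
      exact ⟨0, by ring⟩
    · apply Subtype.ext
      simp only [Subgroup.coe_mul, Subgroup.coe_inv]
      show x ^ (1 : ℤ) * y * w * (x ^ (1 : ℤ) * y)⁻¹ = w⁻¹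
      rw [hw, h.out_conj_in, ← zpow_neg, h.zpow_eq]
      exact ⟨2 ^ m, by ring⟩
    · rw [card_eq_two_mul_inf h.index_zpowers hn, hcap, Nat.card_zpowers, h.orderOf_w]
  exact ⟨_, map_subtype_le _,
    ⟨(equivMapOfInjective _ _ (Subgroup.subtype_injective _)).symm.trans e⟩⟩

theorem exists_klein : ∃ T : Subgroup G, T ≤ (S : Subgroup G) ∧ IsKleinFour T := by
  obtain ⟨T, hT, hTm⟩ := klein_mk h.orderOf_zG h.orderOf_yG
    (fun e => h.out_ne_in 0 (4 * 2 ^ m) (by rw [zpow_zero, one_mul]; exact (Subtype.ext e).symm))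
    (congrArg Subtype.val (h.z_central y)).symm
  refine ⟨T, fun g hg => ?_, hT⟩
  rcases (hTm g).mp hg with rfl | rfl | rfl | rfl
  exacts [one_mem _, SetLike.coe_mem _, y.2, mul_mem (SetLike.coe_mem _) y.2]

/-- Without subgroups of index two both automisers have order six. -/
theorem six_of_no_index_two (hG : ∀ H : Subgroup G, H.index ≠ 2) {T Q : Subgroup G}
    (hTS : T ≤ (S : Subgroup G)) (hT : IsKleinFour T) (hQS : Q ≤ (S : Subgroup G))
    (eQ : Q ≃* QuaternionGroup 2) :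
    (centralizer (T : Set G)).relIndex (normalizer (T : Set G)) = 6 ∧
      (Q ⊔ centralizer (Q : Set G)).relIndex (normalizer (Q : Set G)) = 6 := by
  refine ⟨(h.klein_relIndex_even hT hTS).resolve_left fun h₁ => ?_,
    (h.quat_relIndex_even eQ hQS).resolve_left fun h₂ => ?_⟩
  · obtain ⟨K, -, hK2, -⟩ := h.exists_index_two 1 fun a g ha hag =>
      h.parity_invariant 1 (Or.inr fun T' hT'S hT' => h.klein_acts_of_two hT' hT'S
        ((h.klein_relIndex_eq hT hT' hTS hT'S).trans h₁)) (Or.inl rfl) ha hag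
    exact hG K hK2
  · obtain ⟨K, -, hK2, -⟩ := h.exists_index_two 0 fun a g ha hag =>
      h.parity_invariant 0 (Or.inl rfl) (Or.inr fun Q' hQ'S ⟨e⟩ => h.quat_acts_of_two e hQ'S
        ((h.quat_relIndex_eq eQ e hQS hQ'S).trans h₂)) ha hag
    exact hG K hK2

theorem conj_z_of_no_index_two (hG : ∀ H : Subgroup G, H.index ≠ 2) {t : G} (ht : orderOf t = 2) :
    IsConj t ((x ^ (4 * 2 ^ m : ℤ) : (S : Subgroup G)) : G) := by
  obtain ⟨T, hTS, hT⟩ := h.exists_klein
  obtain ⟨Q, hQS, ⟨eQ⟩⟩ := h.exists_quat8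
  exact (h.conj_ord_two ht).elim id fun e =>
    e.trans (h.z_conj_y hT hTS (h.six_of_no_index_two hG hTS hT hQS eQ).1).symm

theorem qGroupAt (hG : ∀ H : Subgroup G, H.index ≠ 2) :
    IsQGroupAt (centralizer ({((x ^ (4 * 2 ^ m : ℤ) : (S : Subgroup G)) : G)} : Set G))
      (Nat.card S) := by
  set d : (S : Subgroup G) := x ^ (4 * 2 ^ m : ℤ) with hd
  set C := centralizer ({(d : G)} : Set G) with hC
  have hSC : (S : Subgroup G) ≤ C := fun s hs =>
    mem_centralizer_singleton_iff.mpr (congrArg Subtype.val (h.z_central ⟨s, hs⟩))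
  let SC : Sylow 2 C := S.subtype hSC
  let f : (S : Subgroup G) ≃* (SC : Subgroup C) := (subgroupOfEquivOfLe hSC).symm
  have hw := h.map_equiv f
  obtain ⟨T, hTS, hT⟩ := h.exists_klein
  obtain ⟨Q, hQS, ⟨eQ⟩⟩ := h.exists_quat8
  have eQC : Q.subgroupOf C ≃* QuaternionGroup 2 :=
    (subgroupOfEquivOfLe (hQS.trans hSC)).trans eQ
  have hQSC : Q.subgroupOf C ≤ (SC : Subgroup C) := fun v hv => hQS hv
  have hTC : IsKleinFour (T.subgroupOf C) := klein_of_card_exponent
    (by rw [Nat.card_congr (subgroupOfEquivOfLe (hTS.trans hSC)).toEquiv]; exact hT.card_four)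
    fun t ht => Subtype.ext (by rw [SubgroupClass.coe_pow, sq]; exact klein_mul_self hT ht)
  have hTSC : T.subgroupOf C ≤ (SC : Subgroup C) := fun v hv => hTS hv
  have h1 : (centralizer (T.subgroupOf C : Set C)).relIndex
      (normalizer (T.subgroupOf C : Set C)) = 2 := by
    refine (hw.klein_relIndex_even hTC hTSC).resolve_right fun h6 => ?_
    obtain ⟨g, hg⟩ := isConj_iff.mp (hw.z_conj_y hTC hTSC h6)
    have hcen : (g : G) * d = d * g := (mem_centralizer_singleton_iff.mp g.2)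
    have e := congrArg Subtype.val hg
    simp only [← map_zpow] at e
    change (g : G) * (d : G) * (g : G)⁻¹ = (y : G) at e
    rw [hcen, mul_inv_cancel_right, hd] at e
    exact h.out_ne_in 0 (4 * 2 ^ m) (by rw [zpow_zero, one_mul]; exact (Subtype.ext e).symm)
  have h2 : (Q.subgroupOf C ⊔ centralizer (Q.subgroupOf C : Set C)).relIndex
      (normalizer (Q.subgroupOf C : Set C)) = 6 := by
    rw [relIndex_subgroupOf_local (hQS.trans hSC) ?_]
    · exact (h.six_of_no_index_two hG hTS hT hQS eQ).2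
    · intro g hg
      obtain ⟨i, hw', -, -, hord⟩ := h.quat_exists eQ hQS
      have hdQ : (d : G) ∈ Q := by
        have := mul_mem hw' hw'
        rwa [← Subgroup.coe_mul, ← zpow_add, show (2 * 2 ^ m + 2 * 2 ^ m : ℤ) = 4 * 2 ^ m by ring]
          at this
      have e := hord _ ((mem_normalizer_iff.mp hg _).mp hdQ) ((orderOf_conj g _).trans h.orderOf_zG)
      exact mem_centralizer_singleton_iff.mpr (mul_inv_eq_iff_eq_mul.mp e)
  obtain ⟨⟨K, hKn, hKi, hKP, hKH⟩, hwc, -, -⟩ :=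
    Cfsg.Agent.S1205.result SC hw.isQuasiDihedral (T.subgroupOf C) hTC hTSC (Q.subgroupOf C) hQSC
      eQC h1 h2
  refine ⟨SC, Nat.card_congr f.symm.toEquiv, ⟨K, hKn, ⟨1, by rw [hKi, pow_one]⟩, hKH, hKP⟩,
    fun Z₀ hZ₀ => ?_⟩
  have hdvd : Nat.card Z₀ ∣ 2 := by
    refine (card_dvd_of_le hZ₀).trans ?_
    rw [card_map_of_injective (Subgroup.subtype_injective _), hw.card_center]
  rcases (Nat.dvd_prime Nat.prime_two).mp hdvd with e | e
  · rw [Subgroup.card_eq_one.mp e]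
    exact ⟨bot_le, fun g _ => Subgroup.map_bot _⟩
  · rw [Subgroup.eq_of_le_of_card_ge hZ₀ (by
      rw [card_map_of_injective (Subgroup.subtype_injective _), hw.card_center, e])]
    exact hwc

end SDGen

end Cfsg.Agent.H39
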