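import Cfsg.Agent.H36.OrderScreen
import Cfsg.Agent.H36.TwoSylow
import Cfsg.Agent.H36.FullNormalizer
import Cfsg.Agent.H36.OrderExceptions

/-!
# The orders up to 1092
-/

set_option autoImplicit false
set_option maxRecDepth 100000
set_option linter.style.haveILetI false

namespace Cfsg.Agent.H39.OrderScreenLow

open Cfsg.Agent.H36 Cfsg.Agent.H36.OrderScreen Subgroup

/-- Orders with no admissible number of Sylow `p`-subgroups. -/
def sylowTable : List (ℕ × ℕ) :=
  [(84, 7), (156, 13), (204, 17), (228, 19), (276, 23), (300, 5), (312, 13), (348, 29), (372, 31),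
   (408, 17), (444, 37), (456, 19), (468, 13), (492, 41), (516, 43), (564, 47), (588, 7),
   (600, 5), (624, 13), (636, 53), (684, 19), (696, 29), (708, 59), (728, 7), (732, 61),
   (744, 31), (780, 13), (804, 67), (816, 17), (828, 23), (852, 71), (876, 73), (880, 11),
   (888, 37), (912, 19), (936, 13), (945, 3), (948, 79), (952, 7), (984, 41), (996, 83),
   (1020, 17), (1032, 43), (1044, 29), (1064, 7), (1068, 89)]

/-- Orders excluded by the degree equation for the prime `p`. -/
def blockTable : List (ℕ × ℕ) :=
  [(120, 3), (132, 3), (180, 5), (240, 5), (252, 7), (264, 3), (280, 5), (336, 7), (396, 11),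
   (420, 5), (480, 3), (528, 3), (540, 5), (552, 3), (560, 5), (612, 17), (616, 7), (672, 7),
   (756, 7), (792, 11), (840, 5), (924, 3), (1008, 7), (1040, 5), (1056, 3), (1080, 5)]

/-- The orders left by the screen. -/
def remainingOrders : List ℕ :=
  [60, 168, 360, 504, 660, 720, 900, 960, 1092]

/-- `n` is excluded, or listed. -/
def covered (n : ℕ) : Bool :=
  divFails n || twoPrimes n || remainingOrders.contains n || (sylowTable.map Prod.fst).contains n ||
    (blockTable.map Prod.fst).contains n

theorem covered_all : (List.range' 1 1092).all covered = true := by decide +kernel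

theorem sylowTable_spec : sylowTable.all (fun x => sylowFails x.1 x.2) = true := by decide +kernel

theorem blockTable_spec : blockTable.all (fun x => blockFails x.1 x.2) = true := by decide +kernel

theorem blockOnly_720 :
    blockOnly 720 5 (fun _ => true) (fun r c => r == 4 && c == 1) = true := by decide +kernel

theorem search_720 : ∀ c ∈ divProds [16, 9, 5],
    FullNormalizer.search 720 5 c (divProds [16, 9, 5]) = true := by decide +kernel

variable {G : Type*} [Group G] [Finite G] [IsSimpleGroup G]

theorem false_of_card_900 (hG : ¬ IsMulCommutative G) (hn : Nat.card G = 900) : False := by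
  haveI : Fact (Nat.Prime 5) := ⟨by norm_num⟩
  refine false_of_two_sylow_small hG (p := 5) (a := 1) (m := 36) (by rw [hn]; norm_num)
    (by norm_num) one_ne_zero (OrderExceptions.not_modEq hG (a := 1) (m := 36)
      (by rw [hn]; norm_num) (by norm_num) (by norm_num) ?_) ?_
  · rw [hn]; decide +kernel
  · rw [hn]; decide +kernel

theorem false_of_card_960 (hG : ¬ IsMulCommutative G) (hn : Nat.card G = 960) : False := by
  haveI : Fact (Nat.Prime 2) := ⟨Nat.prime_two⟩
  refine false_of_two_sylow_small hG (p := 2) (a := 5) (m := 15) (by rw [hn]; norm_num)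
    (by norm_num) (by norm_num) (OrderExceptions.not_modEq hG (a := 5) (m := 15)
      (by rw [hn]; norm_num) (by norm_num) (by norm_num) ?_) ?_
  · rw [hn]; decide +kernel
  · rw [hn]; decide +kernel

theorem false_of_card_720 (hG : ¬ IsMulCommutative G) (hn : Nat.card G = 720) : False := by
  haveI := Fintype.ofFinite G
  haveI : Fact (Nat.Prime 5) := ⟨by norm_num⟩
  haveI : Fact (Nat.Prime 2) := ⟨Nat.prime_two⟩
  obtain ⟨P, r, c, hP, hr, hc, hskip⟩ := exists_of_blockOnly hG (by omega) (fun _ => true)
    (fun _ _ _ _ => rfl) (fun r c => r == 4 && c == 1) (by rw [hn]; exact blockOnly_720)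
  simp only [Bool.and_eq_true, beq_iff_eq] at hskip
  obtain ⟨rfl, rfl⟩ := hskip
  have hC := OrderExceptions.centralizer_eq_self hP hc
  have hN : Nat.card (normalizer ((P : Subgroup G) : Set G)) = 5 * 4 := by
    rw [card_normalizer_eq_mul, hr, hc]
  rw [hC] at hr
  obtain ⟨⟨u, huN⟩, hu'⟩ := exists_prime_orderOf_dvd_card'
    (G := normalizer ((P : Subgroup G) : Set G)) 2 (by rw [hN]; norm_num)
  have hu : orderOf u = 2 := by rw [← hu']; exact (orderOf_mk u huN).symm
  have hu1 : u ≠ 1 := fun h => by rw [h, orderOf_one] at hu; omega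
  have huu : u * u = 1 := by rw [← pow_two, ← hu, pow_orderOf_eq_one]
  have hdiv : ∀ d, d ∣ 720 → d ∈ divProds [16, 9, 5] := fun d hd =>
    mem_divProds _ (by simp) d (by simpa using hd)
  exact FullNormalizer.false_of_search hG hP hC hr (by norm_num) huu hu1 huN hn rfl _ hdiv
    (search_720 _ (hdiv _ (hn ▸ card_subgroup_dvd_card _)))

end Cfsg.Agent.H39.OrderScreenLow
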