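import Cfsg.Prelude.Def_CaseTheorems
import Cfsg.Agent.H39.Basic
import Cfsg.Agent.H39.Dihedral
import Mathlib.Algebra.Order.Ring.Int
import Mathlib.Tactic.LinearCombination
import Mathlib.Tactic.Linarith

/-!
Calculus in a quasi-dihedral (semidihedral) 2-group of order `2 ^ (m + 4)` with generators `x`, `y`.
Exponents are integers and `M = 2 ^ m`, so `x` has order `8 M` and `y x y⁻¹ = x ^ (4 M - 1)`.
-/

namespace Cfsg.Agent.H39

variable {S : Type*} [Group S]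

/-- Generators of a quasi-dihedral group. -/
structure SDGen (m : ℕ) (x y : S) : Prop where
  card : Nat.card S = 2 ^ (m + 4)
  ox : orderOf x = 2 ^ (m + 3)
  oy : orderOf y = 2
  conj : y * x * y⁻¹ = x ^ (2 ^ (m + 2) - 1)

theorem exists_sdGen (hS : Cfsg.IsQuasiDihedral S) : ∃ (m : ℕ) (x y : S), SDGen m x y := by
  obtain ⟨n, hn, hc, x, y, hx, hy, hxy⟩ := hS
  obtain ⟨m, rfl⟩ : ∃ m, n = m + 3 := ⟨n - 3, by omega⟩
  exact ⟨m, x, y, hc, hx, hy, by rw [hxy, show m + 3 - 1 = m + 2 by omega]⟩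

namespace SDGen

variable {m : ℕ} {x y : S} (h : SDGen m x y)
include h

theorem zpow_eq {a b : ℤ} : x ^ a = x ^ b ↔ (8 * 2 ^ m : ℤ) ∣ a - b := by
  rw [zpow_eq_zpow_iff_modEq, h.ox, Int.modEq_iff_dvd, ← dvd_neg, neg_sub]
  rw [show ((2 ^ (m + 3) : ℕ) : ℤ) = 8 * 2 ^ m by push_cast; ring]

theorem conj_zpow_x (i : ℤ) : y * x ^ i * y⁻¹ = x ^ (i * (4 * 2 ^ m - 1)) := by
  rw [← conj_zpow, h.conj, ← zpow_natCast, ← zpow_mul]
  congr 1
  rw [Nat.cast_sub (Nat.one_le_two_pow)]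
  push_cast
  ring

theorem y_mul_self : y * y = 1 := mul_self_of_orderOf_eq_two h.oy

theorem y_zpow (i : ℤ) : y * x ^ i = x ^ (i * (4 * 2 ^ m - 1)) * y := by
  rw [← h.conj_zpow_x, inv_mul_cancel_right]

theorem out_mul_out (i j : ℤ) : x ^ i * y * (x ^ j * y) = x ^ (i + j * (4 * 2 ^ m - 1)) := by
  calc x ^ i * y * (x ^ j * y) = x ^ i * (y * x ^ j) * y := by simp [mul_assoc]
    _ = x ^ i * x ^ (j * (4 * 2 ^ m - 1)) * (y * y) := by rw [h.y_zpow]; simp [mul_assoc]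
    _ = _ := by rw [h.y_mul_self, mul_one, ← zpow_add]

theorem out_mul_in (i j : ℤ) : x ^ i * y * x ^ j = x ^ (i + j * (4 * 2 ^ m - 1)) * y := by
  rw [mul_assoc, h.y_zpow, ← mul_assoc, ← zpow_add]

omit h in
theorem in_mul_out (i j : ℤ) : x ^ i * (x ^ j * y) = x ^ (i + j) * y := by
  rw [← mul_assoc, ← zpow_add]

theorem out_ne_in (i j : ℤ) : x ^ i * y ≠ x ^ j := by
  intro e
  have e1 : y = x ^ (j - i) := by
    calc y = x ^ (-i) * (x ^ i * y) := by simp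
      _ = _ := by rw [e, ← zpow_add, neg_add_eq_sub]
  have h1 := h.conj_zpow_x 1
  rw [one_mul, zpow_one, e1, ← zpow_neg] at h1
  have h2 : x ^ (1 : ℤ) = x ^ (4 * 2 ^ m - 1 : ℤ) := by
    rw [← h1, zpow_neg, ((Commute.refl x).zpow_left _).eq, mul_inv_cancel_right, zpow_one]
  rw [h.zpow_eq] at h2
  obtain ⟨c, hc⟩ := h2
  have hM : (0 : ℤ) < 2 ^ m := by positivity
  rcases m with _ | k
  · norm_num at hc; omega
  · rw [pow_succ] at hc
    have : (1 : ℤ) = 2 * (4 * 2 ^ k * c + 2 * 2 ^ k) := by linarith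
    omega

theorem out_eq_out {i j : ℤ} : x ^ i * y = x ^ j * y ↔ (8 * 2 ^ m : ℤ) ∣ i - j := by
  rw [mul_left_inj, h.zpow_eq]

theorem out_inv (i : ℤ) : (x ^ i * y)⁻¹ = x ^ (-i * (4 * 2 ^ m - 1)) * y := by
  rw [mul_inv_rev, ← zpow_neg, inv_eq_of_orderOf_eq_two h.oy, h.y_zpow]

theorem index_zpowers : (Subgroup.zpowers x).index = 2 := by
  have e := (Subgroup.zpowers x).index_mul_card
  rw [Nat.card_zpowers, h.ox, h.card, show 2 ^ (m + 4) = 2 * 2 ^ (m + 3) by ring] at e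
  exact Nat.eq_of_mul_eq_mul_right (by positivity) e

theorem cases_elem (g : S) : (∃ i : ℤ, g = x ^ i) ∨ ∃ i : ℤ, g = x ^ i * y := by
  by_cases hg : g ∈ Subgroup.zpowers x
  · obtain ⟨i, hi⟩ := hg; exact Or.inl ⟨i, hi.symm⟩
  · have hy : y ∉ Subgroup.zpowers x := by
      rintro ⟨i, hi⟩
      exact h.out_ne_in 0 i (by simpa using hi.symm)
    have hgy : g * y ∈ Subgroup.zpowers x := by
      rw [Subgroup.mul_mem_iff_of_index_two h.index_zpowers]; tauto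
    obtain ⟨i, hi⟩ := hgy
    exact Or.inr ⟨i, ((congrArg (· * y) hi).trans (by simp [mul_assoc, h.y_mul_self])).symm⟩

theorem out_sq (i : ℤ) : (x ^ i * y) * (x ^ i * y) = x ^ (i * (4 * 2 ^ m)) := by
  rw [h.out_mul_out]; congr 1; ring

theorem conj_out (j i : ℤ) : x ^ j * (x ^ i * y) * (x ^ j)⁻¹ = x ^ (i + j * (2 - 4 * 2 ^ m)) * y := by
  rw [in_mul_out, ← zpow_neg, h.out_mul_in]; congr 2; ring

theorem out_conj_in (i j : ℤ) : (x ^ i * y) * x ^ j * (x ^ i * y)⁻¹ = x ^ (j * (4 * 2 ^ m - 1)) := by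
  rw [mul_inv_rev, ← h.conj_zpow_x]
  calc x ^ i * y * x ^ j * (y⁻¹ * (x ^ i)⁻¹) = x ^ i * (y * x ^ j * y⁻¹) * (x ^ i)⁻¹ := by
        simp [mul_assoc]
    _ = _ := by rw [h.conj_zpow_x, ((Commute.refl x).zpow_zpow i _).eq, mul_inv_cancel_right]

omit h in
/-- `8 M ∣ j (2 - 4 M) ↔ 4 M ∣ j`. -/
theorem dvd_shift {M j : ℤ} : 8 * M ∣ j * (2 - 4 * M) ↔ 4 * M ∣ j := by
  constructor
  · rintro ⟨c, hc⟩
    have h2 : j * (1 - 2 * M) = 4 * M * c := by linarith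
    exact ⟨c * (1 + 2 * M) + M * j, by linear_combination (1 + 2 * M) * h2⟩
  · rintro ⟨c, rfl⟩
    exact ⟨c * (1 - 2 * M), by ring⟩

theorem mem_ord_two (g : S) (hg : orderOf g = 2) :
    g = x ^ (4 * 2 ^ m : ℤ) ∨ ∃ k : ℤ, g = x ^ (2 * k) * y := by
  have h2 := mul_self_of_orderOf_eq_two hg
  rcases h.cases_elem g with ⟨i, rfl⟩ | ⟨i, rfl⟩
  · left
    rw [← zpow_add, ← zpow_zero x, h.zpow_eq] at h2
    obtain ⟨c, hc⟩ := h2
    rcases Int.even_or_odd c with ⟨d, hd⟩ | ⟨d, hd⟩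
    · exfalso
      apply ne_one_of_orderOf_eq_two hg
      rw [← zpow_zero x, h.zpow_eq]
      exact ⟨d, by subst hd; linarith⟩
    · rw [h.zpow_eq]
      exact ⟨d, by subst hd; linarith⟩
  · right
    rw [h.out_sq, ← zpow_zero x, h.zpow_eq] at h2
    obtain ⟨c, hc⟩ := h2
    exact ⟨c, by
      congr 2
      have hM : (4 * 2 ^ m : ℤ) ≠ 0 := by positivity
      apply mul_right_cancel₀ hM
      linarith⟩

theorem orderOf_z : orderOf (x ^ (4 * 2 ^ m : ℤ)) = 2 := by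
  refine orderOf_eq_two_of_mul_self ?_ ?_
  · rw [← zpow_add, ← zpow_zero x, h.zpow_eq]; exact ⟨1, by ring⟩
  · rw [← zpow_zero x, Ne, h.zpow_eq]
    rintro ⟨c, hc⟩
    have : (1 : ℤ) = 2 * c := by
      have hM : (4 * 2 ^ m : ℤ) ≠ 0 := by positivity
      apply mul_left_cancel₀ hM
      linarith
    omega

theorem orderOf_out_even (k : ℤ) : orderOf (x ^ (2 * k) * y) = 2 := by
  refine orderOf_eq_two_of_mul_self ?_ fun e => h.out_ne_in (2 * k) 0 (by rw [zpow_zero]; exact e)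
  rw [h.out_sq, ← zpow_zero x, h.zpow_eq]; exact ⟨k, by ring⟩

theorem out_odd_sq (k : ℤ) :
    (x ^ (2 * k + 1) * y) * (x ^ (2 * k + 1) * y) = x ^ (4 * 2 ^ m : ℤ) := by
  rw [h.out_sq, h.zpow_eq]; exact ⟨k, by ring⟩

theorem orderOf_of_sq_eq_z {g : S} (hg : g * g = x ^ (4 * 2 ^ m : ℤ)) : orderOf g = 4 := by
  have hz := h.orderOf_z
  refine orderOf_eq_prime_pow (p := 2) (n := 1) ?_ ?_
  · rw [pow_one, sq, hg]; exact ne_one_of_orderOf_eq_two hz
  · rw [show 2 ^ (1 + 1) = 2 * 2 by norm_num, pow_mul, sq g, hg, ← hz, pow_orderOf_eq_one]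

theorem mem_ord_four (g : S) (hg : orderOf g = 4) :
    g = x ^ (2 * 2 ^ m : ℤ) ∨ g = x ^ (-(2 * 2 ^ m) : ℤ) ∨ ∃ k : ℤ, g = x ^ (2 * k + 1) * y := by
  have h4 : g * g * (g * g) = 1 := by
    rw [← sq g, ← sq, ← pow_mul]; exact (congrArg (g ^ ·) hg.symm).trans (pow_orderOf_eq_one g)
  have h2 : g * g ≠ 1 := by
    rw [← sq]; intro e
    have := orderOf_dvd_of_pow_eq_one e
    rw [hg] at this
    exact absurd this (by decide)
  rcases h.cases_elem g with ⟨i, rfl⟩ | ⟨i, rfl⟩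
  · rw [← zpow_add, ← zpow_add, ← zpow_zero x, h.zpow_eq] at h4
    obtain ⟨c, hc⟩ := h4
    have hi : i = 2 * 2 ^ m * c := by linarith
    rw [← zpow_add, ← zpow_zero x, Ne, h.zpow_eq, hi] at h2
    rcases Int.even_or_odd c with ⟨d, hd⟩ | ⟨d, hd⟩
    · exact absurd ⟨d, by subst hd; ring⟩ h2
    · rcases Int.even_or_odd d with ⟨f, hf⟩ | ⟨f, hf⟩
      · left; rw [h.zpow_eq, hi]; exact ⟨f, by subst hd hf; ring⟩
      · right; left; rw [h.zpow_eq, hi]; exact ⟨f + 1, by subst hd hf; ring⟩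
  · right; right
    rcases Int.even_or_odd i with ⟨d, hd⟩ | ⟨d, hd⟩
    · exfalso
      apply h2
      rw [hd, ← two_mul d]
      exact mul_self_of_orderOf_eq_two (h.orderOf_out_even d)
    · exact ⟨d, by rw [hd]⟩

theorem orderOf_w : orderOf (x ^ (2 * 2 ^ m : ℤ)) = 4 :=
  h.orderOf_of_sq_eq_z (by rw [← zpow_add]; congr 1; ring)

theorem isConj_out_of_dvd (i k : ℤ) : IsConj (x ^ (i + 2 * k) * y) (x ^ i * y) := by
  refine IsConj.symm (isConj_iff.mpr ⟨x ^ (k * (1 + 2 * 2 ^ m)), ?_⟩)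
  rw [h.conj_out, h.out_eq_out]
  exact ⟨-(2 ^ m * k), by ring⟩

theorem conj_in (g : S) (i : ℤ) :
    g * x ^ i * g⁻¹ = x ^ i ∨ g * x ^ i * g⁻¹ = x ^ (i * (4 * 2 ^ m - 1)) := by
  rcases h.cases_elem g with ⟨j, rfl⟩ | ⟨j, rfl⟩
  · left; rw [((Commute.refl x).zpow_zpow j i).eq, mul_inv_cancel_right]
  · right; exact h.out_conj_in j i

theorem conj_out_parity (g : S) (i : ℤ) : ∃ k : ℤ, g * (x ^ i * y) * g⁻¹ = x ^ (i + 2 * k) * y := by
  rcases h.cases_elem g with ⟨j, rfl⟩ | ⟨j, rfl⟩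
  · exact ⟨j * (1 - 2 * 2 ^ m), by rw [h.conj_out]; congr 2; ring⟩
  · refine ⟨i * (2 * 2 ^ m - 1) + j * (1 - 2 * 2 ^ m), ?_⟩
    calc x ^ j * y * (x ^ i * y) * (x ^ j * y)⁻¹
        = x ^ j * (y * x ^ i * (y * y⁻¹)) * (x ^ j)⁻¹ := by simp [mul_assoc, h.y_mul_self]
      _ = x ^ j * (x ^ (i * (4 * 2 ^ m - 1)) * y) * (x ^ j)⁻¹ := by
            rw [mul_inv_cancel, mul_one, h.y_zpow]
      _ = _ := by rw [h.conj_out]; congr 2; ring

/-- A noncentral involution commutes only with itself, the central involution and their product. -/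
theorem commute_out_in {i j : ℤ} (hc : x ^ j * (x ^ i * y) * (x ^ j)⁻¹ = x ^ i * y) :
    x ^ j = 1 ∨ x ^ j = x ^ (4 * 2 ^ m : ℤ) := by
  rw [h.conj_out, h.out_eq_out, add_sub_cancel_left, dvd_shift] at hc
  obtain ⟨c, rfl⟩ := hc
  rcases Int.even_or_odd c with ⟨d, hd⟩ | ⟨d, hd⟩
  · left; rw [← zpow_zero x, h.zpow_eq]; exact ⟨d, by subst hd; ring⟩
  · right; rw [h.zpow_eq]; exact ⟨d, by subst hd; ring⟩

theorem z_central (g : S) : g * x ^ (4 * 2 ^ m : ℤ) = x ^ (4 * 2 ^ m : ℤ) * g := by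
  refine mul_inv_eq_iff_eq_mul.mp ?_
  rcases h.conj_in g (4 * 2 ^ m) with e | e
  · exact e
  · rw [e, h.zpow_eq]; exact ⟨2 * 2 ^ m - 1, by ring⟩

theorem isPGroup : IsPGroup 2 S := IsPGroup.of_card h.card

/-- The elements `x ^ (2k)` and `x ^ (2k + e) * y`. -/
def evenPart (e : ℤ) : Subgroup S where
  carrier := {g | ∃ k : ℤ, g = x ^ (2 * k) ∨ g = x ^ (2 * k + e) * y}
  one_mem' := ⟨0, Or.inl (by simp)⟩
  mul_mem' := by
    rintro _ _ ⟨k, rfl | rfl⟩ ⟨l, rfl | rfl⟩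
    · exact ⟨k + l, Or.inl (by rw [← zpow_add]; congr 1; ring)⟩
    · exact ⟨k + l, Or.inr (by rw [in_mul_out]; congr 2; ring)⟩
    · exact ⟨k + l * (4 * 2 ^ m - 1), Or.inr (by rw [h.out_mul_in]; congr 2; ring)⟩
    · exact ⟨k + l * (4 * 2 ^ m - 1) + e * (2 * 2 ^ m), Or.inl (by rw [h.out_mul_out]; congr 1; ring)⟩
  inv_mem' := by
    rintro _ ⟨k, rfl | rfl⟩
    · exact ⟨-k, Or.inl (by rw [← zpow_neg]; congr 1; ring)⟩
    · exact ⟨-(k * (4 * 2 ^ m - 1)) - e * (2 * 2 ^ m), Or.inr (by rw [h.out_inv]; congr 2; ring)⟩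

theorem mem_evenPart {e : ℤ} {g : S} :
    g ∈ h.evenPart e ↔ ∃ k : ℤ, g = x ^ (2 * k) ∨ g = x ^ (2 * k + e) * y := Iff.rfl

theorem in_mem_evenPart {e i : ℤ} : x ^ i ∈ h.evenPart e ↔ Even i := by
  constructor
  · rintro ⟨k, hk | hk⟩
    · rw [h.zpow_eq] at hk
      obtain ⟨c, hc⟩ := hk
      exact ⟨k + 4 * 2 ^ m * c, by linarith⟩
    · exact absurd hk.symm (h.out_ne_in _ _)
  · rintro ⟨k, rfl⟩; exact ⟨k, Or.inl (by rw [two_mul])⟩

theorem out_mem_evenPart {e i : ℤ} : x ^ i * y ∈ h.evenPart e ↔ Even (i - e) := by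
  constructor
  · rintro ⟨k, hk | hk⟩
    · exact absurd hk (h.out_ne_in _ _)
    · rw [h.out_eq_out] at hk
      obtain ⟨c, hc⟩ := hk
      exact ⟨k + 4 * 2 ^ m * c, by linarith⟩
  · rintro ⟨k, hk⟩; exact ⟨k, Or.inr (by congr 2; linarith)⟩

theorem index_evenPart (e : ℤ) : (h.evenPart e).index = 2 := by
  rw [Subgroup.index_eq_two_iff]
  refine ⟨x, fun b => ?_⟩
  rcases h.cases_elem b with ⟨i, rfl⟩ | ⟨i, rfl⟩
  · rw [show x ^ i * x = x ^ (i + 1) by rw [zpow_add_one], h.in_mem_evenPart, h.in_mem_evenPart]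
    rcases Int.even_or_odd i with hi | hi
    · exact Or.inr ⟨hi, fun h1 => by rw [Int.even_add_one] at h1; exact h1 hi⟩
    · exact Or.inl ⟨Int.even_add_one.mpr (Int.not_even_iff_odd.mpr hi), Int.not_even_iff_odd.mpr hi⟩
  · have e1 : x ^ i * y * x = x ^ (i + (4 * 2 ^ m - 1)) * y := by
      have := h.out_mul_in i 1
      rwa [zpow_one, one_mul] at this
    rw [e1, h.out_mem_evenPart, h.out_mem_evenPart]
    have key : Even (i + (4 * 2 ^ m - 1) - e) ↔ ¬ Even (i - e) := by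
      rw [show i + (4 * 2 ^ m - 1) - e = (i - e) + 1 + 2 * (2 * 2 ^ m - 1) by ring,
        Int.even_add, iff_true_right (even_two_mul _), Int.even_add_one]
    rw [key]
    tauto

end SDGen

/-- Counting conjugacy classes of elements with a given property. -/
theorem card_classes_eq_two {G : Type*} [Group G] [Finite G] {P : G → Prop} {a b : G} (ha : P a)
    (hb : P b) (hab : ¬ IsConj a b) (h : ∀ t, P t → IsConj t a ∨ IsConj t b) :
    Nat.card {C : ConjClasses G // ∃ t : G, P t ∧ ConjClasses.mk t = C} = 2 := by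
  have e : {C : ConjClasses G | ∃ t : G, P t ∧ ConjClasses.mk t = C}
      = {ConjClasses.mk a, ConjClasses.mk b} := by
    ext C
    constructor
    · rintro ⟨t, ht, rfl⟩
      rcases h t ht with e | e
      · exact Or.inl (ConjClasses.mk_eq_mk_iff_isConj.mpr e)
      · exact Or.inr (ConjClasses.mk_eq_mk_iff_isConj.mpr e)
    · rintro (rfl | rfl)
      · exact ⟨a, ha, rfl⟩
      · exact ⟨b, hb, rfl⟩
  calc Nat.card {C : ConjClasses G // ∃ t : G, P t ∧ ConjClasses.mk t = C}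
      = Set.ncard {C : ConjClasses G | ∃ t : G, P t ∧ ConjClasses.mk t = C} :=
        Nat.card_coe_set_eq _
    _ = 2 := by rw [e, Set.ncard_pair (fun e => hab (ConjClasses.mk_eq_mk_iff_isConj.mp e))]

end Cfsg.Agent.H39
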