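import Cfsg.Agent.Symplectic.RationalClosure

/-!
Characteristic two, any dimension at least four: the parameters of a group over a rational structure, and
rationality of its transvection directions.
-/

set_option autoImplicit false

namespace Cfsg.Agent.H39.RatTwo

open scoped MatrixGroups Matrix
open Matrix Cfsg.Agent.H95 Cfsg.Agent.Symplectic

variable {ι : Type} [Fintype ι] [DecidableEq ι] {F : Type*} [Field F]
  {f : (ι → F) → (ι → F) → F} {F₀ : Subfield F} {V₀ : AddSubgroup (ι → F)}
  {M : Subgroup (GL ι F)}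

theorem sqrt_mem [CharP F 2] [Finite F] (F₀ : Subfield F) {x : F} (hx : x ^ 2 ∈ F₀) : x ∈ F₀ := by
  obtain ⟨s, hs⟩ := ((Finite.injective_iff_surjective
    (f := fun s : F₀ => s ^ 2)).1 (fun a b h => by
      apply Subtype.ext
      exact frobenius_inj F 2 (congrArg Subtype.val h))) ⟨x ^ 2, hx⟩
  have : (s : F) = x := frobenius_inj F 2 (congrArg Subtype.val hs)
  exact this ▸ s.2

/-- A subring of a finite field is a subfield. -/
def toSubfield [Finite F] (S : Subring F) : Subfield F :=
  { S with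
    inv_mem' := fun a ha => by
      rcases eq_or_ne a 0 with rfl | ha0
      · rw [_root_.inv_zero]; exact S.zero_mem
      haveI := Fintype.ofFinite F
      have hc := Fintype.one_lt_card (α := F)
      have : a⁻¹ = a ^ (Fintype.card F - 2) := by
        refine inv_eq_of_mul_eq_one_right ?_
        rw [← pow_succ', show Fintype.card F - 2 + 1 = Fintype.card F - 1 by omega,
          FiniteField.pow_card_sub_one_eq_one a ha0]
      rw [this]; exact S.pow_mem ha _ }

/-- A subring containing a subfield of prime index is that subfield or everything. -/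
theorem subring_dichotomy [Fintype F] (F₀ : Subfield F) {r : ℕ} (hr : r.Prime)
    (hcard : Fintype.card F = Nat.card F₀ ^ r) (S : Subring F) (hS : ∀ x ∈ F₀, x ∈ S) :
    (∀ x ∈ S, x ∈ F₀) ∨ ∀ x, x ∈ S := by
  let K : IntermediateField F₀ F := (toSubfield S).toIntermediateField fun x => hS x x.2
  have hfr : (Module.finrank F₀ F).Prime := by
    have h := Module.natCard_eq_pow_finrank (K := F₀) (V := F)
    rw [Nat.card_eq_fintype_card (α := F), hcard] at h
    rwa [← Nat.pow_right_injective Finite.one_lt_card h]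
  haveI := IntermediateField.isSimpleOrder_of_finrank_prime F₀ F hfr
  rcases IsSimpleOrder.eq_bot_or_eq_top K with h | h
  · refine Or.inl fun x hx => ?_
    have : x ∈ K := hx
    rw [h, IntermediateField.mem_bot] at this
    obtain ⟨y, rfl⟩ := this
    exact y.2
  · refine Or.inr fun x => ?_
    have : x ∈ K := h ▸ IntermediateField.mem_top
    exact this

theorem exists_plane (R : RatForm f F₀ V₀) (hn : 4 ≤ Fintype.card ι) {e e' : ι → F} (he : e ∈ V₀)
    (he' : e' ∈ V₀) (h : f e e' = 1) :
    ∃ a ∈ V₀, ∃ a' ∈ V₀, f a a' = 1 ∧ f a e = 0 ∧ f a e' = 0 ∧ f a' e = 0 ∧ f a' e' = 0 := by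
  classical
  obtain ⟨v, hv, hvs⟩ : ∃ v ∈ V₀, v ∉ Submodule.span F (({e, e'} : Finset (ι → F)) : Set (ι → F)) := by
    by_contra hc
    push Not at hc
    have h1 := Submodule.finrank_mono (R.span_eq ▸ Submodule.span_le.2 hc :
      (⊤ : Submodule F (ι → F)) ≤ Submodule.span F (({e, e'} : Finset (ι → F)) : Set (ι → F)))
    rw [finrank_top, Module.finrank_fintype_fun_eq_card] at h1
    have h2 := finrank_span_finset_le_card (R := F) ({e, e'} : Finset (ι → F))
    rw [Set.finrank] at h2
    have h3 : ({e, e'} : Finset (ι → F)).card ≤ 2 := Finset.card_le_two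
    omega
  have h0 : pr f e e' v ≠ 0 := by
    intro h0
    apply hvs
    rw [pr, sub_eq_zero] at h0
    rw [h0, Finset.coe_insert, Finset.coe_singleton]
    exact Submodule.sub_mem _ (Submodule.smul_mem _ _ (Submodule.subset_span (by simp)))
      (Submodule.smul_mem _ _ (Submodule.subset_span (by simp)))
  obtain ⟨a', ha', h1, h2, h3⟩ := R.exists_perp_partner he he' h (R.pr_mem he he' hv) h0
    (R.pr_left h) (R.pr_right h)
  exact ⟨_, R.pr_mem he he' hv, a', ha', h1, R.pr_left h, R.pr_right h, h2, h3⟩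

variable (R : RatForm f F₀ V₀) (hS : ∀ c ∈ F₀, InA R.symp V₀ M c)
include hS

section two

variable [CharP F 2]

/-- A short element times a long one yields a long one. -/
theorem inA_of_prod {x y u : ι → F} (hx : x ∈ V₀) (hy : y ∈ V₀) (hu : u ∈ V₀) (hu0 : u ≠ 0)
    (hxy : f x y = 1) (ux : f u x = 0) (uy : f u y = 0) {A t : F}
    (h : rt R.symp u A * th R.symp u y t ∈ M) : InA R.symp V₀ M (A + t ^ 2) := by
  have hf := R.symp
  have two : (2 : F) = 0 := CharTwo.two_eq_zero
  have xu : f x u = 0 := f_symm_zero hf ux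
  have yu : f y u = 0 := f_symm_zero hf uy
  have yx : f y x = 1 := by rw [f_skew hf, hxy, CharTwo.neg_eq]
  have split : ∀ g a b : GL ι F, g * (a * b) * g⁻¹ = g * a * g⁻¹ * (g * b * g⁻¹) :=
    fun g a b => by group
  have h1 : rt hf u (t ^ 2) * th hf u x t ∈ M := by
    have h1 := M.mul_mem h (conj_mem (R.rt1_mem hS hx) h)
    rw [split, conj_rt hf (rt_mem_iso hf _ _), conj_th hf (rt_mem_iso hf _ _), rt_fix hf ux,
      rt_mulVec hf x 1 y, yx] at h1
    have e : f u (y + ((1 : F) * 1) • x) = 0 := by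
      rw [f_add_right hf, f_smul_right hf, uy, ux]; ring
    convert h1 using 1
    refine gl_ext fun z => ?_
    simp only [mul_mulVec, rt_mulVec hf, th_mulVec hf uy, th_mulVec hf e, th_mulVec hf ux,
      f_add_left hf, f_add_right hf, f_smul_left hf, f_smul_right hf, f_self hf, uy, yu, ux, xu,
      hxy, yx]
    match_scalars <;> grind
  have h2 : rt hf u (t ^ 2) * th hf u y t ∈ M := by
    have h2 := conj_mem (R.rt1_mem hS (V₀.add_mem hx hy)) h1
    have eu : (rt hf (x + y) 1 : Matrix ι ι F) *ᵥ u = u :=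
      rt_fix hf (by rw [f_add_right hf, ux, uy, add_zero]) 1
    have ex : (rt hf (x + y) 1 : Matrix ι ι F) *ᵥ x = y := by
      rw [rt_mulVec hf, f_add_right hf, f_self hf, hxy, zero_add, one_mul, one_smul, ← add_assoc]
      rw [show x + x = 0 from funext fun i => CharTwo.add_self_eq_zero _, zero_add]
    rwa [split, conj_rt hf (rt_mem_iso hf _ _), conj_th hf (rt_mem_iso hf _ _), eu, ex] at h2
  refine inA_of_one R hS hu hu0 ?_
  have h3 := M.mul_mem h h2
  convert h3 using 1
  refine gl_ext fun z => ?_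
  simp only [mul_mulVec, rt_mulVec hf, th_mulVec hf uy, f_add_left hf, f_smul_left hf,
    f_self hf, uy, yu]
  match_scalars <;> grind

theorem prod_mem {x y u : ι → F} (hx : x ∈ V₀) (hy : y ∈ V₀) (hu : u ∈ V₀)
    (hxy : f x y = 1) (ux : f u x = 0) (uy : f u y = 0) {a b : F}
    (ha : InA R.symp V₀ M a) (hb : InA R.symp V₀ M b) :
    rt R.symp u (a ^ 2 * b) * th R.symp u y (a * b) ∈ M := by
  have hf := R.symp
  have two : (2 : F) = 0 := CharTwo.two_eq_zero
  have yu : f y u = 0 := f_symm_zero hf uy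
  have yx : f y x = 1 := by rw [f_skew hf, hxy, CharTwo.neg_eq]
  have h1 := M.mul_mem (conj_mem (th_mem ha hu hx) (hb y hy)) (hb y hy)
  rw [conj_rt hf (th_mem_iso hf _ _ _), th_mulVec hf ux, yu, yx] at h1
  convert h1 using 1
  refine gl_ext fun t => ?_
  simp only [mul_mulVec, rt_mulVec hf, th_mulVec hf uy, f_add_left hf, f_add_right hf,
    f_smul_left hf, f_smul_right hf, f_self hf, uy, yu]
  match_scalars <;> grind

theorem exists_config (hn : 4 ≤ Fintype.card ι) :
    ∃ x ∈ V₀, ∃ y ∈ V₀, ∃ u ∈ V₀, u ≠ 0 ∧ f x y = 1 ∧ f u x = 0 ∧ f u y = 0 := by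
  have hbot : V₀ ≠ ⊥ := by
    intro hb0
    have := R.span_eq
    rw [hb0, AddSubgroup.coe_bot, Submodule.span_zero_singleton] at this
    haveI hne : Nonempty ι := Fintype.card_pos_iff.1 (by omega)
    exact bot_ne_top this
  obtain ⟨x, hx, hx0⟩ := V₀.bot_or_exists_ne_zero.resolve_left hbot
  obtain ⟨y, hy, hxy⟩ := R.exists_partner hx hx0
  obtain ⟨u, hu, u', -, hU, ux, uy, -, -⟩ := exists_plane R hn hx hy hxy
  exact ⟨x, hx, y, hy, u, hu, fun h => by simp [h, f_zero_left R.symp] at hU, hxy, ux, uy⟩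

theorem inA_sq (hn : 4 ≤ Fintype.card ι) {s : F} (hs : InA R.symp V₀ M s) :
    InA R.symp V₀ M (s ^ 2) := by
  obtain ⟨x, hx, y, hy, u, hu, hu0, hxy, ux, uy⟩ := exists_config R hS hn
  refine inA_of_one R hS hu hu0 ?_
  have h := M.mul_mem (prod_mem R hS hx hy hu hxy ux uy hs (hS 1 F₀.one_mem))
    (M.inv_mem (th_mem hs hu hy))
  rwa [mul_one, mul_one, mul_inv_cancel_right] at h

theorem inA_mul_add_sq [Finite F] (hn : 4 ≤ Fintype.card ι) {s a : F} (hs : InA R.symp V₀ M s)
    (ha : InA R.symp V₀ M a) : InA R.symp V₀ M (s * (a + a ^ 2)) := by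
  obtain ⟨x, hx, y, hy, u, hu, hu0, hxy, ux, uy⟩ := exists_config R hS hn
  let A := {z : F // InA R.symp V₀ M z}
  obtain ⟨d, hd⟩ := ((Finite.injective_iff_surjective
    (f := fun z : A => (⟨z.1 ^ 2, inA_sq R hS hn z.2⟩ : A))).1 fun p q h =>
      Subtype.ext (frobenius_inj F 2 (congrArg Subtype.val h))) ⟨s, hs⟩
  have hd' : d.1 ^ 2 = s := congrArg Subtype.val hd
  have h := inA_of_prod R hS hx hy hu hu0 hxy ux uy (prod_mem R hS hx hy hu hxy ux uy d.2 ha)
  rwa [mul_pow, ← mul_add, hd'] at h

/-- One new parameter gives all of them. -/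
theorem inA_all [Fintype F] (hn : 4 ≤ Fintype.card ι) {r : ℕ} (hr : r.Prime)
    (hcard : Fintype.card F = Nat.card F₀ ^ r) {a : F} (ha : InA R.symp V₀ M a) (haF : a ∉ F₀)
    (b : F) : InA R.symp V₀ M b := by
  let C : Subring F :=
    { carrier := {c | ∀ z, InA R.symp V₀ M z → InA R.symp V₀ M (c * z)}
      mul_mem' := fun {c d} hc hd z hz => by rw [mul_assoc]; exact hc _ (hd z hz)
      one_mem' := fun z hz => by rwa [one_mul]
      add_mem' := fun {c d} hc hd z hz => by rw [add_mul]; exact R.inA_add (hc z hz) (hd z hz)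
      zero_mem' := fun z _ => by rw [zero_mul]; exact hS 0 F₀.zero_mem
      neg_mem' := fun {c} hc z hz => by rw [neg_mul]; exact R.inA_neg (hc z hz) }
  have hF₀ : ∀ c ∈ F₀, c ∈ C := fun c hc z hz => by
    obtain ⟨s, hs⟩ := FiniteField.isSquare_of_char_two (ringChar.eq F 2) c
    have hsF : s ∈ F₀ := sqrt_mem F₀ (by rwa [sq, ← hs])
    have := R.inA_sq_mul hz hsF
    rwa [sq, ← hs, mul_comm] at this
  have hq : a + a ^ 2 ∈ C := fun z hz => by
    rw [mul_comm]; exact inA_mul_add_sq R hS hn hz ha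
  rcases subring_dichotomy F₀ hr hcard C hF₀ with h | h
  · have hk : a + a ^ 2 ∈ F₀ := h _ hq
    let D : Subring F :=
      { carrier := {z | ∃ x ∈ F₀, ∃ y ∈ F₀, z = x + y * a}
        mul_mem' := by
          rintro _ _ ⟨x, hx, y, hy, rfl⟩ ⟨x', hx', y', hy', rfl⟩
          refine ⟨x * x' + y * y' * (a + a ^ 2), F₀.add_mem (F₀.mul_mem hx hx')
            (F₀.mul_mem (F₀.mul_mem hy hy') hk), x * y' + y * x' - y * y',
            F₀.sub_mem (F₀.add_mem (F₀.mul_mem hx hy') (F₀.mul_mem hy hx')) (F₀.mul_mem hy hy'), ?_⟩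
          ring
        one_mem' := ⟨1, F₀.one_mem, 0, F₀.zero_mem, by ring⟩
        add_mem' := by
          rintro _ _ ⟨x, hx, y, hy, rfl⟩ ⟨x', hx', y', hy', rfl⟩
          exact ⟨x + x', F₀.add_mem hx hx', y + y', F₀.add_mem hy hy', by ring⟩
        zero_mem' := ⟨0, F₀.zero_mem, 0, F₀.zero_mem, by ring⟩
        neg_mem' := by
          rintro _ ⟨x, hx, y, hy, rfl⟩
          exact ⟨-x, F₀.neg_mem hx, -y, F₀.neg_mem hy, by ring⟩ }
    rcases subring_dichotomy F₀ hr hcard D (fun x hx => ⟨x, hx, 0, F₀.zero_mem, by ring⟩) with h' | h'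
    · exact absurd (h' a ⟨0, F₀.zero_mem, 1, F₀.one_mem, by ring⟩) haF
    · obtain ⟨x, hx, y, hy, rfl⟩ := h' b
      exact R.inA_add (hS x hx) (hF₀ y hy a ha)
  · simpa using h b 1 (hS 1 F₀.one_mem)

set_option maxHeartbeats 1000000 in
/-- If no new parameters occur, then the vector is rational. -/
theorem two_rational [Finite F] (hn : 4 ≤ Fintype.card ι)
    (hA : ∀ a, InA R.symp V₀ M a → a ∈ F₀) {w : ι → F} (hw : rt R.symp w 1 ∈ M) : w ∈ V₀ := by
  have hf := R.symp
  have two : (2 : F) = 0 := CharTwo.two_eq_zero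
  have sy : ∀ x y : ι → F, f x y = f y x := fun x y => by rw [f_skew hf, CharTwo.neg_eq]
  have th1 : ∀ {x y : ι → F}, x ∈ V₀ → y ∈ V₀ → th hf x y 1 ∈ M := fun hx hy =>
    th_mem (hS 1 F₀.one_mem) hx hy
  have split : ∀ g a b : GL ι F, g * (a * b) * g⁻¹ = g * a * g⁻¹ * (g * b * g⁻¹) :=
    fun g a b => by group
  -- the main computation
  have main : ∀ u ∈ V₀, u ≠ 0 → f w u + f w u ^ 2 ∈ F₀ ∧ (f w u ^ 2 = f w u + 1 → f w u ∈ F₀) := by
    intro u hu hu0
    obtain ⟨u', hu', hU⟩ := R.exists_partner hu hu0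
    obtain ⟨v, hv, v', hv', hV, vu, vu', v'u, v'u'⟩ := exists_plane R hn hu hu' hU
    have hv0 : v ≠ 0 := by rintro rfl; simp [f_zero_left hf] at hV
    have uv : f u v = 0 := f_symm_zero hf vu
    have uv' : f u v' = 0 := f_symm_zero hf v'u
    have u'v : f u' v = 0 := f_symm_zero hf vu'
    have V'v : f v' v = 1 := by rw [sy, hV]
    set p := f w v with hp
    set q := f w u with hq
    set z := p • u + q • v with hz
    have wz : f w z = 0 := by
      rw [hz, f_add_right hf, f_smul_right hf, f_smul_right hf, ← hp, ← hq]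
      linear_combination (p * q) * two
    have zu : f z u = 0 := by
      rw [hz, f_add_left hf, f_smul_left hf, f_smul_left hf, f_self hf, vu]; ring
    have uz : f u z = 0 := f_symm_zero hf zu
    have hk : th hf w z 1 * rt hf z 1 ∈ M := by
      have h1 := M.mul_mem hw (conj_mem (th1 hu hv) hw)
      rw [conj_rt hf (th_mem_iso hf _ _ _), th_mulVec hf uv] at h1
      convert h1 using 1
      refine gl_ext fun x => ?_
      rw [show w + (1 * f w u) • v + (1 * f w v) • u = w + z by rw [hz, ← hp, ← hq]; module]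
      simp only [mul_mulVec, rt_mulVec hf, th_mulVec hf wz, f_add_left hf, f_add_right hf,
        f_smul_left hf, f_self hf, wz, f_symm_zero hf wz]
      match_scalars <;> grind
    have hk2 : th hf u z q * rt hf z (q ^ 2) ∈ M := by
      have h1 := M.mul_mem (conj_mem (R.rt1_mem hS hu) hk) hk
      have h : f (w + q • u) z = 0 := by
        rw [f_add_left hf, f_smul_left hf, wz, uz]; ring
      rw [split, conj_th hf (rt_mem_iso hf _ _), conj_rt hf (rt_mem_iso hf _ _),
        rt_fix hf zu, rt_mulVec hf u 1 w, ← hq, one_mul] at h1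
      convert h1 using 1
      refine gl_ext fun x => ?_
      simp only [mul_mulVec, rt_mulVec hf, th_mulVec hf wz, th_mulVec hf h, th_mulVec hf uz,
        f_add_left hf, f_add_right hf, f_smul_left hf, f_smul_right hf, f_self hf, wz,
        f_symm_zero hf wz, uz, zu, sy u w, ← hq]
      match_scalars <;> grind
    have hT : rt hf u (p ^ 2 * q ^ 2) * rt hf v (q ^ 4) * th hf u v (q ^ 2 + p * q ^ 3) ∈ M ∨
        rt hf u (p ^ 2 * q ^ 2) * rt hf v (q ^ 4) * th hf u v (p * q ^ 3 + q ^ 2) ∈ M := by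
      left
      convert hk2 using 1
      refine gl_ext fun x => ?_
      simp only [hz, mul_mulVec, rt_mulVec hf, th_mulVec hf uv, th_mulVec hf (hz ▸ uz),
        f_add_left hf, f_add_right hf, f_smul_left hf, f_smul_right hf, f_self hf, uv, vu]
      match_scalars <;> grind
    rw [add_comm (p * q ^ 3), or_self] at hT
    -- the shear
    have hZ : rt hf u (q ^ 4) * th hf u v (q ^ 4) ∈ M := by
      have h1 := M.mul_mem hT (conj_mem (th1 hu hv') hT)
      have eu : (th hf u v' 1 : Matrix ι ι F) *ᵥ u = u := by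
        rw [th_mulVec hf uv', f_self hf, uv']; module
      have ev : (th hf u v' 1 : Matrix ι ι F) *ᵥ v = v + u := by
        rw [th_mulVec hf uv', vu, hV]; module
      have h : f u (v + u) = 0 := by rw [f_add_right hf, uv, f_self hf, add_zero]
      rw [split, split, conj_th hf (th_mem_iso hf _ _ _), conj_rt hf (th_mem_iso hf _ _ _),
        conj_rt hf (th_mem_iso hf _ _ _), eu, ev] at h1
      convert h1 using 1
      refine gl_ext fun x => ?_
      simp only [mul_mulVec, rt_mulVec hf, th_mulVec hf uv, th_mulVec hf h,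
        f_add_left hf, f_add_right hf, f_smul_left hf, f_self hf, uv, vu]
      match_scalars <;> grind
    refine ⟨sqrt_mem F₀ (sqrt_mem F₀ ?_), fun hω => ?_⟩
    · have := hA _ (inA_of_prod R hS hv' hv hu hu0 V'v uv' uv hZ)
      convert this using 1
      rw [← pow_mul]
      linear_combination (2 * f w u ^ 5 + 2 * f w u ^ 7 + f w u ^ 6 * 3) * two
    -- the field of four elements
    have hq4 : q ^ 4 = q := by linear_combination (q ^ 2 + q + 2) * hω + (q + 1) * two
    rw [hq4] at hZ
    have hR : rt hf u q * rt hf v q ∈ M := by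
      have h1 := conj_mem (th1 hv hu') hZ
      have eu : (th hf v u' 1 : Matrix ι ι F) *ᵥ u = u + v := by
        rw [th_mulVec hf vu', uv, hU]; module
      have ev : (th hf v u' 1 : Matrix ι ι F) *ᵥ v = v := by
        rw [th_mulVec hf vu', f_self hf, vu']; module
      have h : f (u + v) v = 0 := by rw [f_add_left hf, uv, f_self hf, add_zero]
      rw [split, conj_th hf (th_mem_iso hf _ _ _), conj_rt hf (th_mem_iso hf _ _ _), eu, ev] at h1
      convert h1 using 1
      refine gl_ext fun x => ?_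
      simp only [mul_mulVec, rt_mulVec hf, th_mulVec hf h,
        f_add_left hf, f_add_right hf, f_smul_left hf, f_self hf, uv, vu]
      match_scalars <;> grind
    have hQ : rt hf (v + v') q * rt hf v q ∈ M := by
      have h1 := M.mul_mem (conj_mem (R.rt1_mem hS hv') hR) hR
      rw [split, conj_rt hf (rt_mem_iso hf _ _), conj_rt hf (rt_mem_iso hf _ _), rt_fix hf uv',
        rt_mulVec hf v' 1 v, hV, mul_one, one_smul] at h1
      convert h1 using 1
      refine gl_ext fun x => ?_
      simp only [mul_mulVec, rt_mulVec hf, f_add_left hf, f_add_right hf, f_smul_left hf, f_self hf,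
        uv, vu, uv', v'u]
      match_scalars <;> grind
    have hne : v + v' ≠ 0 := fun h => by
      have := congrArg (fun t => f v t) h
      simp [f_add_right hf, f_self hf, f_zero_right hf, hV] at this
    refine hA _ (inA_of_one R hS (V₀.add_mem hv hv') hne ?_)
    have h1 := M.mul_mem (R.rt1_mem hS hv') (M.mul_mem hQ hQ)
    convert h1 using 1
    refine gl_ext fun x => ?_
    simp only [mul_mulVec, rt_mulVec hf, f_add_left hf, f_add_right hf, f_smul_left hf, f_self hf,
      hV, V'v]
    match_scalars <;> grind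
  refine R.dual w fun u hu => ?_
  rcases eq_or_ne u 0 with rfl | hu0
  · rw [f_zero_right hf]; exact F₀.zero_mem
  obtain ⟨hk, hω⟩ := main u hu hu0
  by_cases hc : ∃ c ∈ F₀, c ≠ 0 ∧ c ≠ 1
  · obtain ⟨c, hc, hc0, hc1⟩ := hc
    have h1 := (main (c • u) (R.smul_mem c hc u hu) (smul_ne_zero hc0 hu0)).1
    rw [f_smul_right hf] at h1
    have hd : c - c ^ 2 ≠ 0 := by
      rw [show c - c ^ 2 = c * (1 - c) by ring]
      exact mul_ne_zero hc0 (sub_ne_zero.2 hc1.symm)
    have h2 : (c - c ^ 2) * f w u ∈ F₀ := by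
      have := F₀.sub_mem h1 (F₀.mul_mem (F₀.mul_mem hc hc) hk)
      convert this using 1
      ring
    have h3 := F₀.div_mem h2 (F₀.sub_mem hc (pow_mem hc 2))
    rwa [mul_div_cancel_left₀ _ hd] at h3
  push Not at hc
  by_cases h0 : f w u + f w u ^ 2 = 0
  · have : f w u * (1 + f w u) = 0 := by linear_combination h0
    rcases mul_eq_zero.1 this with h | h
    · rw [h]; exact F₀.zero_mem
    · rw [show f w u = 1 by linear_combination h - two]; exact F₀.one_mem
  · exact hω (by linear_combination hc _ hk h0 - f w u * two)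

end two

end Cfsg.Agent.H39.RatTwo
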