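import Cfsg.Agent.Symplectic.Center
import Cfsg.Agent.H95.Symp
import Cfsg.Agent.H95.SubspaceStab
import Cfsg.Agent.H95.SympSwap
import Cfsg.Agent.S5650
import Cfsg.Agent.H39.SympRatTwo
import Cfsg.Agent.H39.ExtSpFour

/-!
The geometric maximality theorems for symplectic groups in small dimension (copies of the arguments for
`m ≥ 7` with the dimension hypotheses weakened; `q` at least four where needed).
-/

set_option autoImplicit false
open Cfsg

namespace Cfsg.Agent.H39.SympSmall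

open scoped MatrixGroups Matrix

section

open Matrix Cfsg.Agent.H95

theorem singular {F : Type*} [Field F] [Fintype F] (m : ℕ) (W : Submodule F (Fin m ⊕ Fin m → F)) (hW0 : W ≠ ⊥) (hW : Cfsg.Geo.IsTotallySingularFor (Cfsg.sympForm m F) W) : Cfsg.Geo.IsMaximalIn (Cfsg.spGL m F) (Cfsg.Geo.subspaceStabilizer W ⊓ Cfsg.spGL m F) := by
  classical
  set f := Cfsg.sympForm m F with hfdef
  have hf : Geo.IsSymplecticForm f := isSymplecticForm_sympForm m
  set B := Cfsg.Agent.Symplectic.spB m F with hB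
  set P := B.orthogonal W with hP
  have hBapp : ∀ u v, B u v = f u v := fun u v => Cfsg.Agent.Symplectic.spB_apply u v
  have hmemP : ∀ x, x ∈ P ↔ ∀ w ∈ W, f w x = 0 := fun x =>
    forall₂_congr fun w _ => by
      show B w x = 0 ↔ _
      rw [hBapp]
  have hnd := Cfsg.Agent.Symplectic.spB_nondeg m F
  have halt := Cfsg.Agent.Symplectic.spB_alt m F
  have hWP : W ≤ P := fun w hw => (hmemP w).2 fun a ha => hW a ha w hw
  have hWeq : ∀ x, (∀ p ∈ P, f p x = 0) → x ∈ W := fun x hx =>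
    (Cfsg.Agent.Symplectic.orth_le_iff_apply hnd halt W x).1 fun y hy => by rw [hBapp]; exact hx y hy
  set S := Geo.subspaceStabilizer W ⊓ Cfsg.spGL m F with hS
  have hrootS : ∀ u ∈ P, RootIn hf S u := fun u hu l =>
    ⟨mem_stab_of_forward fun x hx => by
      rw [rt_fix hf ((hmemP u).1 hu x hx)]; exact hx, rt_mem_iso hf u l⟩
  obtain ⟨w₀, hw₀, hw₀0⟩ := W.ne_bot_iff.1 hW0
  obtain ⟨x₀, hx₀⟩ := exists_f_eq_one hf hw₀0
  have hx₀P : x₀ ∉ P := fun h => one_ne_zero (hx₀.symm.trans ((hmemP x₀).1 h w₀ hw₀))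
  refine ⟨lt_of_le_of_ne inf_le_right fun hEq => ?_, ?_⟩
  · have h : rt hf x₀ 1 ∈ S := hEq.symm ▸ rt_mem_iso hf x₀ 1
    have h1 := (mem_subspaceStabilizer.1 h.1 w₀).1 hw₀
    rw [rt_mulVec hf, one_mul, hx₀, one_smul] at h1
    exact hx₀P (hWP (by simpa using W.sub_mem h1 hw₀))
  intro M hSM hMS
  by_cases hM : M ≤ S
  · exact Or.inl (le_antisymm hM hSM)
  right
  obtain ⟨g, hgM, hgS⟩ := SetLike.not_le_iff_exists.1 hM
  have hgi : g ∈ isoGrp f := hMS hgM
  have hMP : ∀ u ∈ P, RootIn hf M u := fun u hu l => hSM (hrootS u hu l)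
  obtain ⟨y, hyM, hyP⟩ : ∃ y, RootIn hf M y ∧ y ∉ P := by
    by_contra hcon
    push Not at hcon
    have him : ∀ p ∈ P, (g : Matrix (Fin m ⊕ Fin m) (Fin m ⊕ Fin m) F) *ᵥ p ∈ P := fun p hp =>
      hcon _ ((hMP p hp).conj hf hgM hgi)
    refine hgS ⟨mem_stab_of_forward fun w hw => hWeq _ fun p hp => ?_, hgi⟩
    obtain ⟨p', hp', rfl⟩ : ∃ p' ∈ P, (g : Matrix (Fin m ⊕ Fin m) (Fin m ⊕ Fin m) F) *ᵥ p' = p := by
      let L : P →ₗ[F] P := LinearMap.restrict (Matrix.toLin' (g : Matrix (Fin m ⊕ Fin m) (Fin m ⊕ Fin m) F))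
        fun x hx => by rw [Matrix.toLin'_apply]; exact him x hx
      have hinj : Function.Injective L := fun a b hab => Subtype.ext (gl_mulVec_injective g
        (by simpa [L, Subtype.ext_iff] using hab))
      obtain ⟨⟨p', hp'⟩, h⟩ := LinearMap.injective_iff_surjective.1 hinj ⟨p, hp⟩
      exact ⟨p', hp', by simpa [L, Subtype.ext_iff] using h⟩
    rw [(mem_isoGrp.1 hgi), f_skew hf, (hmemP p').1 hp' w hw, neg_zero]
  have hall : ∀ z, z ∉ P → RootIn hf M z := by
    intro z hzP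
    let φ : (Fin m ⊕ Fin m → F) → (W →ₗ[F] F) := fun x => (B.flip x).comp W.subtype
    have hφ : ∀ x, x ∉ P → φ x ≠ 0 := fun x hx h => hx ((hmemP x).2 fun w hw => by
      have := LinearMap.congr_fun h ⟨w, hw⟩
      simpa [φ, hBapp] using this)
    -- an automorphism of `W` carrying one functional to the other
    obtain ⟨α, hα⟩ : ∃ α : W ≃ₗ[F] W, φ z ∘ₗ α.toLinearMap = φ y := by
      obtain ⟨e, he⟩ := Submodule.exists_linearEquiv_restrict_eq
        ((LinearEquiv.toSpanNonzeroSingleton F _ (φ z) (hφ z hzP)).symm.trans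
          (LinearEquiv.toSpanNonzeroSingleton F _ (φ y) (hφ y hyP)))
      have hez : e (φ z) = φ y := by
        have h2 := he ⟨φ z, Submodule.mem_span_singleton_self _⟩
        have h3 : (⟨φ z, Submodule.mem_span_singleton_self _⟩ : Submodule.span F {φ z}) =
            LinearEquiv.toSpanNonzeroSingleton F _ (φ z) (hφ z hzP) 1 := Subtype.ext (by simp)
        rw [LinearEquiv.trans_apply, h3, LinearEquiv.symm_apply_apply] at h2
        simpa using h2.symm
      refine ⟨(Module.evalEquiv F W).trans (e.dualMap.trans (Module.evalEquiv F W).symm), ?_⟩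
      refine LinearMap.ext fun w => ?_
      simp [Module.apply_evalEquiv_symm_apply, hez]
    have hyW : y ∉ W := fun h => hyP (hWP h)
    have hzW : z ∉ W := fun h => hzP (hWP h)
    let bW := Module.finBasis F W
    let a : Option (Fin (Module.finrank F W)) → (Fin m ⊕ Fin m → F) :=
      fun i => i.elim y (fun i => (bW i : Fin m ⊕ Fin m → F))
    let b : Option (Fin (Module.finrank F W)) → (Fin m ⊕ Fin m → F) :=
      fun i => i.elim z (fun i => (α (bW i) : Fin m ⊕ Fin m → F))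
    have hli : ∀ (c : Fin (Module.finrank F W) → W), LinearIndependent F c →
        ∀ v, v ∉ W → LinearIndependent F (fun i : Option (Fin (Module.finrank F W)) =>
          i.elim v (fun i => (c i : Fin m ⊕ Fin m → F))) := by
      intro c hc v hv
      rw [linearIndependent_option]
      refine ⟨hc.map' W.subtype W.ker_subtype, fun h => hv (Submodule.span_le.2 ?_ h)⟩
      rintro _ ⟨i, rfl⟩
      exact (c i).2
    have hgram : ∀ i j, Cfsg.sympForm m F (a i) (a j) = Cfsg.sympForm m F (b i) (b j) := by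
      have key : ∀ w : W, f (w : Fin m ⊕ Fin m → F) y = f (α w : Fin m ⊕ Fin m → F) z := fun w => by
        have := LinearMap.congr_fun hα w
        simpa [φ, hBapp] using this.symm
      rintro (_ | i) (_ | j)
      · show f y y = f z z; rw [f_self hf, f_self hf]
      · show f y (bW j) = f z (α (bW j)); rw [f_skew hf, key, ← f_skew hf]
      · show f (bW i) y = f (α (bW i)) z; exact key _
      · show f (bW i) (bW j) = f (α (bW i)) (α (bW j))
        rw [hW _ (bW i).2 _ (bW j).2, hW _ (α (bW i)).2 _ (α (bW j)).2]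
    obtain ⟨h, hh⟩ := Cfsg.Agent.Symplectic.exists_sp_map a b
      (hli _ bW.linearIndependent y hyW)
      (hli _ (bW.linearIndependent.map' α.toLinearMap (LinearEquiv.ker α)) z hzW) hgram
    let hg : GL (Fin m ⊕ Fin m) F :=
      { val := (h : Matrix (Fin m ⊕ Fin m) (Fin m ⊕ Fin m) F)
        inv := ((h⁻¹ : Matrix.symplecticGroup (Fin m) F) : Matrix (Fin m ⊕ Fin m) (Fin m ⊕ Fin m) F)
        val_inv := by rw [← Submonoid.coe_mul, mul_inv_cancel]; rfl
        inv_val := by rw [← Submonoid.coe_mul, inv_mul_cancel]; rfl }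
    have hgi' : hg ∈ isoGrp f := fun u v => Cfsg.Agent.Symplectic.sf_invariant h u v
    have hgS' : hg ∈ S := by
      refine ⟨mem_stab_of_forward fun w hw => ?_, hgi'⟩
      let L := (Cfsg.Agent.Symplectic.spEquiv m F h).1.toLinearMap
      have hle : W ≤ W.comap L := by
        have hsp : Submodule.span F (Set.range fun i => (bW i : Fin m ⊕ Fin m → F)) = W := by
          show Submodule.span F (Set.range (W.subtype ∘ bW)) = W
          rw [Set.range_comp, Submodule.span_image, bW.span_eq, Submodule.map_subtype_top]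
        conv_lhs => rw [← hsp]
        rw [Submodule.span_le]
        rintro _ ⟨i, rfl⟩
        show (h : Matrix (Fin m ⊕ Fin m) (Fin m ⊕ Fin m) F) *ᵥ _ ∈ W
        have h2 : (h : Matrix (Fin m ⊕ Fin m) (Fin m ⊕ Fin m) F) *ᵥ (bW i : Fin m ⊕ Fin m → F) =
            (α (bW i) : Fin m ⊕ Fin m → F) := hh (some i)
        exact h2 ▸ (α (bW i)).2
      exact hle hw
    have := hyM.conj hf (hSM hgS') hgi'
    rwa [show (hg : Matrix (Fin m ⊕ Fin m) (Fin m ⊕ Fin m) F) *ᵥ y = z from hh none] at this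
  refine le_antisymm hMS ?_
  rw [spGL_eq_isoGrp]
  refine iso_le_of_roots hf fun u => ?_
  by_cases hu : u ∈ P
  · exact hMP u hu
  · exact hall u hu

theorem decomposition {F : Type*} [Field F] [Fintype F] (m : ℕ) {t : ℕ} (k : ℕ) (D : Fin t → Submodule F (Fin m ⊕ Fin m → F)) (hD : Cfsg.Geo.IsNondegenerateMDecomposition (Cfsg.sympForm m F) k D) (hex : ¬ (k = 2 ∧ Fintype.card F = 2)) : Cfsg.Geo.IsMaximalIn (Cfsg.spGL m F) (Cfsg.Geo.decompositionStabilizer D ⊓ Cfsg.spGL m F) := by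
  set f := Cfsg.sympForm m F with hfdef
  have hf : Geo.IsSymplecticForm f := isSymplecticForm_sympForm m
  have hO : OrthDec f D := ⟨fun i => ndOn_of_isNondegenerateOn hf (hD.nondegenerate i),
    fun i j hij u hu v hv => hD.orthogonal i j hij u hu v hv, hD.decomp.iSup_eq_top⟩
  have ht := hD.decomp.two_le
  have hk := hD.decomp.finrank_eq
  set S := Geo.decompositionStabilizer D ⊓ Cfsg.spGL m F with hS
  have hinj : ∀ g : GL (Fin m ⊕ Fin m) F,
      Function.Injective (Matrix.toLin' (g : Matrix (Fin m ⊕ Fin m) (Fin m ⊕ Fin m) F)) := by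
    intro g x y hxy
    simp only [Matrix.toLin'_apply] at hxy
    exact gl_mulVec_injective g hxy
  -- membership in the stabiliser from a permutation
  have hmemS : ∀ g : GL (Fin m ⊕ Fin m) F, g ∈ isoGrp f → ∀ σ : Equiv.Perm (Fin t),
      (∀ i, ∀ x ∈ D i, (g : Matrix (Fin m ⊕ Fin m) (Fin m ⊕ Fin m) F) *ᵥ x ∈ D (σ i)) → g ∈ S := by
    intro g hg σ h
    refine ⟨⟨σ, fun i => ?_⟩, hg⟩
    refine Submodule.eq_of_le_of_finrank_eq ?_ ?_
    · rintro _ ⟨x, hx, rfl⟩
      simpa using h i x hx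
    · rw [← (Submodule.equivMapOfInjective _ (hinj g) (D i)).finrank_eq, hk, hk]
  have hroot : ∀ i, ∀ u ∈ D i, RootIn hf S u := fun i u hu l =>
    hmemS _ (rt_mem_iso hf u l) (Equiv.refl _) fun j x hx => rt_maps_member hf hO hu l j hx
  have hswap : ∀ i j, i ≠ j → ∃ g ∈ S, (∀ x ∈ D i, (g : Matrix (Fin m ⊕ Fin m) (Fin m ⊕ Fin m) F) *ᵥ x ∈ D j) ∧
      (∀ x ∈ D j, (g : Matrix (Fin m ⊕ Fin m) (Fin m ⊕ Fin m) F) *ᵥ x ∈ D i) ∧
      ∀ l, l ≠ i → l ≠ j → ∀ x ∈ D l, (g : Matrix (Fin m ⊕ Fin m) (Fin m ⊕ Fin m) F) *ᵥ x = x := by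
    intro i j hij
    obtain ⟨g, hg, g1, g2, g3⟩ := exists_swap hf (D i) (D j) (hO.nd i) (hO.nd j)
      (hO.orth i j hij) (by rw [hk, hk])
    refine ⟨g, hmemS g hg (Equiv.swap i j) fun l x hx => ?_, g1, g2,
      fun l hli hlj x hx => g3 x (fun u hu => hO.orth l i hli x hx u hu)
        (fun u hu => hO.orth l j hlj x hx u hu)⟩
    rcases eq_or_ne l i with rfl | hli
    · rw [Equiv.swap_apply_left]; exact g1 x hx
    rcases eq_or_ne l j with rfl | hlj
    · rw [Equiv.swap_apply_right]; exact g2 x hx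
    rw [Equiv.swap_apply_of_ne_of_ne hli hlj,
      g3 x (fun u hu => hO.orth l i hli x hx u hu) (fun u hu => hO.orth l j hlj x hx u hu)]
    exact hx
  have hne : ∀ i, D i ≠ ⊥ := fun i h => by
    have := hk i
    rw [h, finrank_bot] at this
    exact (ne_of_gt hD.decomp.pos) this.symm
  refine ⟨lt_of_le_of_ne inf_le_right fun hEq => ?_, ?_⟩
  · have h01 : (⟨0, by omega⟩ : Fin t) ≠ ⟨1, by omega⟩ := by simp
    obtain ⟨a, haD, ha0⟩ := (D ⟨0, by omega⟩).ne_bot_iff.1 (hne _)
    obtain ⟨b, hbD, hb0⟩ := (D ⟨1, by omega⟩).ne_bot_iff.1 (hne _)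
    obtain ⟨x, hxD, hx⟩ := hO.nd _ a haD ha0
    have h : rt hf (a + b) (-1) ∈ S := hEq.symm ▸ rt_mem_iso hf (a + b) (-1)
    obtain ⟨σ, hσ⟩ := h.1
    have h1 : (rt hf (a + b) (-1) : Matrix (Fin m ⊕ Fin m) (Fin m ⊕ Fin m) F) *ᵥ x ∈ D (σ ⟨0, by omega⟩) := by
      rw [← hσ]
      exact ⟨x, hxD, by simp⟩
    rw [rt_mulVec hf, f_add_right hf, hO.orth _ _ h01 x hxD b hbD, add_zero, f_skew hf x a, hx,
      neg_mul_neg, one_mul, one_smul] at h1
    have hxa : x + a ≠ 0 := fun h => by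
      rw [eq_neg_of_add_eq_zero_left h, f_neg_right hf, f_self hf, neg_zero] at hx
      exact zero_ne_one hx
    have p0 : proj hf (hO.nd ⟨0, by omega⟩) (x + (a + b)) = x + a := by
      rw [← add_assoc, proj_add hf, proj_self hf _ ((D _).add_mem hxD haD),
        proj_other hf hO h01.symm hbD, add_zero]
    have p1 : proj hf (hO.nd ⟨1, by omega⟩) (x + (a + b)) = b := by
      rw [← add_assoc, proj_add hf, proj_other hf hO h01 ((D _).add_mem hxD haD),
        proj_self hf _ hbD, zero_add]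
    rcases eq_or_ne (σ ⟨0, by omega⟩) (⟨0, by omega⟩ : Fin t) with he | he
    · exact hb0 (by rw [← p1, proj_other hf hO (fun h => h01 (he.symm.trans h)) h1])
    · exact hxa (by rw [← p0, proj_other hf hO he h1])
  intro M hSM hMS
  by_cases hM : M ≤ S
  · exact Or.inl (le_antisymm hM hSM)
  right
  obtain ⟨g, hgM, hgS⟩ := SetLike.not_le_iff_exists.1 hM
  have hgi : g ∈ isoGrp f := hMS hgM
  have hMroot : ∀ i, ∀ u ∈ D i, RootIn hf M u := fun i u hu l => hSM (hroot i u hu l)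
  have hroom : ∀ i, ∀ a ∈ D i, a ≠ 0 → ∃ b ∈ D i, b ≠ 0 ∧ b ≠ a ∧ f a b = 0 := by
    intro i a ha ha0
    by_cases hc : ∃ c : F, c ≠ 0 ∧ c ≠ 1
    · obtain ⟨c, hc0, hc1⟩ := hc
      refine ⟨c • a, (D i).smul_mem c ha, smul_ne_zero hc0 ha0, fun h => hc1 ?_,
        by rw [f_smul_right hf, f_self hf, mul_zero]⟩
      by_contra hne
      exact ha0 (by
        have : (c - 1) • a = 0 := by rw [sub_smul, one_smul, h, sub_self]
        exact (smul_eq_zero.1 this).resolve_left (sub_ne_zero.2 hne))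
    push Not at hc
    have hq : Fintype.card F = 2 := by
      classical
      have h1 : (Finset.univ : Finset F) = {0, 1} := Finset.ext fun c => by
        simp only [Finset.mem_univ, Finset.mem_insert, Finset.mem_singleton, true_iff]
        exact or_iff_not_imp_left.2 (hc c)
      rw [← Finset.card_univ, h1, Finset.card_pair zero_ne_one]
    have hk2 : k ≠ 2 := fun h => hex ⟨h, hq⟩
    obtain ⟨y, hy, hy1⟩ := hO.nd i a ha ha0
    by_contra hcon
    push Not at hcon
    have hle : D i ≤ Submodule.span F {a, y} := by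
      intro x hx
      rw [Submodule.mem_span_pair]
      have h1 : f a (x - f a x • y) = 0 := by rw [f_sub_right hf, f_smul_right hf, hy1]; ring
      have h2 := hcon (x - f a x • y) ((D i).sub_mem hx ((D i).smul_mem _ hy))
      by_cases h3 : x - f a x • y = 0
      · exact ⟨0, f a x, by rw [zero_smul, zero_add, ← sub_eq_zero.1 h3]⟩
      by_cases h4 : x - f a x • y = a
      · exact ⟨1, f a x, by rw [one_smul]; exact (sub_eq_iff_eq_add.1 h4).symm⟩
      · exact absurd h1 (h2 h3 h4)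
    have h1 := Submodule.finrank_mono hle
    classical
    have h2 : Module.finrank F (Submodule.span F ({a, y} : Set (Fin m ⊕ Fin m → F))) ≤ 2 := by
      have := finrank_span_finset_le_card (R := F) ({a, y} : Finset (Fin m ⊕ Fin m → F))
      rw [Finset.coe_insert, Finset.coe_singleton] at this
      exact this.trans Finset.card_le_two
    have h3 : k ≠ 1 := by
      intro hk1
      have hle1 : Submodule.span F {a} = D i := by
        refine Submodule.eq_of_le_of_finrank_eq ((Submodule.span_singleton_le_iff_mem _ _).2 ha) ?_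
        rw [finrank_span_singleton ha0, hk, hk1]
      obtain ⟨c, rfl⟩ := Submodule.mem_span_singleton.1 (hle1.symm ▸ hy)
      rw [f_smul_right hf, f_self hf, mul_zero] at hy1
      exact zero_ne_one hy1
    have := hk i
    have := hD.decomp.pos
    omega
  -- the property that all two-component vectors on a pair carry roots
  let Two : Fin t → Fin t → Prop := fun i j =>
    ∀ a ∈ D i, ∀ b ∈ D j, a ≠ 0 → b ≠ 0 → RootIn hf M (a + b)
  obtain ⟨i0, j0, hij0, hTwo⟩ : ∃ i j, i ≠ j ∧ Two i j := by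
    obtain ⟨l, a, ha, hmix⟩ : ∃ l, ∃ a ∈ D l, ∀ j, (g : Matrix (Fin m ⊕ Fin m) (Fin m ⊕ Fin m) F) *ᵥ a ∉ D j := by
      by_contra hcon
      push Not at hcon
      have hone : ∀ i, ∃ j, ∀ x ∈ D i, (g : Matrix (Fin m ⊕ Fin m) (Fin m ⊕ Fin m) F) *ᵥ x ∈ D j := by
        intro i
        obtain ⟨a, ha, ha0⟩ := (D i).ne_bot_iff.1 (hne i)
        obtain ⟨j, hj⟩ := hcon i a ha
        refine ⟨j, fun x hx => ?_⟩
        have hga : (g : Matrix (Fin m ⊕ Fin m) (Fin m ⊕ Fin m) F) *ᵥ a ≠ 0 := fun h => ha0 (by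
          rw [← inv_mulVec_mulVec g a, h, mulVec_zero])
        obtain ⟨l, hl⟩ := hcon i x hx
        obtain ⟨r, hr⟩ := hcon i (a + x) ((D i).add_mem ha hx)
        rcases eq_or_ne l j with rfl | hlj
        · exact hl
        rw [mulVec_add] at hr
        have e1 : proj hf (hO.nd j) ((g : Matrix (Fin m ⊕ Fin m) (Fin m ⊕ Fin m) F) *ᵥ a + (g : Matrix (Fin m ⊕ Fin m) (Fin m ⊕ Fin m) F) *ᵥ x) =
            (g : Matrix (Fin m ⊕ Fin m) (Fin m ⊕ Fin m) F) *ᵥ a := by
          rw [proj_add hf, proj_self hf _ hj, proj_other hf hO hlj hl, add_zero]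
        rcases eq_or_ne r j with rfl | hrj
        · simpa using (D r).sub_mem hr hj
        · rw [proj_other hf hO hrj hr] at e1
          exact absurd e1.symm hga
      choose σ hσ using hone
      have hσinj : Function.Injective σ := by
        intro i i' he
        by_contra hii
        have hle : (D i ⊔ D i').map (Matrix.toLin' (g : Matrix (Fin m ⊕ Fin m) (Fin m ⊕ Fin m) F)) ≤ D (σ i) := by
          rw [Submodule.map_sup, sup_le_iff]
          constructor
          · rintro _ ⟨x, hx, rfl⟩; simpa using hσ i x hx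
          · rintro _ ⟨x, hx, rfl⟩; simpa [he] using hσ i' x hx
        have h1 := Submodule.finrank_mono hle
        rw [← (Submodule.equivMapOfInjective _ (hinj g) _).finrank_eq, hk] at h1
        have h2 := Submodule.finrank_sup_add_finrank_inf_eq (D i) (D i')
        have h3 : D i ⊓ D i' = ⊥ := eq_bot_iff.2 fun x hx => dec_inj hf hO hii hx.1 hx.2
        rw [h3, finrank_bot, hk, hk] at h2
        have := hD.decomp.pos
        omega
      exact hgS (hmemS g hgi (Equiv.ofBijective σ (Finite.injective_iff_bijective.1 hσinj)) hσ)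
    set u := (g : Matrix (Fin m ⊕ Fin m) (Fin m ⊕ Fin m) F) *ᵥ a with hu
    have huR : RootIn hf M u := (hMroot l a ha).conj hf hgM hgi
    obtain ⟨i, hi⟩ : ∃ i, proj hf (hO.nd i) u ≠ 0 := by
      by_contra h
      push Not at h
      apply hmix l
      rw [← sum_proj hf hO u, Finset.sum_eq_zero fun i _ => h i]
      exact (D l).zero_mem
    obtain ⟨j, hji, hj⟩ : ∃ j, j ≠ i ∧ proj hf (hO.nd j) u ≠ 0 := by
      by_contra h
      push Not at h
      apply hmix i
      rw [← sum_proj hf hO u, Finset.sum_eq_single i (fun j _ hj => h j hj)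
        (fun h => absurd (Finset.mem_univ i) h)]
      exact proj_mem hf _ u
    obtain ⟨a', ha', b', hb', ha'0, hb'0, hR⟩ :=
      rootIn_two_of_many hf hO hMroot hroom huR hji.symm hi hj
    refine ⟨i, j, hji.symm, fun x hx y hy hx0 hy0 => ?_⟩
    have q1 : proj hf (hO.nd i) (a' + b') = a' := by
      rw [proj_add hf, proj_self hf _ ha', proj_other hf hO hji hb', add_zero]
    have h1 := rootIn_replace hf hO hMroot hR i (q1.symm ▸ ha'0) hx hx0
    rw [q1, add_sub_cancel_left] at h1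
    have q2 : proj hf (hO.nd j) (b' + x) = b' := by
      rw [proj_add hf, proj_self hf _ hb', proj_other hf hO hji.symm hx, add_zero]
    have h2 := rootIn_replace hf hO hMroot h1 j (q2.symm ▸ hb'0) hy hy0
    rw [q2, add_sub_cancel_left] at h2
    exact h2
  have hsymm : ∀ i j, Two i j → Two j i := fun i j h a ha b hb ha0 hb0 => by
    rw [add_comm]; exact h b hb a ha hb0 ha0
  have hshift : ∀ i j c, i ≠ j → c ≠ j → Two i j → Two c j := by
    intro i j c hij hcj h
    rcases eq_or_ne i c with rfl | hic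
    · exact h
    obtain ⟨s, hs, s1, s2, s3⟩ := hswap c i (Ne.symm hic)
    intro a ha b hb ha0 hb0
    have hsa : (s : Matrix (Fin m ⊕ Fin m) (Fin m ⊕ Fin m) F) *ᵥ a ∈ D i := s1 a ha
    have hsa0 : (s : Matrix (Fin m ⊕ Fin m) (Fin m ⊕ Fin m) F) *ᵥ a ≠ 0 := fun h => ha0 (by
      rw [← inv_mulVec_mulVec s a, h, mulVec_zero])
    have hr := (h _ hsa b hb hsa0 hb0).conj hf (M.inv_mem (hSM hs)) (Subgroup.inv_mem _ hs.2)
    rw [mulVec_add, inv_mulVec_mulVec] at hr
    have hsb : ((s⁻¹ : GL (Fin m ⊕ Fin m) F) : Matrix (Fin m ⊕ Fin m) (Fin m ⊕ Fin m) F) *ᵥ b = b := by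
      conv_lhs => rw [← s3 j hcj.symm hij.symm b hb, inv_mulVec_mulVec]
    rwa [hsb] at hr
  refine le_antisymm hMS ?_
  rw [spGL_eq_isoGrp]
  refine iso_le_of_roots hf (rootIn_all hf hO hMroot ?_)
  intro x y hxy
  show Two x y
  rcases eq_or_ne x j0 with rfl | hxj
  · rcases eq_or_ne y i0 with rfl | hyi
    · exact hsymm _ _ hTwo
    · exact hsymm _ _ (hshift i0 x y hij0 hxy.symm hTwo)
  · have h1 := hshift i0 j0 x hij0 hxj hTwo
    rcases eq_or_ne y j0 with rfl | hyj
    · exact h1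
    · exact hsymm _ _ (hshift j0 x y hxj.symm hxy.symm (hsymm _ _ h1))
end

section

open Matrix Module Cfsg.Agent.H98 Cfsg.Agent.H98.ExtField Cfsg.Agent.H98.ExtSp

theorem extension {F : Type*} [Field F] [Fintype F] (m : ℕ) (hm : 1 ≤ m) (hq : ∃ c : F, c ≠ 0 ∧ c ≠ 1) (r : ℕ) (hr : r.Prime) (K : Subalgebra F (Matrix (Fin m ⊕ Fin m) (Fin m ⊕ Fin m) F)) (hK : Cfsg.Geo.IsFieldSubalgebra r K) (hsa : Cfsg.Geo.IsSelfAdjointFor (Cfsg.sympForm m F) K) (halt : ∀ k ∈ K, ∀ v : (Fin m ⊕ Fin m → F), Cfsg.sympForm m F (Matrix.mulVec k v) v = 0) : Cfsg.Geo.IsMaximalIn (Cfsg.spGL m F) (Cfsg.Geo.subalgebraNormalizer K ⊓ Cfsg.spGL m F) := by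
  classical
  haveI : NeZero m := ⟨by omega⟩
  have hfield : IsField K :=
    { exists_pair_ne := ⟨0, 1, fun h => zero_ne_one
        (congrArg Subtype.val h : (0 : Matrix (Fin m ⊕ Fin m) (Fin m ⊕ Fin m) F) = 1)⟩
      mul_comm := fun a b => Subtype.ext (hK.comm _ a.2 _ b.2)
      mul_inv_cancel := fun {a} ha => by
        obtain ⟨y, hy, h⟩ := hK.inv a.1 a.2 (fun h => ha (Subtype.ext h))
        exact ⟨⟨y, hy⟩, Subtype.ext h⟩ }
  letI : Field K := hfield.toField
  let eA : Matrix (Fin m ⊕ Fin m) (Fin m ⊕ Fin m) F ≃ₐ[F] Module.End F (Fin m ⊕ Fin m → F) :=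
    Matrix.toLinAlgEquiv'
  let ρ : K →ₐ[F] Module.End F (Fin m ⊕ Fin m → F) := eA.toAlgHom.comp K.val
  letI hmod : Module K (Fin m ⊕ Fin m → F) := Module.compHom (Fin m ⊕ Fin m → F) ρ.toRingHom
  have hsmul : ∀ (k : K) (x : Fin m ⊕ Fin m → F),
      k • x = (k : Matrix (Fin m ⊕ Fin m) (Fin m ⊕ Fin m) F) *ᵥ x := fun k x => rfl
  haveI : @IsScalarTower F K (Fin m ⊕ Fin m → F) Algebra.toSMul
      hmod.toDistribMulAction.toDistribSMul.toSMulZeroClass.toSMul _ := ⟨fun c k x => by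
    show ((c • k : K) : Matrix (Fin m ⊕ Fin m) (Fin m ⊕ Fin m) F) *ᵥ x =
      c • ((k : Matrix (Fin m ⊕ Fin m) (Fin m ⊕ Fin m) F) *ᵥ x)
    exact Matrix.smul_mulVec c _ x⟩
  haveI : FiniteDimensional F K := Module.finite_of_finrank_pos (by rw [hK.finrank_eq]; exact hr.pos)
  have hr' : (finrank F K).Prime := hK.finrank_eq ▸ hr
  have hf := H95.isSymplecticForm_sympForm (F := F) m
  -- the form over `K`
  obtain ⟨τ, hτ⟩ : ∃ τ : K →ₗ[F] F, τ ≠ 0 := by
    obtain ⟨τ, h1, -⟩ := Submodule.exists_dual_map_eq_bot_of_notMem (p := (⊥ : Submodule F K)) (x := (1 : K))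
      (by simp) inferInstance
    exact ⟨τ, fun h => h1 (by rw [h]; rfl)⟩
  have hsep : ∀ a : K, (∀ s : K, τ (s * a) = 0) → a = 0 := fun a h => by
    by_contra ha
    refine hτ (LinearMap.ext fun b => ?_)
    have := h (b * a⁻¹)
    rwa [mul_assoc, inv_mul_cancel₀ ha, mul_one] at this
  let χ : (Fin m ⊕ Fin m → F) → (Fin m ⊕ Fin m → F) →ₗ[F] F := fun v =>
    { toFun := fun u => Cfsg.sympForm m F u v
      map_add' := fun x y => H95.f_add_left hf x y v
      map_smul' := fun c x => H95.f_smul_left hf c x v }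
  choose G hG _hG using fun v => exists_factor (K := K) hτ (χ v)
  have hGu : ∀ v u (s : K), τ (s * G v u) = Cfsg.sympForm m F (s • u) v := fun v u s => by
    rw [show Cfsg.sympForm m F (s • u) v = χ v (s • u) from rfl, hG, map_smul, smul_eq_mul]
  let B' : (Fin m ⊕ Fin m → F) →ₗ[K] (Fin m ⊕ Fin m → F) →ₗ[K] K :=
    { toFun := G
      map_add' := fun v v' => LinearMap.ext fun u => sub_eq_zero.1 (hsep _ fun s => by
        rw [LinearMap.add_apply, mul_sub, mul_add, map_sub, map_add, hGu, hGu, hGu, H95.f_add_right hf, sub_self])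
      map_smul' := fun k v => LinearMap.ext fun u => sub_eq_zero.1 (hsep _ fun s => by
        rw [RingHom.id_apply, LinearMap.smul_apply, smul_eq_mul, mul_sub, map_sub, hGu, ← mul_assoc, hGu, mul_comm,
          mul_smul]
        simp only [hsmul]
        rw [hsa k.1 k.2]
        exact sub_self _) }
  let S : Form F K (Fin m ⊕ Fin m → F) :=
    { B := B'.flip
      alt := fun x => hsep _ fun s => by
        rw [LinearMap.flip_apply, show B' x x = G x x from rfl, hGu, hsmul, halt s.1 s.2]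
      nd := fun x h => by
        by_contra hx
        obtain ⟨-, y, hy⟩ := hf.nondegenerate x hx
        refine hy ?_
        rw [show Cfsg.sympForm m F x y = χ y x from rfl, hG, show G y x = B'.flip x y from rfl, h, map_zero]
      τ := τ
      τ_ne := hτ }
  have hSf : ∀ u v, S.f u v = Cfsg.sympForm m F u v := fun u v => (hG v u).symm
  -- the correspondence with matrices
  let e : GL (Fin m ⊕ Fin m) F ≃* (Module.End F (Fin m ⊕ Fin m → F))ˣ := Units.mapEquiv eA.toMulEquiv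
  have he : ∀ (g : GL (Fin m ⊕ Fin m) F) (x : Fin m ⊕ Fin m → F),
      (e g : Module.End F (Fin m ⊕ Fin m → F)) x = (g : Matrix (Fin m ⊕ Fin m) (Fin m ⊕ Fin m) F) *ᵥ x :=
    fun g x => rfl
  set N := Cfsg.Geo.subalgebraNormalizer K with hN
  have hlin : ∀ u : (Module.End F (Fin m ⊕ Fin m → F))ˣ,
      (∀ (k : K) x, (u : Module.End F (Fin m ⊕ Fin m → F)) (k • x) =
        k • (u : Module.End F (Fin m ⊕ Fin m → F)) x) → e.symm u ∈ N := by
    intro u hu k
    obtain ⟨g, rfl⟩ := e.surjective u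
    rw [MulEquiv.symm_apply_apply]
    have hcomm : ∀ x ∈ K, (g : Matrix (Fin m ⊕ Fin m) (Fin m ⊕ Fin m) F) * x = x * g := fun x hx =>
      Matrix.ext_iff_mulVec.2 fun v => by
        rw [← Matrix.mulVec_mulVec, ← Matrix.mulVec_mulVec]
        simpa only [he, hsmul] using hu ⟨x, hx⟩ v
    constructor
    · intro hk
      rw [hcomm k hk, mul_assoc, Units.mul_inv, mul_one]
      exact hk
    · intro hk
      have h := hcomm _ hk
      rw [show ∀ G I : Matrix (Fin m ⊕ Fin m) (Fin m ⊕ Fin m) F, G * k * I * G = G * k * (I * G) from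
          fun G I => mul_assoc _ _ _,
        Units.inv_mul, mul_one, Units.mul_right_inj] at h
      exact h ▸ hk
  obtain ⟨k₁, hk₁, hk₁'⟩ : ∃ k ∈ K, k ∉ (⊥ : Subalgebra F (Matrix (Fin m ⊕ Fin m) (Fin m ⊕ Fin m) F)) := by
    by_contra hc
    push Not at hc
    have h1 : K = ⊥ := le_antisymm hc bot_le
    have := hK.finrank_eq
    rw [h1, Subalgebra.finrank_bot] at this
    exact hr.one_lt.ne this
  -- a transvection outside the normaliser
  obtain ⟨v, hv⟩ := exists_ne (0 : Fin m ⊕ Fin m → F)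
  set t := H95.rt hf v (1 : F) with ht
  have htN : t ∉ N := by
    intro h
    have hk' := (h k₁).1 hk₁
    set k' : K := ⟨_, hk'⟩ with hk'def
    have htv : (t : Matrix (Fin m ⊕ Fin m) (Fin m ⊕ Fin m) F) *ᵥ v = v := H95.rt_fix hf (H95.f_self hf v) 1
    have htinv : ((t⁻¹ : GL (Fin m ⊕ Fin m) F) : Matrix (Fin m ⊕ Fin m) (Fin m ⊕ Fin m) F) *ᵥ v = v := by
      conv_lhs => rw [← htv, H95.inv_mulVec_mulVec]
    have h1 : k' • v = (⟨k₁, hk₁⟩ : K) • v := by
      rw [hsmul, hsmul, ← Matrix.mulVec_mulVec, ← Matrix.mulVec_mulVec, htinv,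
        H95.rt_fix hf (halt k₁ hk₁ v) 1]
    have h2 : k' = (⟨k₁, hk₁⟩ : K) := smul_left_injective K hv h1
    have h3 : (t : Matrix (Fin m ⊕ Fin m) (Fin m ⊕ Fin m) F) * k₁ = k₁ * t :=
      calc _ = (k' : Matrix (Fin m ⊕ Fin m) (Fin m ⊕ Fin m) F) * t := by
            rw [hk'def, Subtype.coe_mk, mul_assoc, Units.inv_mul, mul_one]
        _ = _ := by rw [h2]
    obtain ⟨x, hx⟩ := S.exists_f_one hv
    rw [hSf] at hx
    have h4 := congrArg (fun A : Matrix (Fin m ⊕ Fin m) (Fin m ⊕ Fin m) F => A *ᵥ x) h3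
    simp only [← Matrix.mulVec_mulVec, ht, H95.rt_mulVec hf, hx, mul_one, one_smul, Matrix.mulVec_add,
      add_right_inj] at h4
    have h5 : (⟨k₁, hk₁⟩ : K) = Cfsg.sympForm m F (k₁ *ᵥ x) v • (1 : K) := by
      refine smul_left_injective K hv ?_
      show (⟨k₁, hk₁⟩ : K) • v = (Cfsg.sympForm m F (k₁ *ᵥ x) v • (1 : K)) • v
      rw [smul_assoc, one_smul, hsmul]
      simpa using h4.symm
    exact hk₁' (Algebra.mem_bot.2 ⟨Cfsg.sympForm m F (k₁ *ᵥ x) v, by
      rw [Algebra.algebraMap_eq_smul_one]; exact (congrArg Subtype.val h5).symm⟩)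
  refine ⟨lt_of_le_of_ne inf_le_right fun h => htN <| by
      have h' : t ∈ Cfsg.spGL m F := H95.rt_mem_iso hf v 1
      rw [← h] at h'
      exact h'.1,
    fun M h1 h2 => ?_⟩
  by_cases hMN : M ≤ N
  · exact Or.inl (le_antisymm (le_inf hMN h2) h1)
  refine Or.inr (le_antisymm h2 ?_)
  have hM : S.Over (M.map e.toMonoidHom) := by
    refine ⟨fun u hu hB => ⟨e.symm u, h1 ⟨hlin u hu, fun a b => ?_⟩, e.apply_symm_apply u⟩, ?_⟩
    · show Cfsg.sympForm m F ((e.symm u : GL (Fin m ⊕ Fin m) F).val *ᵥ a) ((e.symm u).val *ᵥ b) = _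
      rw [← he, ← he, e.apply_symm_apply, ← hSf, ← hSf, Form.f, Form.f, hB]
    · rintro _ ⟨g, hg, rfl⟩ a b
      rw [hSf, hSf]
      exact h2 hg a b
  obtain ⟨g, hg, k, hk, hgk⟩ : ∃ g ∈ M, ∃ k ∈ K, (g : Matrix (Fin m ⊕ Fin m) (Fin m ⊕ Fin m) F) * k *
      ((g⁻¹ : GL (Fin m ⊕ Fin m) F) : Matrix (Fin m ⊕ Fin m) (Fin m ⊕ Fin m) F) ∉ K := by
    obtain ⟨g, hg, hgN⟩ := SetLike.not_le_iff_exists.1 hMN
    by_contra hc
    push Not at hc
    refine hgN fun k => ⟨hc g hg k, fun h => ?_⟩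
    have := hc g⁻¹ (M.inv_mem hg) _ h
    simpa [mul_assoc] using this
  have hne' : ∀ k' : K, ∃ x, (e g : Module.End F (Fin m ⊕ Fin m → F))
      ((⟨k, hk⟩ : K) • (((e g)⁻¹ : (Module.End F (Fin m ⊕ Fin m → F))ˣ) : Module.End F (Fin m ⊕ Fin m → F)) x)
        ≠ k' • x := by
    intro k'
    by_contra hc
    push Not at hc
    refine hgk ?_
    convert k'.2 using 1
    refine Matrix.ext_iff_mulVec.2 fun v => ?_
    have := hc v
    rw [← map_inv, he, he, hsmul, hsmul] at this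
    simpa only [Matrix.mulVec_mulVec, mul_assoc] using this
  have hall := hM.root_all_of_four (M := M.map e.toMonoidHom) hr' hq
    (Subgroup.mem_map_of_mem _ hg) hne'
  rw [H95.spGL_eq_isoGrp]
  refine H95.iso_le_of_roots hf fun u c => ?_
  obtain ⟨-, w, ⟨g', hg', rfl⟩, hw⟩ := hall u c
  suffices H95.rt hf u c = g' by rw [this]; exact hg'
  refine H95.gl_ext fun x => ?_
  have hx := (LinearMap.congr_fun hw x).symm
  rw [LinearMap.add_apply, Module.End.one_apply] at hx
  simp only [MulEquiv.coe_toMonoidHom, he, LinearMap.smulRight_apply, LinearMap.smul_apply, Form.fL_apply, hSf,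
    smul_eq_mul] at hx
  rw [← hx, H95.rt_mulVec hf]

end

section

open Matrix Cfsg.Agent.H95 Cfsg.Agent.Symplectic Cfsg.Agent.S5650

theorem subfield_main {ι : Type} [Fintype ι] [DecidableEq ι] {F : Type*} [Field F] [Fintype F]
    [CharP F 2] (hn : 4 ≤ Fintype.card ι) (F₀ : Subfield F) (r : ℕ) (hr : r.Prime)
    (hcard : Fintype.card F = Nat.card F₀ ^ r) (P : GL ι F) {f : (ι → F) → (ι → F) → F}
    (hf : Geo.IsSymplecticForm f)
    (hP : ∀ u v : ι → F, (∀ i, u i ∈ F₀) → (∀ i, v i ∈ F₀) →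
      f ((P : Matrix ι ι F) *ᵥ u) ((P : Matrix ι ι F) *ᵥ v) ∈ F₀) :
    Geo.IsMaximalIn (isoGrp f) (Geo.subfieldSubgroup F₀ P ⊓ isoGrp f) := by
  set V₀ := V0 F₀ P
  have R : RatForm f F₀ V₀ := ratForm_V0 F₀ P hf hP
  haveI : Nonempty ι := Fintype.card_pos_iff.1 (by omega)
  have hlt : Geo.subfieldSubgroup F₀ P ⊓ isoGrp f < isoGrp f := by
    refine lt_of_le_of_ne inf_le_right fun hEq => ?_
    have hall : ∀ a : F, a ∈ F₀ := by
      intro a
      obtain ⟨i⟩ := ‹Nonempty ι›
      set e : ι → F := (P : Matrix ι ι F) *ᵥ Pi.single i 1 with he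
      have he0 : e ≠ 0 := by
        intro h0
        have := inv_mulVec_mulVec P (Pi.single i (1 : F))
        rw [← he, h0, mulVec_zero] at this
        simpa using congrFun this i
      have hev : e ∈ V₀ := col_mem F₀ P i
      obtain ⟨e', he', hee⟩ := R.exists_partner hev he0
      have : rt hf e a ∈ Geo.subfieldSubgroup F₀ P :=
        ((hEq.symm ▸ rt_mem_iso hf e a : rt hf e a ∈ Geo.subfieldSubgroup F₀ P ⊓ isoGrp f)).1
      obtain ⟨c, hc, hcv⟩ := scalar_of_mem F₀ P this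
      have h1 := hcv e hev
      rw [rt_fix hf (f_self hf e)] at h1
      have hcF : c⁻¹ ∈ F₀ := by
        have := h1 i
        rwa [mulVec_smul, he, inv_mulVec_mulVec, Pi.smul_apply, Pi.single_eq_same, smul_eq_mul,
          mul_one] at this
      have h2 := mem_V0_smul F₀ P (F₀.inv_mem hcF) (hcv e' he')
      rw [inv_inv, smul_inv_smul₀ hc, rt_mulVec hf] at h2
      have h3 := V₀.sub_mem h2 he'
      rw [add_sub_cancel_left, f_skew hf, hee] at h3
      have := h3 i
      rw [mulVec_smul, he, inv_mulVec_mulVec, Pi.smul_apply, Pi.single_eq_same, smul_eq_mul,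
        mul_one, mul_neg, mul_one] at this
      simpa using F₀.neg_mem this
    have h1 : Nat.card F₀ = Fintype.card F := by
      rw [← Nat.card_eq_fintype_card]
      exact Nat.card_congr (Equiv.subtypeUnivEquiv hall)
    rw [h1] at hcard
    have h2 := Nat.pow_lt_pow_right (Fintype.one_lt_card (α := F)) hr.one_lt
    rw [pow_one, ← hcard] at h2
    exact lt_irrefl _ h2
  refine ⟨hlt, fun M hSM hMK => ?_⟩
  by_contra hne
  push Not at hne
  have hS : ∀ c ∈ F₀, InA R.symp V₀ M c := fun c hc v hv =>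
    hSM ⟨mem_subfieldSubgroup_of F₀ P one_ne_zero fun x hx => by
      rw [inv_one, one_smul, rt_mulVec hf]
      exact V₀.add_mem hx (mem_V0_smul F₀ P (F₀.mul_mem hc (R.rat x hx v hv)) hv),
      rt_mem_iso hf v c⟩
  by_cases hA : ∀ a, InA R.symp V₀ M a → a ∈ F₀
  · refine hne.1 (le_antisymm (fun g hg => ⟨?_, hMK hg⟩) hSM)
    have hgi := hMK hg
    have each : ∀ v ∈ V₀, v ≠ 0 →
        ∃ c : F, c ≠ 0 ∧ c ^ 2 ∈ F₀ ∧ c⁻¹ • ((g : Matrix ι ι F) *ᵥ v) ∈ V₀ := by
      intro v hv hv0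
      have hw : rt R.symp ((g : Matrix ι ι F) *ᵥ v) 1 ∈ M := by
        rw [← conj_rt R.symp hgi]; exact conj_mem hg (hS 1 F₀.one_mem v hv)
      exact ⟨1, one_ne_zero, by rw [one_pow]; exact F₀.one_mem, by
        rw [inv_one, one_smul]; exact RatTwo.two_rational R hS hn hA hw⟩
    obtain ⟨j⟩ := ‹Nonempty ι›
    set v0 : ι → F := (P : Matrix ι ι F) *ᵥ Pi.single j 1 with hv0
    have hv0n : v0 ≠ 0 := by
      intro h0
      have := inv_mulVec_mulVec P (Pi.single j (1 : F))
      rw [← hv0, h0, mulVec_zero] at this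
      simpa using congrFun this j
    have hv0m : v0 ∈ V₀ := col_mem F₀ P j
    obtain ⟨c0, hc0, hc0s, hc0v⟩ := each v0 hv0m hv0n
    refine mem_subfieldSubgroup_of F₀ P hc0 ?_
    have near : ∀ v ∈ V₀, f v0 v ≠ 0 → c0⁻¹ • ((g : Matrix ι ι F) *ᵥ v) ∈ V₀ := by
      intro v hv hh
      obtain ⟨c, hc, hcs, hcv⟩ := each v hv (by rintro rfl; exact hh (f_zero_right hf v0))
      have h1 := R.rat _ hc0v _ hcv
      rw [f_smul_left hf, f_smul_right hf, mem_isoGrp.1 hgi] at h1
      have h2 : c / c0 ∈ F₀ := by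
        have := F₀.div_mem (F₀.div_mem (R.rat v0 hv0m v hv) h1) hc0s
        convert this using 1
        field_simp
      have := mem_V0_smul F₀ P h2 hcv
      rwa [smul_smul, show c / c0 * c⁻¹ = c0⁻¹ by field_simp] at this
    intro v hv
    by_cases hh : f v0 v = 0
    · obtain ⟨v1, hv1, h01⟩ := R.exists_partner hv0m hv0n
      have h1 := near _ (V₀.add_mem hv hv1)
        (by rw [f_add_right hf, hh, h01, zero_add]; exact one_ne_zero)
      have h2 := V₀.sub_mem h1 (near v1 hv1 (by rw [h01]; exact one_ne_zero))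
      rwa [← smul_sub, ← mulVec_sub, add_sub_cancel_right] at h2
    · exact near v hv hh
  · push Not at hA
    obtain ⟨a, ha, haF⟩ := hA
    exact hne.2 (le_antisymm hMK (R.iso_le_of_all fun b => RatTwo.inA_all R hS hn hr hcard ha haF b))

theorem subfield {F : Type*} [Field F] [Fintype F] [CharP F 2] (m : ℕ) (hm : 2 ≤ m) (F₀ : Subfield F) (r : ℕ) (hr : r.Prime) (hcard : Fintype.card F = Nat.card F₀ ^ r) (P : Matrix.GeneralLinearGroup (Fin m ⊕ Fin m) F) (ζ : F) (hζ : ζ ≠ 0) (hP : Cfsg.Geo.IsFormRationalStructure (Cfsg.sympForm m F) F₀ ζ P) : Cfsg.Geo.IsMaximalIn (Cfsg.spGL m F) (Cfsg.Geo.subfieldSubgroup F₀ P ⊓ Cfsg.spGL m F) := by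
  have hiso : Cfsg.spGL m F = isoGrp fun u v => ζ * Cfsg.sympForm m F u v := by
    ext g
    rw [spGL_eq_isoGrp, mem_isoGrp, mem_isoGrp]
    exact forall₂_congr fun u v => (mul_right_inj' hζ).symm
  rw [hiso]
  exact subfield_main (by simp; omega) F₀ r hr hcard P (smul_symp (isSymplecticForm_sympForm m) hζ) hP

end

end Cfsg.Agent.H39.SympSmall
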