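import Mathlib.GroupTheory.Perm.Fin
import Mathlib.SetTheory.Cardinal.Finite
import Mathlib.Data.Fintype.Perm
import Mathlib.GroupTheory.Index
import Mathlib.Algebra.Group.End

/-!
A group permuting three pairwise disjoint sets by conjugation.
-/

namespace Cfsg.Agent.H39

variable {G : Type*} [Group G]

/-- `N` permutes the three pairwise disjoint nonempty sets `F`. -/
structure Tri (N : Subgroup G) (F : Fin 3 → Set G) : Prop where
  nonempty : ∀ i, (F i).Nonempty
  disjoint : ∀ i j a, a ∈ F i → a ∈ F j → i = j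
  perm : ∀ g ∈ N, ∀ i, ∃ j, ∀ a ∈ F i, g * a * g⁻¹ ∈ F j

namespace Tri

variable {N : Subgroup G} {F : Fin 3 → Set G} (h : Tri N F)
include h

theorem unique {g : G} {i j j' : Fin 3} (h1 : ∀ a ∈ F i, g * a * g⁻¹ ∈ F j)
    (h2 : ∀ a ∈ F i, g * a * g⁻¹ ∈ F j') : j = j' := by
  obtain ⟨a, ha⟩ := h.nonempty i
  exact h.disjoint _ _ _ (h1 a ha) (h2 a ha)

/-- The permutation induced by an element. -/
noncomputable def img (g : N) (i : Fin 3) : Fin 3 := (h.perm g g.2 i).choose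

theorem img_spec (g : N) (i : Fin 3) : ∀ a ∈ F i, (g : G) * a * (g : G)⁻¹ ∈ F (h.img g i) :=
  (h.perm g g.2 i).choose_spec

theorem img_mul (g g' : N) (i : Fin 3) : h.img (g * g') i = h.img g (h.img g' i) :=
  h.unique (h.img_spec (g * g') i) fun a ha => by
    have := h.img_spec g _ _ (h.img_spec g' i a ha)
    simpa [mul_assoc] using this

theorem img_one (i : Fin 3) : h.img 1 i = i :=
  h.unique (h.img_spec 1 i) fun a ha => by simpa using ha

/-- The permutation representation. -/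
noncomputable def hom : N →* Equiv.Perm (Fin 3) :=
  MonoidHom.mk' (fun g => ⟨h.img g, h.img g⁻¹, fun i => by rw [← h.img_mul, inv_mul_cancel, h.img_one],
    fun i => by rw [← h.img_mul, mul_inv_cancel, h.img_one]⟩)
    fun g g' => Equiv.ext fun i => h.img_mul g g' i

theorem hom_spec (g : N) (i : Fin 3) : ∀ a ∈ F i, (g : G) * a * (g : G)⁻¹ ∈ F (h.hom g i) :=
  h.img_spec g i

theorem mem_ker {g : N} : g ∈ h.hom.ker ↔ ∀ i, ∀ a ∈ F i, (g : G) * a * (g : G)⁻¹ ∈ F i := by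
  rw [MonoidHom.mem_ker]
  refine ⟨fun e i a ha => ?_, fun e => Equiv.ext fun i => h.unique (h.hom_spec g i) (e i)⟩
  have := h.hom_spec g i a ha
  rwa [e] at this

theorem card_range_dvd : Nat.card h.hom.range ∣ 6 := by
  have := h.hom.range.card_subgroup_dvd_card
  rw [Nat.card_eq_fintype_card (α := Equiv.Perm (Fin 3)), Fintype.card_perm, Fintype.card_fin] at this
  exact this

/-- If the image has order divisible by three, a three-cycle is induced inside every subgroup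
containing `4 ^ e`-th powers. -/
theorem exists_cycle (h3 : 3 ∣ Nat.card h.hom.range) (K : Subgroup G)
    (hK : ∀ g ∈ N, ∃ e : ℕ, g ^ (4 ^ e) ∈ K) :
    ∃ g ∈ N, g ∈ K ∧ ∀ i, ∀ a ∈ F i, g * a * g⁻¹ ∈ F (i + 1) := by
  have : Fact (Nat.Prime 3) := ⟨Nat.prime_three⟩
  obtain ⟨σ, hσ⟩ := exists_prime_orderOf_dvd_card' 3 h3
  have key : ∀ τ : Equiv.Perm (Fin 3), τ * τ * τ = 1 → τ ≠ 1 →
      (∀ i, τ i = i + 1) ∨ ∀ i, (τ * τ) i = i + 1 := by decide
  have hs3 : (σ : Equiv.Perm (Fin 3)) * σ * σ = 1 := by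
    have e : σ ^ 3 = 1 := by
      have := pow_orderOf_eq_one σ
      rwa [hσ] at this
    rw [← pow_two, ← pow_succ, ← Subgroup.coe_pow, e, Subgroup.coe_one]
  have hsne : (σ : Equiv.Perm (Fin 3)) ≠ 1 := fun e => by
    rw [show σ = 1 from Subtype.ext e, orderOf_one] at hσ; omega
  obtain ⟨g, hg⟩ : ∃ g : N, ∀ i, h.hom g i = i + 1 := by
    obtain ⟨g, hg⟩ := σ.2
    rcases key _ hs3 hsne with e | e
    · exact ⟨g, fun i => by rw [hg]; exact e i⟩
    · exact ⟨g * g, fun i => by rw [map_mul, hg]; exact e i⟩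
  obtain ⟨e, he⟩ := hK g g.2
  refine ⟨(g : G) ^ (4 ^ e), pow_mem g.2 _, he, fun i a ha => ?_⟩
  have hg3 : h.hom g ^ 3 = 1 := Equiv.ext fun i => by
    rw [pow_succ', pow_succ', pow_one, Equiv.Perm.mul_apply, Equiv.Perm.mul_apply, hg, hg, hg,
      Equiv.Perm.one_apply]
    revert i; decide
  obtain ⟨q, hq⟩ : ∃ q, 4 ^ e = 3 * q + 1 := by
    have := Nat.ModEq.pow e (show 4 ≡ 1 [MOD 3] by rfl)
    rw [one_pow, Nat.ModEq] at this
    exact ⟨4 ^ e / 3, by omega⟩
  have := h.hom_spec (g ^ (4 ^ e)) i a ha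
  rw [map_pow, hq, pow_succ, pow_mul, hg3, one_pow, one_mul, hg] at this
  simpa [← hq] using this

end Tri

end Cfsg.Agent.H39
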