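import Cfsg.Prelude.Def_CaseTheorems
import Cfsg.Agent.H39.Basic
import Cfsg.Agent.H39.Dihedral
import Mathlib.Algebra.Order.Ring.Int
import Mathlib.Data.Set.Card
import Mathlib.Data.ZMod.Basic
import Mathlib.Tactic.LinearCombination
import Mathlib.Tactic.Linarith

/-!
Calculus in a wreathed 2-group `Z_{2^n} ≀ Z_2`, `n = m + 2`.  Exponents are integers and `M = 2 ^ m`,
so the order of `x` is `4 M`.
-/

namespace Cfsg.Agent.H39

variable {S : Type*} [Group S]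

/-- Generators of a wreathed group. -/
structure WGen (m : ℕ) (x y z : S) : Prop where
  card : Nat.card S = 2 ^ (2 * (m + 2) + 1)
  ox : orderOf x = 2 ^ (m + 2)
  comm : Commute x y
  disj : Subgroup.zpowers x ⊓ Subgroup.zpowers y = ⊥
  oz : orderOf z = 2
  swap : z * x * z⁻¹ = y

theorem exists_wGen (hS : Cfsg.IsWreathed S) : ∃ (m : ℕ) (x y z : S), WGen m x y z := by
  obtain ⟨n, hn, hc, x, y, z, hx, hxy, hd, hz, hzx⟩ := hS
  obtain ⟨m, rfl⟩ : ∃ m, n = m + 2 := ⟨n - 2, by omega⟩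
  exact ⟨m, x, y, z, hc, hx, hxy, hd, hz, hzx⟩

namespace WGen

variable {m : ℕ} {x y z : S} (h : WGen m x y z)
include h

theorem oy : orderOf y = 2 ^ (m + 2) := by rw [← h.swap, orderOf_conj, h.ox]

theorem z_mul_self : z * z = 1 := mul_self_of_orderOf_eq_two h.oz

theorem swap' : z * y * z⁻¹ = x := by
  rw [← h.swap, inv_eq_of_orderOf_eq_two h.oz]
  simp only [← mul_assoc, h.z_mul_self, one_mul]
  rw [mul_assoc, h.z_mul_self, mul_one]

theorem zpow_eq_one_x {a : ℤ} : x ^ a = 1 ↔ (4 * 2 ^ m : ℤ) ∣ a := by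
  rw [← orderOf_dvd_iff_zpow_eq_one, h.ox, show ((2 ^ (m + 2) : ℕ) : ℤ) = 4 * 2 ^ m by push_cast; ring]

theorem zpow_eq_one_y {a : ℤ} : y ^ a = 1 ↔ (4 * 2 ^ m : ℤ) ∣ a := by
  rw [← orderOf_dvd_iff_zpow_eq_one, h.oy, show ((2 ^ (m + 2) : ℕ) : ℤ) = 4 * 2 ^ m by push_cast; ring]

theorem mul_in (a b c d : ℤ) : x ^ a * y ^ b * (x ^ c * y ^ d) = x ^ (a + c) * y ^ (b + d) := by
  calc x ^ a * y ^ b * (x ^ c * y ^ d) = x ^ a * (y ^ b * x ^ c) * y ^ d := by simp [mul_assoc]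
    _ = x ^ a * (x ^ c * y ^ b) * y ^ d := by rw [((h.comm.symm).zpow_zpow b c).eq]
    _ = _ := by rw [zpow_add, zpow_add]; simp [mul_assoc]

theorem pq_eq {a b c d : ℤ} :
    x ^ a * y ^ b = x ^ c * y ^ d ↔ (4 * 2 ^ m : ℤ) ∣ a - c ∧ (4 * 2 ^ m : ℤ) ∣ b - d := by
  constructor
  · intro e
    have e1 : x ^ (a - c) = y ^ (d - b) := by
      calc x ^ (a - c) = x ^ (-c) * (x ^ a * y ^ b) * y ^ (-b) := by
            rw [← mul_assoc, ← zpow_add, mul_assoc, ← zpow_add, add_neg_cancel, zpow_zero, mul_one,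
              neg_add_eq_sub]
        _ = _ := by
            rw [e, ← mul_assoc, ← zpow_add, neg_add_cancel, zpow_zero, one_mul, ← zpow_add,
              ← sub_eq_add_neg]
    have h1 : x ^ (a - c) = 1 := Subgroup.mem_bot.mp (h.disj ▸ ⟨⟨_, rfl⟩, ⟨_, e1.symm⟩⟩)
    have h2 : y ^ (d - b) = 1 := e1.symm.trans h1
    exact ⟨h.zpow_eq_one_x.mp h1, by rw [← dvd_neg, neg_sub]; exact h.zpow_eq_one_y.mp h2⟩
  · rintro ⟨h1, h2⟩
    have e1 : x ^ a = x ^ c := by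
      rw [← sub_add_cancel a c, zpow_add, h.zpow_eq_one_x.mpr h1, one_mul]
    have e2 : y ^ b = y ^ d := by
      rw [← sub_add_cancel b d, zpow_add, h.zpow_eq_one_y.mpr h2, one_mul]
    rw [e1, e2]

theorem pq_eq_one {a b : ℤ} :
    x ^ a * y ^ b = 1 ↔ (4 * 2 ^ m : ℤ) ∣ a ∧ (4 * 2 ^ m : ℤ) ∣ b := by
  have := h.pq_eq (a := a) (b := b) (c := 0) (d := 0)
  simpa using this

theorem z_conj (a b : ℤ) : z * (x ^ a * y ^ b) * z⁻¹ = x ^ b * y ^ a := by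
  rw [← conj_mul, ← conj_zpow, ← conj_zpow, h.swap, h.swap', (h.comm.symm.zpow_zpow a b).eq]

theorem z_mul (a b : ℤ) : z * (x ^ a * y ^ b) = x ^ b * y ^ a * z :=
  mul_inv_eq_iff_eq_mul.mp (h.z_conj a b)

theorem mul_out (a b c d : ℤ) :
    x ^ a * y ^ b * (x ^ c * y ^ d * z) = x ^ (a + c) * y ^ (b + d) * z := by
  rw [← mul_assoc, h.mul_in]

theorem out_mul_in (a b c d : ℤ) :
    x ^ a * y ^ b * z * (x ^ c * y ^ d) = x ^ (a + d) * y ^ (b + c) * z := by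
  rw [mul_assoc _ z, h.z_mul, h.mul_out]

theorem out_mul_out (a b c d : ℤ) :
    x ^ a * y ^ b * z * (x ^ c * y ^ d * z) = x ^ (a + d) * y ^ (b + c) := by
  rw [← mul_assoc, h.out_mul_in, mul_assoc, h.z_mul_self, mul_one]

theorem in_inv (a b : ℤ) : (x ^ a * y ^ b)⁻¹ = x ^ (-a) * y ^ (-b) := by
  refine inv_eq_of_mul_eq_one_right ?_
  rw [h.mul_in, h.pq_eq_one]; simp

theorem out_inv (a b : ℤ) : (x ^ a * y ^ b * z)⁻¹ = x ^ (-b) * y ^ (-a) * z := by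
  refine inv_eq_of_mul_eq_one_right ?_
  rw [h.out_mul_out, h.pq_eq_one]; simp

theorem conj_out_by_in (c d a b : ℤ) :
    x ^ c * y ^ d * (x ^ a * y ^ b * z) * (x ^ c * y ^ d)⁻¹ = x ^ (a + c - d) * y ^ (b + d - c) * z := by
  rw [h.in_inv, h.mul_out, h.out_mul_in]; congr 3 <;> ring

theorem conj_out_by_out (c d a b : ℤ) :
    x ^ c * y ^ d * z * (x ^ a * y ^ b * z) * (x ^ c * y ^ d * z)⁻¹
      = x ^ (b + c - d) * y ^ (a + d - c) * z := by
  rw [h.out_inv, h.out_mul_out, h.mul_out]; congr 3 <;> ring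

theorem conj_in_by_in (c d a b : ℤ) :
    x ^ c * y ^ d * (x ^ a * y ^ b) * (x ^ c * y ^ d)⁻¹ = x ^ a * y ^ b := by
  rw [h.in_inv, h.mul_in, h.mul_in]; congr 2 <;> ring

theorem conj_in_by_out (c d a b : ℤ) :
    x ^ c * y ^ d * z * (x ^ a * y ^ b) * (x ^ c * y ^ d * z)⁻¹ = x ^ b * y ^ a := by
  rw [h.out_inv, h.out_mul_in, h.out_mul_out]; congr 2 <;> ring

/-- The homocyclic subgroup of index 2. -/
def base : Subgroup S where
  carrier := {g | ∃ a b : ℤ, g = x ^ a * y ^ b}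
  one_mem' := ⟨0, 0, by simp⟩
  mul_mem' := by
    rintro _ _ ⟨a, b, rfl⟩ ⟨c, d, rfl⟩
    exact ⟨_, _, h.mul_in a b c d⟩
  inv_mem' := by
    rintro _ ⟨a, b, rfl⟩
    exact ⟨_, _, h.in_inv a b⟩

theorem in_mem_base (a b : ℤ) : x ^ a * y ^ b ∈ h.base := ⟨a, b, rfl⟩

theorem z_not_mem_base : z ∉ h.base := by
  rintro ⟨a, b, e⟩
  have e1 := h.z_conj 1 0
  rw [e, h.conj_in_by_in, h.pq_eq] at e1
  obtain ⟨c, hc⟩ := e1.1
  have : (1 : ℤ) = 2 * (2 * 2 ^ m * c) := by linarith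
  omega

theorem out_ne_in (a b c d : ℤ) : x ^ a * y ^ b * z ≠ x ^ c * y ^ d := by
  intro e
  refine h.z_not_mem_base ⟨-a + c, -b + d, ?_⟩
  rw [← h.mul_in, ← h.in_inv, ← e, inv_mul_cancel_left]

theorem out_eq_out {a b c d : ℤ} :
    x ^ a * y ^ b * z = x ^ c * y ^ d * z ↔ (4 * 2 ^ m : ℤ) ∣ a - c ∧ (4 * 2 ^ m : ℤ) ∣ b - d := by
  rw [mul_left_inj, h.pq_eq]

theorem base_equiv :
    Nonempty (h.base ≃* Multiplicative (ZMod (2 ^ (m + 2)) × ZMod (2 ^ (m + 2)))) := by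
  have hN : ((2 ^ (m + 2) : ℕ) : ℤ) = 4 * 2 ^ m := by push_cast; ring
  let f : Multiplicative (ZMod (2 ^ (m + 2)) × ZMod (2 ^ (m + 2))) →* h.base := MonoidHom.mk'
    (fun p => ⟨x ^ (p.toAdd.1.val : ℤ) * y ^ (p.toAdd.2.val : ℤ), h.in_mem_base _ _⟩) (fun p q => by
      apply Subtype.ext
      simp only [Subgroup.coe_mul, toAdd_mul, Prod.fst_add, Prod.snd_add]
      rw [h.mul_in, h.pq_eq, ← hN]
      constructor <;>
      · rw [← ZMod.intCast_eq_intCast_iff_dvd_sub]; simp)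
  refine ⟨(MulEquiv.ofBijective f ⟨fun p q e => ?_, fun g => ?_⟩).symm⟩
  · have e1 := congrArg Subtype.val e
    simp only [f, MonoidHom.mk'_apply] at e1
    rw [h.pq_eq, ← hN, ← ZMod.intCast_eq_intCast_iff_dvd_sub, ← ZMod.intCast_eq_intCast_iff_dvd_sub] at e1
    apply Multiplicative.toAdd.injective
    refine Prod.ext ?_ ?_
    · simpa using e1.1.symm
    · simpa using e1.2.symm
  · obtain ⟨_, a, b, rfl⟩ := g
    refine ⟨Multiplicative.ofAdd ((a : ZMod (2 ^ (m + 2))), (b : ZMod (2 ^ (m + 2)))), ?_⟩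
    apply Subtype.ext
    simp only [f, MonoidHom.mk'_apply, toAdd_ofAdd]
    rw [h.pq_eq, ← hN, ← ZMod.intCast_eq_intCast_iff_dvd_sub, ← ZMod.intCast_eq_intCast_iff_dvd_sub]
    simp

theorem card_base : Nat.card h.base = 2 ^ (2 * (m + 2)) := by
  obtain ⟨e⟩ := h.base_equiv
  rw [Nat.card_congr e.toEquiv, Nat.card_congr Multiplicative.toAdd, Nat.card_prod, Nat.card_zmod,
    ← pow_add]
  congr 1; ring

theorem index_base : h.base.index = 2 := by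
  have e := h.base.index_mul_card
  rw [h.card_base, h.card, pow_succ, mul_comm _ 2] at e
  exact Nat.eq_of_mul_eq_mul_right (by positivity) e

theorem cases_elem (g : S) :
    (∃ a b : ℤ, g = x ^ a * y ^ b) ∨ ∃ a b : ℤ, g = x ^ a * y ^ b * z := by
  by_cases hg : g ∈ h.base
  · exact Or.inl hg
  · obtain ⟨a, b, e⟩ : g * z ∈ h.base := by
      rw [Subgroup.mul_mem_iff_of_index_two h.index_base]
      exact iff_of_false hg h.z_not_mem_base
    exact Or.inr ⟨a, b, by rw [← e, mul_assoc, h.z_mul_self, mul_one]⟩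

theorem isPGroup : IsPGroup 2 S := IsPGroup.of_card h.card

theorem diag_central (a : ℤ) (g : S) : g * (x ^ a * y ^ a) = x ^ a * y ^ a * g := by
  refine mul_inv_eq_iff_eq_mul.mp ?_
  rcases h.cases_elem g with ⟨c, d, rfl⟩ | ⟨c, d, rfl⟩
  · exact h.conj_in_by_in c d a a
  · exact h.conj_in_by_out c d a a

theorem commute_out_in {a b c d : ℤ} :
    x ^ c * y ^ d * (x ^ a * y ^ b * z) = x ^ a * y ^ b * z * (x ^ c * y ^ d) ↔
      (4 * 2 ^ m : ℤ) ∣ c - d := by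
  rw [h.mul_out, h.out_mul_in, h.out_eq_out]
  constructor
  · rintro ⟨h1, -⟩
    convert h1 using 1; ring
  · intro h1
    refine ⟨by convert h1 using 1; ring, ?_⟩
    rw [show d + b - (b + c) = -(c - d) by ring, dvd_neg]
    exact h1

theorem orderOf_out (a : ℤ) : orderOf (x ^ a * y ^ (-a) * z) = 2 := by
  refine orderOf_eq_two_of_mul_self ?_ fun e => h.out_ne_in a (-a) 0 0 (by rw [e]; simp)
  rw [h.out_mul_out, h.pq_eq_one]; simp

/-- An involution is one of the three involutions of the base, or is conjugate to `z`. -/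
theorem mem_ord_two (g : S) (hg : orderOf g = 2) :
    g = x ^ (2 * 2 ^ m : ℤ) * y ^ (0 : ℤ) ∨ g = x ^ (0 : ℤ) * y ^ (2 * 2 ^ m : ℤ) ∨
      g = x ^ (2 * 2 ^ m : ℤ) * y ^ (2 * 2 ^ m : ℤ) ∨ ∃ a : ℤ, g = x ^ a * y ^ (-a) * z := by
  have h2 := mul_self_of_orderOf_eq_two hg
  rcases h.cases_elem g with ⟨a, b, rfl⟩ | ⟨a, b, rfl⟩
  · rw [h.mul_in, h.pq_eq_one] at h2
    obtain ⟨⟨c, hc⟩, d, hd⟩ := h2
    have ha : a = 2 * 2 ^ m * c := by linarith
    have hb : b = 2 * 2 ^ m * d := by linarith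
    simp only [h.pq_eq]
    rcases Int.even_or_odd c with ⟨e, he⟩ | ⟨e, he⟩ <;> rcases Int.even_or_odd d with ⟨f, hf⟩ | ⟨f, hf⟩
    · exact absurd (h.pq_eq_one.mpr ⟨⟨e, by rw [ha, he]; ring⟩, ⟨f, by rw [hb, hf]; ring⟩⟩)
        (ne_one_of_orderOf_eq_two hg)
    · exact Or.inr (Or.inl ⟨⟨e, by rw [ha, he]; ring⟩, ⟨f, by rw [hb, hf]; ring⟩⟩)
    · exact Or.inl ⟨⟨e, by rw [ha, he]; ring⟩, ⟨f, by rw [hb, hf]; ring⟩⟩
    · exact Or.inr (Or.inr (Or.inl ⟨⟨e, by rw [ha, he]; ring⟩, ⟨f, by rw [hb, hf]; ring⟩⟩))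
  · rw [h.out_mul_out, h.pq_eq_one] at h2
    refine Or.inr (Or.inr (Or.inr ⟨a, ?_⟩))
    rw [h.out_eq_out]
    exact ⟨by simp, by convert h2.1 using 1; ring⟩

end WGen

end Cfsg.Agent.H39
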