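import Cfsg.Agent.H39.WreathKlein
import Cfsg.Agent.H39.OddAut

/-!
Self-centralising subgroups of a wreathed group with an automorphism group that is not a 2-group.
-/

namespace Cfsg.Agent.H39.WGen

open scoped commutatorElement

variable {S : Type*} [Group S] {m : ℕ} {x y z : S} (h : WGen m x y z)
include h

theorem diag_mem_of_centralizer_le {X : Subgroup S}
    (hC : Subgroup.centralizer (X : Set S) ≤ X) : Subgroup.center S ≤ X :=
  (Subgroup.center_le_centralizer _).trans hC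

theorem in_mem_iff_diff {X : Subgroup S} (hZ : Subgroup.center S ≤ X) {c d : ℤ} :
    x ^ c * y ^ d ∈ X ↔ x ^ (c - d) * y ^ (0 : ℤ) ∈ X := by
  have hd : x ^ d * y ^ d ∈ X := hZ (h.in_mem_center.mpr (by simp))
  have e : x ^ c * y ^ d = x ^ (c - d) * y ^ (0 : ℤ) * (x ^ d * y ^ d) := by
    rw [h.mul_in, sub_add_cancel, zero_add]
  rw [e, X.mul_mem_cancel_right hd]

theorem out_mem_iff_diff {X : Subgroup S} (hZ : Subgroup.center S ≤ X) {a b c d : ℤ}
    (hg : x ^ a * y ^ b * z ∈ X) :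
    x ^ c * y ^ d * z ∈ X ↔ x ^ (c - d - (a - b)) * y ^ (0 : ℤ) ∈ X := by
  have e : x ^ c * y ^ d * z = x ^ (c - a) * y ^ (d - b) * (x ^ a * y ^ b * z) := by
    rw [h.mul_out, sub_add_cancel, sub_add_cancel]
  rw [e, X.mul_mem_cancel_right hg, h.in_mem_iff_diff hZ,
    show c - a - (d - b) = c - d - (a - b) by ring]

theorem sq_out_central (a b : ℤ) :
    x ^ a * y ^ b * z * (x ^ a * y ^ b * z) ∈ Subgroup.center S := by
  rw [h.out_mul_out]; exact h.in_mem_center.mpr (by simp [add_comm])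

theorem commutator_out_in (a b c d : ℤ) :
    ⁅x ^ a * y ^ b * z, x ^ c * y ^ d⁆ = x ^ (d - c) * y ^ (c - d) := by
  rw [commutatorElement_def, h.conj_in_by_out, h.in_inv, h.mul_in, ← sub_eq_add_neg,
    ← sub_eq_add_neg]

/-- The abelian case: every automorphism of odd order is trivial. -/
theorem odd_aut_trivial_abelian [Finite S] {X : Subgroup S} (hZ : Subgroup.center S ≤ X)
    {a0 b0 : ℤ} (hg0 : x ^ a0 * y ^ b0 * z ∈ X)
    (hB : ∀ u ∈ X, u ∈ h.base → u ∈ Subgroup.center S)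
    (φ : MulAut X) (hφ : Odd (orderOf φ)) : φ = 1 := by
  have hP : IsPGroup 2 X := h.isPGroup.to_subgroup X
  have hform : ∀ u : X, (u : S) ∈ Subgroup.center S ∨
      (u : S) * (x ^ a0 * y ^ b0 * z)⁻¹ ∈ Subgroup.center S := by
    intro u
    rcases h.cases_elem u.1 with ⟨c, d, e⟩ | ⟨c, d, e⟩
    · exact Or.inl (hB _ u.2 (e ▸ h.in_mem_base c d))
    · refine Or.inr (hB _ (mul_mem u.2 (inv_mem hg0)) ?_)
      rw [e, h.out_inv, h.out_mul_out]; exact h.in_mem_base _ _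
  have hcomm : ∀ u v : X, u * v = v * u := by
    intro u v
    apply Subtype.ext
    show (u : S) * v = v * u
    rcases hform u with hu | hu
    · exact (Subgroup.mem_center_iff.mp hu _).symm
    rcases hform v with hv | hv
    · exact Subgroup.mem_center_iff.mp hv _
    obtain ⟨p, hp, ep⟩ : ∃ p ∈ Subgroup.center S, (u : S) = p * (x ^ a0 * y ^ b0 * z) :=
      ⟨_, hu, (inv_mul_cancel_right _ _).symm⟩
    obtain ⟨q, hq, eq'⟩ : ∃ q ∈ Subgroup.center S, (v : S) = q * (x ^ a0 * y ^ b0 * z) :=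
      ⟨_, hv, (inv_mul_cancel_right _ _).symm⟩
    rw [ep, eq']
    have c1 : Commute p (q * (x ^ a0 * y ^ b0 * z)) := (Subgroup.mem_center_iff.mp hp _).symm
    have c2 : Commute (x ^ a0 * y ^ b0 * z) q := Subgroup.mem_center_iff.mp hq _
    exact (c1.mul_left (c2.mul_right (Commute.refl _))).eq
  have hsq : ∀ u : X, (u : S) * u ∈ Subgroup.center S := by
    intro u
    rcases h.cases_elem u.1 with ⟨c, d, e⟩ | ⟨c, d, e⟩
    · exact mul_mem (hB _ u.2 (e ▸ h.in_mem_base c d)) (hB _ u.2 (e ▸ h.in_mem_base c d))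
    · rw [e]; exact h.sq_out_central c d
  have htX : x * y ∈ X := hZ (h.center_eq ▸ Subgroup.mem_zpowers _)
  set t : X := ⟨x * y, htX⟩ with ht
  have hot : orderOf t = 2 ^ (m + 2) := by rw [ht, Subgroup.orderOf_mk, h.orderOf_diag]
  have hzp : ∀ u : X, (u : S) ∈ Subgroup.center S → ∃ i : ℤ, u = t ^ i := by
    intro u hu
    rw [h.center_eq] at hu
    obtain ⟨i, hi⟩ := hu
    exact ⟨i, Subtype.ext (by rw [Subgroup.coe_zpow]; exact hi.symm)⟩
  have hN : ∀ i : ℤ, t ^ i = 1 ↔ (4 * 2 ^ m : ℤ) ∣ i := fun i => by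
    rw [← orderOf_dvd_iff_zpow_eq_one, hot, h.natN]
  -- `t * t` is fixed
  have htt : φ (t * t) = t * t := by
    refine fix_cyclic hP hφ ?_
    obtain ⟨i, hi⟩ := hzp (φ (t * t)) (by rw [map_mul]; exact hsq (φ t))
    have h1 : (4 * 2 ^ m : ℤ) ∣ i * (2 * 2 ^ m) := by
      rw [← hN, zpow_mul, ← hi, ← map_zpow]
      refine φ.map_eq_one_iff.mpr ?_
      rw [← pow_two, ← zpow_natCast, ← zpow_mul, hN]
      exact ⟨1, by push_cast; ring⟩
    obtain ⟨k, hk⟩ := h1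
    refine ⟨k, ?_⟩
    show (t * t) ^ k = φ (t * t)
    rw [hi, ← pow_two, ← zpow_natCast, ← zpow_mul]
    congr 1
    have : (0 : ℤ) < 2 ^ m := by positivity
    refine mul_left_cancel₀ (show (2 * 2 ^ m : ℤ) ≠ 0 by positivity) ?_
    push_cast
    linear_combination -hk
  -- elements of square one are fixed
  have hZ1 : ∀ u : X, (u : S) ∈ Subgroup.center S → u * u = 1 → φ u = u := by
    intro u hu h1
    obtain ⟨i, rfl⟩ := hzp u hu
    rw [← zpow_add, hN] at h1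
    obtain ⟨k, hk⟩ := h1
    rw [show t ^ i = (t * t) ^ (2 ^ m * k : ℤ) by
      rw [← pow_two, ← zpow_natCast, ← zpow_mul]; congr 1; push_cast; linarith, map_zpow, htt]
  have hsq1 : ∀ u : X, u * u = 1 → φ u = u := by
    intro u hu1
    by_cases huZ : (u : S) ∈ Subgroup.center S
    · exact hZ1 u huZ hu1
    have hout : ∀ w : X, w * w = 1 → (w : S) ∉ Subgroup.center S →
        ((φ w : X) : S) ∉ Subgroup.center S := by
      intro w hw hwZ hφw
      have := hZ1 (φ w) hφw (by rw [← map_mul, hw, map_one])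
      exact hwZ (φ.injective this ▸ hφw)
    -- the central involution
    set c : X := (t * t) ^ (2 ^ m : ℤ) with hc
    have hφc : φ c = c := by rw [hc, map_zpow, htt]
    have hdiff : ∀ w : X, w * w = 1 → (w : S) ∉ Subgroup.center S → w = u ∨ w = c * u := by
      intro w hw hwZ
      have hwu : ((w * u : X) : S) ∈ Subgroup.center S := by
        rcases hform w with h1 | h1
        · exact absurd h1 hwZ
        rcases hform u with h2 | h2
        · exact absurd h2 huZ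
        have hg0sq := hsq ⟨_, hg0⟩
        have e : ((w * u : X) : S) = (w : S) * (x ^ a0 * y ^ b0 * z)⁻¹ *
            ((u : S) * (x ^ a0 * y ^ b0 * z)⁻¹) * (x ^ a0 * y ^ b0 * z * (x ^ a0 * y ^ b0 * z)) := by
          rw [Subgroup.mem_center_iff] at h2
          rw [mul_assoc ((w : S) * _), mul_assoc (u : S), ← mul_assoc (x ^ a0 * y ^ b0 * z)⁻¹,
            inv_mul_cancel, one_mul, mul_assoc (w : S)]
          have := congrArg Subtype.val (hcomm u ⟨_, hg0⟩)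
          simp only [Subgroup.coe_mul] at this
          rw [this, inv_mul_cancel_left, Subgroup.coe_mul]
        rw [e]
        exact mul_mem (mul_mem h1 h2) hg0sq
      have h11 : w * u * (w * u) = 1 := by
        rw [hcomm w u, mul_assoc, ← mul_assoc w, ← hcomm u w, mul_assoc u w w, hw, mul_one, hu1]
      obtain ⟨i, hi⟩ := hzp _ hwu
      rw [hi, ← zpow_add, hN] at h11
      obtain ⟨k, hk⟩ := h11
      have hwu' : w = w * u * u := by rw [mul_assoc, hu1, mul_one]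
      rcases Int.even_or_odd k with ⟨j, rfl⟩ | ⟨j, rfl⟩
      · left
        rw [hwu', hi, (hN i).mpr ⟨j, by linarith⟩, one_mul]
      · right
        rw [hwu', hi, hc]
        congr 1
        rw [← pow_two, ← zpow_natCast, ← zpow_mul, ← mul_inv_eq_one, ← zpow_neg, ← zpow_add, hN]
        exact ⟨j, by push_cast; linarith⟩
    refine fix_pair (v := c * u) hφ (hdiff _ (by rw [← map_mul, hu1, map_one]) (hout u hu1 huZ)) ?_
    have hcc : c * c = 1 := by
      rw [hc, ← zpow_add, ← pow_two, ← zpow_natCast, ← zpow_mul, hN]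
      exact ⟨1, by push_cast; ring⟩
    rw [map_mul, hφc]
    rcases hdiff _ (by rw [← map_mul, hu1, map_one]) (hout u hu1 huZ) with e | e <;> rw [e]
    · exact Or.inr rfl
    · left; rw [← mul_assoc, hcc, one_mul]
  have hzfix : ∀ u : X, (u : S) ∈ Subgroup.center S → φ u = u := by
    have hφt : φ t = t := by
      refine fix_step hP hφ (hsq1 _ ?_)
      have e : φ t * φ t = t * t := by rw [← map_mul, htt]
      rw [hcomm (φ t) t⁻¹, mul_assoc, ← mul_assoc (φ t), ← hcomm t⁻¹ (φ t), mul_assoc t⁻¹ (φ t), e]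
      group
    intro u hu
    obtain ⟨i, rfl⟩ := hzp u hu
    rw [map_zpow, hφt]
  have hφg0 : φ ⟨_, hg0⟩ = ⟨_, hg0⟩ := by
    refine fix_step hP hφ (hzfix _ ?_)
    rcases hform (φ ⟨_, hg0⟩) with h1 | h1
    · have h2 := hzfix _ h1
      rw [φ.injective h2] at h1
      exact absurd h1 (h.out_not_mem_center a0 b0)
    · exact h1
  ext u : 1
  rw [MulAut.one_apply]
  rcases hform u with hu | hu
  · exact hzfix u hu
  · have e := hzfix (u * (⟨_, hg0⟩ : X)⁻¹) hu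
    rw [map_mul, map_inv, hφg0] at e
    exact mul_right_cancel e

/-- The nonabelian case with an invariant trace on the base. -/
theorem odd_aut_trivial [Finite S] {X : Subgroup S} (hZ : Subgroup.center S ≤ X)
    (hX : ¬ IsMulCommutative X) {a0 b0 : ℤ} (hg0 : x ^ a0 * y ^ b0 * z ∈ X)
    (hinv : ∀ ψ : MulAut X, Odd (orderOf ψ) → ∀ u : X, (u : S) ∈ h.base → ((ψ u : X) : S) ∈ h.base)
    (φ : MulAut X) (hφ : Odd (orderOf φ)) : φ = 1 := by
  have hP : IsPGroup 2 X := h.isPGroup.to_subgroup X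
  have htX : x * y ∈ X := hZ (h.center_eq ▸ Subgroup.mem_zpowers _)
  set t : X := ⟨x * y, htX⟩ with ht
  have htS : ∀ v : X, v * t = t * v := fun v => Subtype.ext
    (Subgroup.mem_center_iff.mp (h.center_eq ▸ Subgroup.mem_zpowers (x * y)) v.1)
  have hzp : ∀ u : X, (u : S) ∈ Subgroup.center S → u ∈ Subgroup.zpowers t := by
    intro u hu
    rw [h.center_eq] at hu
    obtain ⟨i, hi⟩ := hu
    exact ⟨i, Subtype.ext (by rw [Subgroup.coe_zpow]; exact hi)⟩
  have hφt : φ t = t := by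
    refine fix_cyclic hP hφ (hzp _ (h.center_sub hX ⟨φ t, ?_, rfl⟩))
    rw [SetLike.mem_coe, Subgroup.mem_center_iff]
    intro v
    obtain ⟨w, rfl⟩ := φ.surjective v
    rw [← map_mul, htS, map_mul]
  have hzfix : ∀ u : X, (u : S) ∈ Subgroup.center S → φ u = u := by
    intro u hu
    obtain ⟨i, rfl⟩ := hzp u hu
    rw [map_zpow, hφt]
  set g : X := ⟨_, hg0⟩ with hg
  have hφg : ((φ g : X) : S) ∉ h.base := by
    intro hb
    have h1 := hinv φ⁻¹ (by rwa [orderOf_inv]) _ hb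
    rw [MulAut.inv_apply_self] at h1
    exact h.out_not_mem_base a0 b0 h1
  obtain ⟨a1, b1, hab⟩ := (h.cases_elem ((φ g : X) : S)).resolve_left hφg
  have hbfix : ∀ u : X, (u : S) ∈ h.base → φ u = u := by
    intro u hu
    refine fix_step hP hφ (hzfix _ ?_)
    obtain ⟨c, d, hcd⟩ := hu
    obtain ⟨c', d', hcd'⟩ := hinv φ hφ u ⟨c, d, hcd⟩
    have hk : ((⁅g, u⁆ : X) : S) = x ^ (d - c) * y ^ (c - d) := by
      rw [← h.commutator_out_in a0 b0 c d, ← hcd]; rfl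
    have hk' : ((φ ⁅g, u⁆ : X) : S) = x ^ (d' - c') * y ^ (c' - d') := by
      rw [← h.commutator_out_in a1 b1 c' d', ← hcd', ← hab, map_commutatorElement]; rfl
    have hfix : φ ⁅g, u⁆ = ⁅g, u⁆ := by
      refine fix_cyclic hP hφ ?_
      have h1 : ((φ ⁅g, u⁆ : X) : S) ∈ Subgroup.zpowers ((⁅g, u⁆ : X) : S) :=
        mem_zpowers_of_orderOf_eq (hk ▸ h.anti_mem (by ring)) (hk' ▸ h.anti_mem (by ring))
          (by rw [Subgroup.orderOf_coe, Subgroup.orderOf_coe, MulEquiv.orderOf_eq])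
      obtain ⟨i, hi⟩ := h1
      exact ⟨i, Subtype.ext (by rw [Subgroup.coe_zpow]; exact hi)⟩
    rw [hfix, hk, h.pq_eq] at hk'
    rw [Subgroup.coe_mul, Subgroup.coe_inv, hcd, hcd', h.in_inv, h.mul_in, h.in_mem_center]
    exact dvd_of_eq' hk'.1 (by ring)
  have hφg0 : φ g = g := by
    refine fix_step hP hφ (hbfix _ ?_)
    rw [Subgroup.coe_mul, Subgroup.coe_inv, hab, hg, Subgroup.coe_mk, h.out_inv, h.out_mul_out]
    exact h.in_mem_base _ _
  ext u : 1
  rw [MulAut.one_apply]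
  by_cases hu : (u : S) ∈ h.base
  · exact hbfix u hu
  · obtain ⟨c, d, hcd⟩ := (h.cases_elem u.1).resolve_left hu
    have e := hbfix (u * g⁻¹) (by
      rw [Subgroup.coe_mul, Subgroup.coe_inv, hcd, hg, Subgroup.coe_mk, h.out_inv, h.out_mul_out]
      exact h.in_mem_base _ _)
    rw [map_mul, map_inv, hφg0] at e
    exact mul_right_cancel e

omit h in
/-- The exceptional self-centralising subgroup `Q₈ ∗ Z`. -/
def IsExceptional (_h : WGen m x y z) (X : Subgroup S) (δ : ℤ) : Prop :=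
  2 ∣ δ ∧ (∀ c d : ℤ, x ^ c * y ^ d ∈ X ↔ (2 * 2 ^ m : ℤ) ∣ c - d) ∧
    ∀ c d : ℤ, x ^ c * y ^ d * z ∈ X ↔ (2 * 2 ^ m : ℤ) ∣ c - d - δ

theorem classify [Finite S] {X : Subgroup S} (hC : Subgroup.centralizer (X : Set S) ≤ X)
    (hA : ¬ IsPGroup 2 (MulAut X)) : X = h.base ∨ ∃ δ, h.IsExceptional X δ := by
  have hZ := h.diag_mem_of_centralizer_le hC
  by_cases hle : X ≤ h.base
  · left
    refine le_antisymm hle fun g hg => hC ?_
    rw [Subgroup.mem_centralizer_iff]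
    intro v hv
    simpa using congrArg Subtype.val (h.base_comm.is_comm.comm ⟨v, hle hv⟩ ⟨g, hg⟩)
  right
  obtain ⟨g0, hg0, hg0b⟩ := SetLike.not_le_iff_exists.mp hle
  obtain ⟨a, b, rfl⟩ := (h.cases_elem g0).resolve_left hg0b
  by_cases hab : ∀ k : ℤ, x ^ k * y ^ (0 : ℤ) ∈ X → (4 * 2 ^ m : ℤ) ∣ k
  · exfalso
    refine hA (isPGroup_mulAut (h.odd_aut_trivial_abelian hZ hg0 fun u hu hub => ?_))
    obtain ⟨c, d, rfl⟩ := hub
    exact h.in_mem_center.mpr (hab _ ((h.in_mem_iff_diff hZ).mp hu))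
  push Not at hab
  obtain ⟨k0, hk0, hk0N⟩ := hab
  have hX : ¬ IsMulCommutative X := by
    intro hcom
    have e := congrArg Subtype.val (hcom.is_comm.comm ⟨_, hk0⟩ ⟨_, hg0⟩)
    exact hk0N (by simpa using h.commute_out_in.mp e)
  have main : ∀ hinv : (∀ ψ : MulAut X, Odd (orderOf ψ) →
      ∀ u : X, (u : S) ∈ h.base → ((ψ u : X) : S) ∈ h.base), False := fun hinv =>
    hA (isPGroup_mulAut (h.odd_aut_trivial hZ hX hg0 hinv))
  -- odd automorphisms fix the centre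
  have hcen : ∀ ψ : MulAut X, ∀ v : X, (v : S) ∈ Subgroup.center S →
      ((ψ v : X) : S) ∈ Subgroup.center S := by
    intro ψ v hv
    refine h.center_sub hX ⟨ψ v, ?_, rfl⟩
    rw [SetLike.mem_coe, Subgroup.mem_center_iff]
    intro w
    obtain ⟨w, rfl⟩ := ψ.surjective w
    rw [← map_mul, ← map_mul]
    exact congrArg ψ (Subtype.ext (Subgroup.mem_center_iff.mp hv w.1))
  have hdvd : ∀ k : ℤ, x ^ k * y ^ (0 : ℤ) ∈ X → (2 * 2 ^ m : ℤ) ∣ k := by
    by_contra hcon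
    push Not at hcon
    obtain ⟨k, hk, hkN⟩ := hcon
    refine main fun ψ _ u hu => ?_
    by_contra hψu
    obtain ⟨p, q, hpq⟩ := (h.cases_elem _).resolve_left hψu
    set w : X := ⟨_, hk⟩ with hw
    have hww : w * u = u * w := Subtype.ext (by
      simpa using congrArg Subtype.val
        (h.base_comm.is_comm.comm ⟨w.1, h.in_mem_base k 0⟩ ⟨u.1, hu⟩))
    have hsq : ((ψ w : X) : S) * (ψ w : X) ∈ Subgroup.center S := by
      rcases h.cases_elem ((ψ w : X) : S) with ⟨c, d, e⟩ | ⟨c, d, e⟩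
      · have hcd := congrArg (fun v : X => ((ψ v : X) : S)) hww
        simp only [map_mul, Subgroup.coe_mul, hpq, e] at hcd
        have h1 := h.in_mem_center.mpr (h.commute_out_in.mp hcd)
        rw [e]; exact mul_mem h1 h1
      · rw [e]; exact h.sq_out_central c d
    have h2 := hcen ψ⁻¹ (ψ w * ψ w) hsq
    rw [map_mul, MulAut.inv_apply_self, Subgroup.coe_mul, hw, Subgroup.coe_mk, h.mul_in,
      h.in_mem_center] at h2
    obtain ⟨j, hj⟩ := h2
    exact hkN ⟨j, by linarith⟩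
  have hhalf : x ^ (2 * 2 ^ m : ℤ) * y ^ (0 : ℤ) ∈ X := by
    obtain ⟨j, hj⟩ := hdvd k0 hk0
    rcases Int.even_or_odd j with ⟨i, rfl⟩ | ⟨i, rfl⟩
    · exact absurd ⟨i, by rw [hj]; ring⟩ hk0N
    · rwa [show x ^ (2 * 2 ^ m : ℤ) * y ^ (0 : ℤ) = x ^ k0 * y ^ (0 : ℤ) from
        h.pq_eq.mpr ⟨⟨-i, by rw [hj]; ring⟩, by simp⟩]
  have hPk : ∀ k : ℤ, x ^ k * y ^ (0 : ℤ) ∈ X ↔ (2 * 2 ^ m : ℤ) ∣ k := by
    refine fun k => ⟨hdvd k, ?_⟩
    rintro ⟨j, rfl⟩
    have := X.zpow_mem hhalf j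
    simpa [zpow_mul] using this
  refine ⟨a - b, ?_, fun c d => by rw [h.in_mem_iff_diff hZ, hPk],
    fun c d => by rw [h.out_mem_iff_diff hZ hg0, hPk]⟩
  by_contra hodd
  refine main fun ψ _ u hu => ?_
  by_contra hψu
  obtain ⟨p, q, hpq⟩ := (h.cases_elem _).resolve_left hψu
  obtain ⟨c, d, hcd⟩ := hu
  have hu1 : u ^ (2 ^ (m + 2)) = 1 := by
    apply Subtype.ext
    rw [Subgroup.coe_pow, Subgroup.coe_one, hcd,
      ((h.comm.zpow_zpow c d)).mul_pow, ← zpow_natCast, ← zpow_natCast, ← zpow_mul, ← zpow_mul,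
      h.pq_eq_one, h.natN]
    exact ⟨dvd_mul_left _ _, dvd_mul_left _ _⟩
  have h1 : ((ψ u : X) : S) ^ (2 ^ (m + 2)) = 1 := by
    rw [← Subgroup.coe_pow, ← map_pow, hu1, map_one, Subgroup.coe_one]
  have hsum : p + q = q + p := add_comm p q
  rw [pow_succ', pow_mul, hpq, pow_two, h.out_mul_out, add_comm q p, ← h.diag_zpow,
    ← zpow_natCast, ← zpow_mul, h.diag_zpow, h.pq_eq_one, and_self_iff] at h1
  obtain ⟨j, hj⟩ := h1
  push_cast at hj
  have heven : (2 : ℤ) ∣ p + q := ⟨j, by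
    refine mul_left_cancel₀ (show (2 * 2 ^ m : ℤ) ≠ 0 by positivity) ?_
    linear_combination hj⟩
  have hpq' := (hPk _).mp ((h.out_mem_iff_diff hZ hg0).mp (hpq ▸ (ψ u).2))
  apply hodd
  have e2 : (2 : ℤ) ∣ p - q - (a - b) := (Dvd.intro (2 ^ m) rfl).trans hpq'
  omega

end Cfsg.Agent.H39.WGen

namespace Cfsg.Agent.H39.WGen

variable {S : Type*} [Group S] {m : ℕ} {x y z : S} (h : WGen m x y z)
include h

theorem base_normalizer_relIndex :
    h.base.relIndex (Subgroup.normalizer (h.base : Set S)) = 2 := by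
  have hn := Subgroup.normal_of_index_eq_two h.index_base
  rw [Subgroup.normalizer_eq_top, Subgroup.relIndex_top_right, h.index_base]

variable {X : Subgroup S} {δ : ℤ} (hX : h.IsExceptional X δ)
include hX

theorem exc_not_comm : ¬ IsMulCommutative X := by
  intro hcom
  have e := congrArg Subtype.val (hcom.is_comm.comm
    ⟨_, (hX.2.1 (2 * 2 ^ m) 0).mpr (by simp)⟩ ⟨_, (hX.2.2 δ 0).mpr (by simp)⟩)
  exact h.half_not_dvd (by simpa using h.commute_out_in.mp e)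

theorem exc_inf_quat [Finite S] :
    Nonempty ((X ⊓ h.quat : Subgroup S) ≃* QuaternionGroup 2) ∧
      X = (X ⊓ h.quat) ⊔ Subgroup.center S := by
  obtain ⟨⟨e, rfl⟩, hin, hout⟩ := hX
  set u := x ^ ((2 : ℤ) ^ m) * y ^ (-(2 : ℤ) ^ m) with hu
  set v := x ^ ((2 : ℤ) ^ m + e) * y ^ ((2 : ℤ) ^ m - e) * z with hv
  have huQ : u ∈ X ⊓ h.quat := ⟨(hin _ _).mpr ⟨1, by ring⟩, h.in_mem_quat.mpr (by simp)⟩
  have hvQ : v ∈ X ⊓ h.quat := ⟨(hout _ _).mpr ⟨0, by ring⟩, h.out_mem_quat.mpr ⟨0, by ring⟩⟩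
  have hup : ∀ k : ℤ, u ^ k = x ^ ((2 : ℤ) ^ m * k) * y ^ (-(2 : ℤ) ^ m * k) := fun k => by
    rw [hu, (h.comm.zpow_zpow _ _).mul_zpow, ← zpow_mul, ← zpow_mul]
  have hou : orderOf u = 4 := orderOf_eq_of_zpow fun k => by
    have h0 : (2 ^ m : ℤ) ≠ 0 := by positivity
    rw [hup, h.pq_eq_one, neg_mul, dvd_neg, and_self_iff, mul_comm (4 : ℤ) (2 ^ m),
      mul_dvd_mul_iff_left h0]
    rfl
  have hcap : X ⊓ h.quat ⊓ h.base = Subgroup.zpowers u := by
    refine le_antisymm ?_ (Subgroup.zpowers_le.mpr ⟨huQ, h.in_mem_base _ _⟩)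
    rintro _ ⟨⟨hgX, hgY⟩, a, b, rfl⟩
    obtain ⟨i, hi⟩ := (hin a b).mp hgX
    obtain ⟨j, hj⟩ := h.in_mem_quat.mp hgY
    refine ⟨i + 2 * j, ?_⟩
    show u ^ (i + 2 * j) = _
    rw [hup, h.pq_eq]
    exact ⟨⟨0, by linarith⟩, ⟨-j, by linarith⟩⟩
  have hQ : ¬ X ⊓ h.quat ≤ h.base := fun hle => h.out_not_mem_base _ _ (hle hvQ)
  refine ⟨?_, ?_⟩
  · refine Cfsg.Agent.PGroups.nonempty_mulEquiv_quaternion (c := ⟨u, huQ⟩) (y := ⟨v, hvQ⟩) ?_ ?_ ?_ ?_ ?_
    · rw [Subgroup.orderOf_mk, hou]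
    · rintro ⟨k, hk⟩
      have e := congrArg Subtype.val hk
      simp only [Subgroup.coe_zpow, hup] at e
      exact h.out_ne_in _ _ _ _ e.symm
    · apply Subtype.ext
      simp only [Subgroup.coe_pow, pow_two]
      show v * v = u * u
      rw [hv, hu, h.out_mul_out, h.mul_in, h.pq_eq]
      exact ⟨⟨0, by ring⟩, ⟨1, by ring⟩⟩
    · apply Subtype.ext
      simp only [Subgroup.coe_mul, Subgroup.coe_inv]
      show v * u * v⁻¹ = u⁻¹
      rw [hv, hu, h.conj_in_by_out, h.in_inv, neg_neg]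
    · rw [card_eq_two_mul_inf h.index_base hQ, hcap, Nat.card_zpowers, hou]
  · have hZX : Subgroup.center S ≤ X := by
      intro g hg
      obtain ⟨a, b, rfl⟩ := h.center_le_base hg
      exact (hin a b).mpr ((Dvd.intro 2 (by ring)).trans (h.in_mem_center.mp hg))
    refine le_antisymm (fun g hg => ?_) (sup_le inf_le_left hZX)
    have hmem : ∀ a b : ℤ, (2 * 2 ^ m : ℤ) ∣ a - b →
        x ^ a * y ^ b ∈ (X ⊓ h.quat) ⊔ Subgroup.center S := by
      rintro a b ⟨k, hk⟩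
      have e : x ^ a * y ^ b = u ^ k * (x ^ (a - 2 ^ m * k) * y ^ (a - 2 ^ m * k)) := by
        rw [hup, h.mul_in, h.pq_eq]
        exact ⟨⟨0, by ring⟩, ⟨0, by linarith⟩⟩
      rw [e]
      exact mul_mem (Subgroup.mem_sup_left (zpow_mem huQ k))
        (Subgroup.mem_sup_right (h.in_mem_center.mpr (by simp)))
    rcases h.cases_elem g with ⟨a, b, rfl⟩ | ⟨a, b, rfl⟩
    · exact hmem a b ((hin a b).mp hg)
    · have e : x ^ a * y ^ b * z
          = x ^ (a - ((2 : ℤ) ^ m + e)) * y ^ (b - ((2 : ℤ) ^ m - e)) * v := by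
        rw [hv, h.mul_out, sub_add_cancel, sub_add_cancel]
      rw [e]
      exact mul_mem (hmem _ _ (dvd_of_eq' ((hout a b).mp hg) (by ring)))
        (Subgroup.mem_sup_left hvQ)

theorem exc_quaternion [Finite S] :
    ∃ Q : Subgroup S, Nonempty (Q ≃* QuaternionGroup 2) ∧ X = Q ⊔ Subgroup.center S :=
  ⟨_, h.exc_inf_quat hX⟩

theorem exc_mem_normalizer_in [Finite S] {c d : ℤ} (hcd : (2 ^ m : ℤ) ∣ c - d) :
    x ^ c * y ^ d ∈ Subgroup.normalizer (X : Set S) := by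
  obtain ⟨-, hin, hout⟩ := hX
  refine mem_normalizer_of_conj_mem fun g hg => ?_
  rcases h.cases_elem g with ⟨a, b, rfl⟩ | ⟨a, b, rfl⟩
  · rw [h.conj_in_by_in]; exact hg
  · rw [h.conj_out_by_in, hout]
    exact dvd_of_eq' (((hout a b).mp hg).add (mul_dvd_mul_left 2 hcd)) (by ring)

theorem exc_normalizer_only {c d : ℤ} (hn : x ^ c * y ^ d ∈ Subgroup.normalizer (X : Set S)) :
    (2 ^ m : ℤ) ∣ c - d := by
  obtain ⟨-, -, hout⟩ := hX
  have hg : x ^ δ * y ^ (0 : ℤ) * z ∈ X := (hout δ 0).mpr (by simp)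
  have e := (Subgroup.mem_normalizer_iff.mp hn _).mp hg
  rw [h.conj_out_by_in, hout] at e
  exact Int.dvd_of_mul_dvd_mul_left two_ne_zero (dvd_of_eq' e (by ring))

theorem exc_normalizer_relIndex [Finite S] :
    X.relIndex (Subgroup.normalizer (X : Set S)) = 2 := by
  rw [Subgroup.relIndex_eq_two_iff]
  refine ⟨x ^ ((2 : ℤ) ^ m) * y ^ (0 : ℤ), h.exc_mem_normalizer_in hX (by simp), fun g hg => ?_⟩
  obtain ⟨-, hin, hout⟩ := id hX
  have hg0 : x ^ δ * y ^ (0 : ℤ) * z ∈ X := (hout δ 0).mpr (by simp)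
  have key : ∀ s : ℤ, (2 ^ m : ℤ) ∣ s →
      ((2 * 2 ^ m : ℤ) ∣ s ↔ ¬ (2 * 2 ^ m : ℤ) ∣ s + 2 ^ m) ∧
      ((2 * 2 ^ m : ℤ) ∣ s ↔ ¬ (2 * 2 ^ m : ℤ) ∣ s - 2 ^ m) := by
    rintro s ⟨k, rfl⟩
    have h0 : (2 ^ m : ℤ) ≠ 0 := by positivity
    have e1 : (2 ^ m * k + 2 ^ m : ℤ) = 2 ^ m * (k + 1) := by ring
    have e2 : (2 ^ m * k - 2 ^ m : ℤ) = 2 ^ m * (k - 1) := by ring
    rw [e1, e2, mul_comm 2 (2 ^ m : ℤ), mul_dvd_mul_iff_left h0, mul_dvd_mul_iff_left h0,
      mul_dvd_mul_iff_left h0]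
    omega
  rcases h.cases_elem g with ⟨a, b, rfl⟩ | ⟨a, b, rfl⟩
  · have hd := h.exc_normalizer_only hX hg
    rw [h.mul_in, hin, hin, (key _ hd).1, add_zero, show a + 2 ^ m - b = a - b + 2 ^ m by ring,
      xor_iff_iff_not, not_not]
  · have hn : x ^ a * y ^ b * z * (x ^ δ * y ^ (0 : ℤ) * z)⁻¹ ∈ Subgroup.normalizer (X : Set S) :=
      mul_mem hg (inv_mem (Subgroup.le_normalizer hg0))
    rw [h.out_inv, h.out_mul_out] at hn
    have hd : (2 ^ m : ℤ) ∣ a - b - δ := dvd_of_eq' (h.exc_normalizer_only hX hn) (by ring)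
    rw [h.out_mul_in, hout, hout, (key _ hd).2,
      show a + 0 - (b + 2 ^ m) - δ = a - b - δ - 2 ^ m by ring, xor_iff_iff_not, not_not]

theorem exc_conj [Finite S] {X' : Subgroup S} {δ' : ℤ} (hX' : h.IsExceptional X' δ') :
    ∃ s : S, X.map (MulAut.conj s).toMonoidHom = X' := by
  obtain ⟨⟨e, rfl⟩, hin, hout⟩ := id hX
  obtain ⟨⟨e', rfl⟩, hin', hout'⟩ := id hX'
  refine ⟨x ^ (e' - e) * y ^ (0 : ℤ), Subgroup.eq_of_le_of_card_ge ?_ ?_⟩
  · rintro _ ⟨g, hg, rfl⟩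
    show x ^ (e' - e) * y ^ (0 : ℤ) * g * (x ^ (e' - e) * y ^ (0 : ℤ))⁻¹ ∈ X'
    rcases h.cases_elem g with ⟨a, b, rfl⟩ | ⟨a, b, rfl⟩
    · rw [h.conj_in_by_in, hin']; exact (hin a b).mp hg
    · rw [h.conj_out_by_in, hout']
      exact dvd_of_eq' ((hout a b).mp hg) (by ring)
  · have hB : ∀ {W : Subgroup S} {δ : ℤ}, h.IsExceptional W δ →
        Nat.card W = 2 * Nat.card (W ⊓ h.base : Subgroup S) := fun hW =>
      card_eq_two_mul_inf h.index_base fun hle =>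
        h.out_not_mem_base _ _ (hle ((hW.2.2 _ 0).mpr (by rw [sub_zero, sub_self]; exact dvd_zero _)))
    rw [card_map_conj, hB hX, hB hX']
    refine le_of_eq ?_
    suffices e : X' ⊓ h.base = X ⊓ h.base by rw [e]
    ext g
    simp only [Subgroup.mem_inf]
    constructor <;> rintro ⟨hg, a, b, rfl⟩ <;> refine ⟨?_, h.in_mem_base a b⟩
    · exact (hin a b).mpr ((hin' a b).mp hg)
    · exact (hin' a b).mpr ((hin a b).mp hg)

end Cfsg.Agent.H39.WGen
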