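import Cfsg.Agent.H39.WreathExc
import Cfsg.Agent.H39.SemiDihedralFusion

/-!
The two local subgroups that control fusion in a group with wreathed Sylow 2-subgroups: their
automisers modulo inner automorphisms have order two or six.
-/

namespace Cfsg.Agent.H39

universe u

variable {G : Type u} [Group G]

open Subgroup

/-- An element all of whose powers of 2-power order and of odd order lie in a subgroup is in it. -/
theorem mem_of_two_odd [Finite G] {C : Subgroup G} {g : G}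
    (h : ∀ i : ℕ, ((∃ j : ℕ, (g ^ i) ^ 2 ^ j = 1) ∨ Odd (orderOf (g ^ i))) → g ^ i ∈ C) : g ∈ C := by
  obtain ⟨k, l, hl, hkl⟩ := Nat.exists_eq_pow_mul_and_not_dvd (orderOf_pos g).ne' 2 (by norm_num)
  have hl2 : Odd l := Nat.not_even_iff_odd.mp fun he => hl he.two_dvd
  have h1 : g ^ l ∈ C := h l (Or.inl ⟨k, by rw [← pow_mul, mul_comm, ← hkl, pow_orderOf_eq_one]⟩)
  have h2 : g ^ 2 ^ k ∈ C := h (2 ^ k) (Or.inr (by
    rw [orderOf_pow' g (pow_ne_zero k two_ne_zero), hkl, Nat.gcd_mul_right_left,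
      Nat.mul_div_cancel_left _ (by positivity)]
    exact hl2))
  obtain ⟨u, v, huv⟩ : ∃ u v : ℤ, u * (l : ℤ) + v * ((2 ^ k : ℕ) : ℤ) = 1 :=
    Nat.isCoprime_iff_coprime.mpr (Nat.Coprime.pow_right k hl2.coprime_two_right)
  have e : g = (g ^ l) ^ u * (g ^ 2 ^ k) ^ v := by
    rw [← zpow_natCast g l, ← zpow_natCast g (2 ^ k), ← zpow_mul, ← zpow_mul, ← zpow_add,
      mul_comm (l : ℤ), mul_comm ((2 ^ k : ℕ) : ℤ), huv, zpow_one]
  rw [e]
  exact mul_mem (zpow_mem h1 u) (zpow_mem h2 v)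

theorem isPGroup_zpowers {g : G} {j : ℕ} (hj : g ^ 2 ^ j = 1) : IsPGroup 2 (zpowers g) := by
  intro v
  obtain ⟨i, hi⟩ := v.2
  refine ⟨j, Subtype.ext ?_⟩
  rw [Subgroup.coe_pow, Subgroup.coe_one, ← (show g ^ i = (v : G) from hi), ← zpow_natCast,
    ← zpow_mul, mul_comm, zpow_mul, zpow_natCast, hj, one_zpow]

/-- An element of odd order induces an automorphism of odd order. -/
theorem exists_aut [Finite G] {H : Subgroup G} {c : G} (hc : c ∈ normalizer (H : Set G))
    (ho : Odd (orderOf c)) :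
    ∃ φ : MulAut H, Odd (orderOf φ) ∧ ∀ u : H, ((φ u : H) : G) = c * u * c⁻¹ := by
  refine ⟨H.normalizerMonoidHom ⟨c, hc⟩, ho.of_dvd_nat ?_, fun u => rfl⟩
  rw [← Subgroup.orderOf_mk c hc]
  exact orderOf_map_dvd _ _

/-- An automorphism of odd order of an abelian 2-group fixing the involutions is trivial. -/
theorem fix_of_fix_involutions {X : Type*} [Group X] (hX : IsPGroup 2 X)
    (hab : ∀ a b : X, a * b = b * a) {φ : MulAut X} (hφ : Odd (orderOf φ))
    (h : ∀ u, u * u = 1 → φ u = u) (u : X) : φ u = u := by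
  have key : ∀ j : ℕ, ∀ u : X, u ^ 2 ^ j = 1 → φ u = u := by
    intro j
    induction j with
    | zero => intro u hu; rw [show u = 1 by simpa using hu, map_one]
    | succ j ih =>
      intro u hu
      refine fix_step hX hφ (h _ ?_)
      have hsq : φ (u * u) = u * u := ih _ (by rw [← pow_two, ← pow_mul, ← pow_succ', hu])
      rw [hab (φ u) u⁻¹, mul_assoc, ← mul_assoc (φ u), hab (φ u) u⁻¹, mul_assoc u⁻¹ (φ u),
        ← map_mul, hsq]
      group
  obtain ⟨j, hj⟩ := hX u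
  exact key j u hj

namespace WGen

variable {S : Sylow 2 G} {m : ℕ} {x y z : (S : Subgroup G)} (h : WGen m x y z)
include h

/-- The base as a subgroup of `G`. -/
def baseG : Subgroup G := h.base.map (S : Subgroup G).subtype

omit h in
/-- The centre of the Sylow subgroup as a subgroup of `G`. -/
def centG (_h : WGen m x y z) : Subgroup G :=
  (center (S : Subgroup G)).map (S : Subgroup G).subtype

omit h in
/-- An exceptional subgroup of `S`, as a subgroup of `G`. -/
def IsExcG (h : WGen m x y z) (V : Subgroup G) : Prop :=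
  V ≤ (S : Subgroup G) ∧ ∃ δ : ℤ, h.IsExceptional (V.subgroupOf (S : Subgroup G)) δ

theorem baseG_le : h.baseG ≤ (S : Subgroup G) := map_subtype_le _

theorem mem_baseG {u : (S : Subgroup G)} : (u : G) ∈ h.baseG ↔ u ∈ h.base :=
  ⟨fun ⟨v, hv, hvu⟩ => (Subtype.ext hvu : v = u) ▸ hv, fun hu => ⟨u, hu, rfl⟩⟩

theorem centG_le : h.centG ≤ (S : Subgroup G) := map_subtype_le _

theorem mem_centG {u : (S : Subgroup G)} : (u : G) ∈ h.centG ↔ u ∈ center (S : Subgroup G) :=
  ⟨fun ⟨v, hv, hvu⟩ => (Subtype.ext hvu : v = u) ▸ hv, fun hu => ⟨u, hu, rfl⟩⟩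

theorem centG_comm {t s : G} (ht : t ∈ h.centG) (hs : s ∈ (S : Subgroup G)) : t * s = s * t := by
  obtain ⟨t', ht', rfl⟩ := ht
  exact (congrArg Subtype.val (mem_center_iff.mp ht' ⟨s, hs⟩)).symm

theorem baseG_comm {a b : G} (ha : a ∈ h.baseG) (hb : b ∈ h.baseG) : a * b = b * a := by
  obtain ⟨a', ha', rfl⟩ := ha
  obtain ⟨b', hb', rfl⟩ := hb
  exact congrArg (fun v : h.base => ((v : (S : Subgroup G)) : G))
    (h.base_comm.is_comm.comm ⟨a', ha'⟩ ⟨b', hb'⟩)

theorem card_baseG : Nat.card h.baseG = 2 ^ (2 * (m + 2)) :=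
  ((card_map_of_injective (Subgroup.subtype_injective _))).trans h.card_base

theorem eq_baseG [Finite G] {U : Subgroup G} (hUS : U ≤ (S : Subgroup G))
    (hab : ∀ a ∈ U, ∀ b ∈ U, a * b = b * a) (hc : Nat.card U = 2 ^ (2 * (m + 2))) : U = h.baseG := by
  have e : U.subgroupOf (S : Subgroup G) = h.base := h.abelian_eq_base
    ⟨⟨fun a b => Subtype.ext (Subtype.ext (hab _ a.2 _ b.2))⟩⟩
    (by rw [Nat.card_congr (subgroupOfEquivOfLe hUS).toEquiv, hc])
  rw [baseG, ← e, map_subgroupOf_eq_of_le hUS]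

/-- The involutions of the base. -/
theorem base_involutions {v : G} (hv : v ∈ h.baseG) (ho : orderOf v = 2) :
    v = ((x ^ (2 * 2 ^ m : ℤ) * y ^ (0 : ℤ) : (S : Subgroup G)) : G) ∨
    v = ((x ^ (0 : ℤ) * y ^ (2 * 2 ^ m : ℤ) : (S : Subgroup G)) : G) ∨
    v = ((x ^ (2 * 2 ^ m : ℤ) * y ^ (2 * 2 ^ m : ℤ) : (S : Subgroup G)) : G) := by
  obtain ⟨v', hv', rfl⟩ := hv
  rcases h.mem_ord_two v' (by rwa [← Subgroup.orderOf_coe]) with e | e | e | ⟨a, e⟩
  · exact Or.inl (congrArg Subtype.val e)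
  · exact Or.inr (Or.inl (congrArg Subtype.val e))
  · exact Or.inr (Or.inr (congrArg Subtype.val e))
  · exact absurd hv' (e ▸ h.out_not_mem_base _ _)

theorem base_fix_of_involutions [Finite G] {g : G} (hg : g ∈ normalizer (h.baseG : Set G))
    (hfix : ∀ v ∈ h.baseG, orderOf v = 2 → g * v = v * g) :
    g ∈ centralizer (h.baseG : Set G) := by
  have : Fact (Nat.Prime 2) := ⟨Nat.prime_two⟩
  refine mem_of_two_odd fun i hi => ?_
  have hci : g ^ i ∈ normalizer (h.baseG : Set G) := pow_mem hg i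
  have hfi : ∀ v ∈ h.baseG, orderOf v = 2 → g ^ i * v = v * g ^ i := fun v hv ho =>
    (Commute.pow_left (hfix v hv ho) i).eq
  generalize g ^ i = c at hi hci hfi
  rcases hi with ⟨j, hj⟩ | hodd
  · have hP : IsPGroup 2 (zpowers c ⊔ h.baseG : Subgroup G) :=
      (isPGroup_zpowers hj).to_sup_of_normal_right' (S.isPGroup'.to_le h.baseG_le)
        (zpowers_le.mpr hci)
    obtain ⟨r, hr⟩ := exists_conj_le_sylow hP S
    have himg : h.baseG.map (MulAut.conj r).toMonoidHom = h.baseG := by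
      refine h.eq_baseG ?_ ?_ (by rw [card_map_conj, h.card_baseG])
      · rintro _ ⟨v, hv, rfl⟩; exact hr v (mem_sup_right hv)
      · rintro _ ⟨a, ha, rfl⟩ _ ⟨b, hb, rfl⟩
        rw [← map_mul, ← map_mul, h.baseG_comm ha hb]
    set s : (S : Subgroup G) := ⟨r * c * r⁻¹, hr c (mem_sup_left (mem_zpowers c))⟩ with hs
    have hsb : s ∈ h.base := by
      by_contra hsb
      obtain ⟨a, b, hab⟩ := (h.cases_elem s).resolve_left hsb
      set w : (S : Subgroup G) := x ^ (2 * 2 ^ m : ℤ) * y ^ (0 : ℤ) with hw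
      have hwo : orderOf (w : G) = 2 := by
        rw [Subgroup.orderOf_coe]
        exact h.orderOf_in_two ⟨1, by ring⟩ (by simp) fun e => h.half_not_dvd e.1
      obtain ⟨v, hv, hvw⟩ : (w : G) ∈ h.baseG.map (MulAut.conj r).toMonoidHom :=
        himg.symm ▸ h.mem_baseG.mpr (h.in_mem_base _ _)
      have hvo : orderOf v = 2 := by rw [← orderOf_conj r v]; exact (congrArg orderOf hvw).trans hwo
      have e : w * s = s * w := by
        apply Subtype.ext
        have e1 : (w : G) = r * v * r⁻¹ := hvw.symm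
        show (w : G) * s = s * w
        rw [e1, hs]
        show r * v * r⁻¹ * (r * c * r⁻¹) = r * c * r⁻¹ * (r * v * r⁻¹)
        calc r * v * r⁻¹ * (r * c * r⁻¹) = r * (v * c) * r⁻¹ := by group
          _ = r * (c * v) * r⁻¹ := by rw [hfi v hv hvo]
          _ = _ := by group
      rw [hab, hw, h.commute_out_in, sub_zero] at e
      exact h.half_not_dvd e
    refine mem_centralizer_iff.mpr fun v hv => ?_
    have hsG : r * c * r⁻¹ ∈ h.baseG := h.mem_baseG.mpr hsb
    have hvG : r * v * r⁻¹ ∈ h.baseG := himg.le (conj_mem_map_conj hv)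
    calc v * c = r⁻¹ * ((r * v * r⁻¹) * (r * c * r⁻¹)) * r := by group
      _ = r⁻¹ * ((r * c * r⁻¹) * (r * v * r⁻¹)) * r := by rw [h.baseG_comm hvG hsG]
      _ = c * v := by group
  · obtain ⟨φ, hφ, hφa⟩ := exists_aut hci hodd
    refine mem_centralizer_iff.mpr fun v hv => ?_
    have key := fix_of_fix_involutions (S.isPGroup'.to_le h.baseG_le)
      (fun a b => Subtype.ext (h.baseG_comm a.2 b.2)) hφ (fun u hu => Subtype.ext ?_) ⟨v, hv⟩
    · have e := (hφa _).symm.trans (congrArg Subtype.val key)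
      exact (mul_inv_eq_iff_eq_mul.mp e).symm
    · rw [hφa]
      by_cases h1 : (u : G) = 1
      · rw [h1]; group
      · rw [hfi _ u.2 (orderOf_eq_two_of_mul_self (congrArg Subtype.val hu) h1),
          mul_inv_cancel_right]

/-- The three involutions of the base. -/
def basePts (_h : WGen m x y z) : Fin 3 → Set G :=
  ![{((x ^ (2 * 2 ^ m : ℤ) * y ^ (0 : ℤ) : (S : Subgroup G)) : G)},
    {((x ^ (0 : ℤ) * y ^ (2 * 2 ^ m : ℤ) : (S : Subgroup G)) : G)},
    {((x ^ (2 * 2 ^ m : ℤ) * y ^ (2 * 2 ^ m : ℤ) : (S : Subgroup G)) : G)}]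

theorem mem_basePts {n : Fin 3} {v : G} (hv : v ∈ h.basePts n) : v ∈ h.baseG ∧ orderOf v = 2 := by
  have hd : (4 * 2 ^ m : ℤ) ∣ 2 * (2 * 2 ^ m) := ⟨1, by ring⟩
  fin_cases n <;> cases hv <;> refine ⟨h.mem_baseG.mpr (h.in_mem_base _ _), ?_⟩ <;>
    rw [Subgroup.orderOf_coe]
  exacts [h.orderOf_in_two hd (by simp) fun e => h.half_not_dvd e.1,
    h.orderOf_in_two (by simp) hd fun e => h.half_not_dvd e.2,
    h.orderOf_in_two hd hd fun e => h.half_not_dvd e.1]

theorem exists_basePts {v : G} (hv : v ∈ h.baseG) (ho : orderOf v = 2) :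
    ∃ n, v ∈ h.basePts n := by
  rcases h.base_involutions hv ho with e | e | e
  exacts [⟨0, e⟩, ⟨1, e⟩, ⟨2, e⟩]

theorem basePts_singleton {n : Fin 3} {u v : G} (hu : u ∈ h.basePts n) (hv : v ∈ h.basePts n) :
    u = v := by
  fin_cases n <;> exact Eq.trans hu (Eq.symm hv)

theorem baseTri {N : Subgroup G} (hN : N ≤ normalizer (h.baseG : Set G)) : Tri N h.basePts where
  nonempty n := by fin_cases n <;> exact ⟨_, rfl⟩
  disjoint i j a hi hj := by
    have h01 : (x ^ (2 * 2 ^ m : ℤ) * y ^ (0 : ℤ)) ≠ x ^ (0 : ℤ) * y ^ (2 * 2 ^ m : ℤ) := fun e =>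
      h.half_not_dvd (by simpa using (h.pq_eq.mp e).1)
    have h02 : (x ^ (2 * 2 ^ m : ℤ) * y ^ (0 : ℤ)) ≠
        x ^ (2 * 2 ^ m : ℤ) * y ^ (2 * 2 ^ m : ℤ) := fun e =>
      h.half_not_dvd (by simpa using (h.pq_eq.mp e).2)
    have h12 : (x ^ (0 : ℤ) * y ^ (2 * 2 ^ m : ℤ)) ≠
        x ^ (2 * 2 ^ m : ℤ) * y ^ (2 * 2 ^ m : ℤ) := fun e =>
      h.half_not_dvd (by simpa using (h.pq_eq.mp e).1)
    fin_cases i <;> fin_cases j <;> first
      | rfl
      | exact absurd (Subtype.ext (hi.symm.trans hj)) h01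
      | exact absurd (Subtype.ext (hj.symm.trans hi)) h01
      | exact absurd (Subtype.ext (hi.symm.trans hj)) h02
      | exact absurd (Subtype.ext (hj.symm.trans hi)) h02
      | exact absurd (Subtype.ext (hi.symm.trans hj)) h12
      | exact absurd (Subtype.ext (hj.symm.trans hi)) h12
  perm g hg n := by
    obtain ⟨r, hr, hF⟩ : ∃ r, r ∈ h.basePts n ∧ ∀ u ∈ h.basePts n, u = r := by
      fin_cases n <;> exact ⟨_, rfl, fun u hu => hu⟩
    obtain ⟨hrU, hro⟩ := h.mem_basePts hr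
    obtain ⟨j, hj⟩ := h.exists_basePts ((mem_normalizer_iff.mp (hN hg) r).mp hrU)
      ((orderOf_conj g r).trans hro)
    exact ⟨j, fun u hu => by rw [hF u hu]; exact hj⟩

theorem base_relIndex_eq [Finite G] :
    (centralizer (h.baseG : Set G)).relIndex (normalizer (h.baseG : Set G))
      = Nat.card (h.baseTri (le_refl _)).hom.range := by
  rw [← Subgroup.index_ker]
  show ((centralizer (h.baseG : Set G)).subgroupOf _).index = _
  congr 1
  ext g
  rw [Tri.mem_ker, Subgroup.mem_subgroupOf]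
  constructor
  · intro hg n v hv
    rw [← mem_centralizer_iff.mp hg v (h.mem_basePts hv).1, mul_inv_cancel_right]
    exact hv
  · intro hg
    refine h.base_fix_of_involutions g.2 fun v hv ho => ?_
    obtain ⟨n, hn⟩ := h.exists_basePts hv ho
    exact mul_inv_eq_iff_eq_mul.mp (h.basePts_singleton (hg n v hn) hn)

theorem z_mem_normalizer_base [Finite G] : (z : G) ∈ normalizer (h.baseG : Set G) := by
  refine mem_normalizer_of_conj_mem fun v hv => ?_
  obtain ⟨v', hv', rfl⟩ := hv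
  exact ⟨z * v' * z⁻¹, (normal_of_index_eq_two h.index_base).conj_mem _ hv' z, rfl⟩

theorem z_not_mem_centralizer_base : (z : G) ∉ centralizer (h.baseG : Set G) := by
  intro hc
  have e : x * z = z * x := Subtype.ext (mem_centralizer_iff.mp hc (x : G)
    (h.mem_baseG.mpr (by simpa using h.in_mem_base 1 0)))
  have e1 : x = y := by
    have := h.swap
    rwa [← e, mul_inv_cancel_right] at this
  have e2 : x ^ (1 : ℤ) * y ^ (0 : ℤ) = x ^ (0 : ℤ) * y ^ (1 : ℤ) := by simp [e1]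
  exact h.one_not_dvd (by simpa using (h.pq_eq.mp e2).1)

theorem sylow_two_power (w : G) (hw : w ∈ (S : Subgroup G)) : ∃ j : ℕ, w ^ 2 ^ j = 1 := by
  obtain ⟨j, hj⟩ := S.isPGroup' ⟨w, hw⟩
  exact ⟨j, congrArg Subtype.val hj⟩

theorem base_relIndex_even [Finite G] :
    (centralizer (h.baseG : Set G)).relIndex (normalizer (h.baseG : Set G)) = 2 ∨
      (centralizer (h.baseG : Set G)).relIndex (normalizer (h.baseG : Set G)) = 6 := by
  have h6 := h.base_relIndex_eq ▸ (h.baseTri (le_refl _)).card_range_dvd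
  have h2 : 2 ∣ (centralizer (h.baseG : Set G)).relIndex (normalizer (h.baseG : Set G)) :=
    two_dvd_relIndex (by rw [← normalizerMonoidHom_ker]; exact MonoidHom.normal_ker _)
      h.z_mem_normalizer_base h.z_not_mem_centralizer_base (h.sylow_two_power _ z.2)
  have h7 := Nat.le_of_dvd (by norm_num) h6
  interval_cases (centralizer (h.baseG : Set G)).relIndex (normalizer (h.baseG : Set G)) <;> omega

theorem base_acts_of_two [Finite G]
    (h2 : (centralizer (h.baseG : Set G)).relIndex (normalizer (h.baseG : Set G)) = 2) :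
    normalizer (h.baseG : Set G) ≤ actsLike (S : Subgroup G) h.baseG :=
  normalizer_le_actsLike_of_two (centralizer_le_actsLike _ _) h2 z.2 h.z_mem_normalizer_base
    h.z_not_mem_centralizer_base

theorem sup_centG_eq {Q : Subgroup G} (hQS : Q ≤ (S : Subgroup G)) :
    Q ⊔ h.centG = (Q.subgroupOf (S : Subgroup G) ⊔ center (S : Subgroup G)).map
      (S : Subgroup G).subtype := by
  rw [Subgroup.map_sup, map_subgroupOf_eq_of_le hQS]
  rfl

theorem exc_sup_quat [Finite G] {Q : Subgroup G} (e : Q ≃* QuaternionGroup 2)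
    (hQS : Q ≤ (S : Subgroup G)) : h.IsExcG (Q ⊔ h.centG) := by
  refine ⟨sup_le hQS h.centG_le, ?_⟩
  obtain ⟨δ, hδ⟩ := h.exc_of_quat ((subgroupOfEquivOfLe hQS).trans e)
  refine ⟨δ, ?_⟩
  rwa [h.sup_centG_eq hQS, subgroupOf, comap_map_eq_self_of_injective (Subgroup.subtype_injective _)]

theorem quat_centG [Finite G] {Q : Subgroup G} (e : Q ≃* QuaternionGroup 2)
    (hQS : Q ≤ (S : Subgroup G)) {t : G} (htS : t ∈ (S : Subgroup G))
    (ht : ∀ q ∈ Q, t * q = q * t) : t ∈ h.centG :=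
  h.mem_centG (u := ⟨t, htS⟩) |>.mpr (h.quat8_centralizer ((subgroupOfEquivOfLe hQS).trans e)
    fun q hq => Subtype.ext (ht q.1 hq))

theorem centG_le_exc [Finite G] {V : Subgroup G} (hV : h.IsExcG V) : h.centG ≤ V := by
  obtain ⟨-, δ, hδ⟩ := hV
  rintro _ ⟨t, ht, rfl⟩
  have := (h.exc_inf_quat hδ).2
  exact (show t ∈ V.subgroupOf (S : Subgroup G) from this ▸ mem_sup_right ht)

theorem exc_exists_quat [Finite G] {V : Subgroup G} (hV : h.IsExcG V) :
    ∃ Q : Subgroup G, Q ≤ (S : Subgroup G) ∧ Nonempty (Q ≃* QuaternionGroup 2) ∧ V = Q ⊔ h.centG ∧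
      ∀ Q' : Subgroup G, Q' ≤ V → Nonempty (Q' ≃* QuaternionGroup 2) → Q' = Q := by
  obtain ⟨hVS, δ, hδ⟩ := hV
  obtain ⟨⟨e⟩, he⟩ := h.exc_inf_quat hδ
  refine ⟨(V.subgroupOf (S : Subgroup G) ⊓ h.quat).map (S : Subgroup G).subtype, map_subtype_le _,
    ⟨(equivMapOfInjective _ _ (Subgroup.subtype_injective _)).symm.trans e⟩, ?_, ?_⟩
  · conv_lhs => rw [← map_subgroupOf_eq_of_le hVS, he, Subgroup.map_sup]
    rfl
  · rintro Q' hQ'V ⟨e'⟩
    have hQ'S : Q' ≤ (S : Subgroup G) := hQ'V.trans hVS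
    have := h.eq_exc_inf_quat hδ ((subgroupOfEquivOfLe hQ'S).trans e') (fun q hq => hQ'V hq)
    rw [← this, map_subgroupOf_eq_of_le hQ'S]

theorem quat_of_sup [Finite G] {Q : Subgroup G} (e : Q ≃* QuaternionGroup 2)
    (hQS : Q ≤ (S : Subgroup G)) :
    normalizer ((Q ⊔ h.centG : Subgroup G) : Set G) ≤ normalizer (Q : Set G) := by
  obtain ⟨Q₀, -, -, -, huniq⟩ := h.exc_exists_quat (h.exc_sup_quat e hQS)
  obtain rfl := huniq Q le_sup_left ⟨e⟩
  intro g hg
  rw [mem_normalizer_iff_map_conj]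
  refine huniq _ ?_ ⟨(Q.equivMapOfInjective _ (MulAut.conj g).injective).symm.trans e⟩
  rintro _ ⟨q, hq, rfl⟩
  exact (mem_normalizer_iff.mp hg q).mp (mem_sup_left hq)

/-- The normaliser of an exceptional subgroup centralises the centre of `S`. -/
theorem exc_normalizer_le_centralizer [Finite G] {Q : Subgroup G} (e : Q ≃* QuaternionGroup 2)
    (hQS : Q ≤ (S : Subgroup G)) :
    normalizer ((Q ⊔ h.centG : Subgroup G) : Set G) ≤ centralizer (h.centG : Set G) := by
  have : Fact (Nat.Prime 2) := ⟨Nat.prime_two⟩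
  intro g hg
  refine mem_of_two_odd fun i hi => ?_
  have hci := pow_mem hg i
  generalize g ^ i = c at hi hci
  have hVS := sup_le hQS h.centG_le
  rcases hi with ⟨j, hj⟩ | hodd
  · have hP : IsPGroup 2 (zpowers c ⊔ (Q ⊔ h.centG) : Subgroup G) :=
      (isPGroup_zpowers hj).to_sup_of_normal_right' (S.isPGroup'.to_le hVS) (zpowers_le.mpr hci)
    obtain ⟨r, hr⟩ := exists_conj_le_sylow hP S
    have hQS' : Q.map (MulAut.conj r).toMonoidHom ≤ (S : Subgroup G) := by
      rintro _ ⟨q, hq, rfl⟩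
      exact hr q (mem_sup_right (mem_sup_left hq))
    refine mem_centralizer_iff.mpr fun t ht => ?_
    have htc : r * t * r⁻¹ ∈ h.centG := by
      refine h.quat_centG ((Q.equivMapOfInjective _ (MulAut.conj r).injective).symm.trans e) hQS'
        (hr t (mem_sup_right (mem_sup_right ht))) ?_
      rintro _ ⟨q, hq, rfl⟩
      show r * t * r⁻¹ * (r * q * r⁻¹) = r * q * r⁻¹ * (r * t * r⁻¹)
      calc r * t * r⁻¹ * (r * q * r⁻¹) = r * (t * q) * r⁻¹ := by group
        _ = r * (q * t) * r⁻¹ := by rw [h.centG_comm ht (hQS hq)]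
        _ = _ := by group
    have e1 := h.centG_comm htc (hr c (mem_sup_left (mem_zpowers c)))
    calc t * c = r⁻¹ * ((r * t * r⁻¹) * (r * c * r⁻¹)) * r := by group
      _ = r⁻¹ * ((r * c * r⁻¹) * (r * t * r⁻¹)) * r := by rw [e1]
      _ = c * t := by group
  · have hcN : c ∈ normalizer (h.centG : Set G) := mem_normalizer_of_conj_mem fun t ht => by
      have htV := (mem_normalizer_iff.mp hci t).mp (mem_sup_right ht)
      refine h.quat_centG e hQS (hVS htV) fun q hq => ?_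
      have hq' : c⁻¹ * q * c ∈ (S : Subgroup G) :=
        hVS ((mem_normalizer_iff''.mp hci q).mp (mem_sup_left hq))
      calc c * t * c⁻¹ * q = c * (t * (c⁻¹ * q * c)) * c⁻¹ := by group
        _ = c * ((c⁻¹ * q * c) * t) * c⁻¹ := by rw [h.centG_comm ht hq']
        _ = q * (c * t * c⁻¹) := by group
    obtain ⟨φ, hφ, hφa⟩ := exists_aut hcN hodd
    have htau : ((x * y : (S : Subgroup G)) : G) ∈ h.centG :=
      h.mem_centG.mpr (h.center_eq ▸ mem_zpowers _)
    have hgen : ∀ u : h.centG, u ∈ zpowers (⟨_, htau⟩ : h.centG) := fun u => by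
      obtain ⟨u', hu', hu⟩ := u.2
      rw [SetLike.mem_coe, h.center_eq] at hu'
      obtain ⟨l, hl⟩ := hu'
      refine ⟨l, Subtype.ext ?_⟩
      show ((⟨_, htau⟩ : h.centG) ^ l : h.centG).1 = _
      rw [← hu, ← hl, SubgroupClass.coe_zpow]
      exact (SubgroupClass.coe_zpow _ _).symm
    have hfix := fix_cyclic (S.isPGroup'.to_le h.centG_le) hφ (hgen (φ ⟨_, htau⟩))
    refine mem_centralizer_iff.mpr fun t ht => ?_
    obtain ⟨l, hl⟩ := hgen ⟨t, ht⟩
    have key : φ ⟨t, ht⟩ = ⟨t, ht⟩ := by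
      rw [← show (⟨_, htau⟩ : h.centG) ^ l = ⟨t, ht⟩ from hl, map_zpow, hfix]
    have e2 := (hφa _).symm.trans (congrArg Subtype.val key)
    exact (mul_inv_eq_iff_eq_mul.mp e2).symm

theorem exc_kernel_iff [Finite G] {Q : Subgroup G} (e : Q ≃* QuaternionGroup 2)
    (hQS : Q ≤ (S : Subgroup G)) {g : G}
    (hg : g ∈ normalizer ((Q ⊔ h.centG : Subgroup G) : Set G)) :
    g ∈ Q ⊔ centralizer (Q : Set G) ↔
      g ∈ (Q ⊔ h.centG) ⊔ centralizer ((Q ⊔ h.centG : Subgroup G) : Set G) := by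
  constructor
  · intro hgQ
    rw [← SetLike.mem_coe, sup_comm, coe_mul_of_left_le_normalizer_right _ _
      (centralizer_le_normalizer _)] at hgQ
    obtain ⟨c, hc, q, hq, hcq⟩ := Set.mem_mul.mp hgQ
    rw [← hcq]
    refine mul_mem (mem_sup_right ?_) (mem_sup_left (mem_sup_left hq))
    have hcN : c ∈ normalizer ((Q ⊔ h.centG : Subgroup G) : Set G) := by
      rw [show c = g * q⁻¹ by rw [← hcq, mul_inv_cancel_right]]
      exact mul_mem hg (inv_mem (le_normalizer (mem_sup_left hq)))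
    have hle : Q ⊔ h.centG ≤ centralizer ({c} : Set G) :=
      sup_le (fun q' hq' => mem_centralizer_singleton_iff.mpr (mem_centralizer_iff.mp hc q' hq'))
        (fun t ht => mem_centralizer_singleton_iff.mpr
          (mem_centralizer_iff.mp (h.exc_normalizer_le_centralizer e hQS hcN) t ht))
    exact mem_centralizer_iff.mpr fun v hv => mem_centralizer_singleton_iff.mp (hle hv)
  · intro hgV
    refine (show (Q ⊔ h.centG) ⊔ centralizer ((Q ⊔ h.centG : Subgroup G) : Set G) ≤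
        Q ⊔ centralizer (Q : Set G) from sup_le (sup_le le_sup_left ?_) ?_) hgV
    · exact fun t ht => mem_sup_right (mem_centralizer_iff.mpr fun q hq =>
        (h.centG_comm ht (hQS hq)).symm)
    · exact fun c hc => mem_sup_right (mem_centralizer_iff.mpr fun q hq =>
        mem_centralizer_iff.mp hc q (mem_sup_left hq))

theorem exc_relIndex_eq [Finite G] {Q : Subgroup G} {i j : G} (hq : QGen Q i j)
    (e : Q ≃* QuaternionGroup 2) (hQS : Q ≤ (S : Subgroup G)) :
    ((Q ⊔ h.centG) ⊔ centralizer ((Q ⊔ h.centG : Subgroup G) : Set G)).relIndex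
        (normalizer ((Q ⊔ h.centG : Subgroup G) : Set G))
      = Nat.card (hq.tri (h.quat_of_sup e hQS)).hom.range := by
  rw [← hq.relIndex_eq' (h.quat_of_sup e hQS)]
  refine congrArg Subgroup.index (Subgroup.ext fun g => ?_)
  rw [mem_subgroupOf, mem_subgroupOf]
  exact (h.exc_kernel_iff e hQS g.2).symm

theorem exc_witnessG [Finite G] {Q : Subgroup G} (e : Q ≃* QuaternionGroup 2)
    (hQS : Q ≤ (S : Subgroup G)) :
    ∃ w ∈ (S : Subgroup G), w ∈ normalizer ((Q ⊔ h.centG : Subgroup G) : Set G) ∧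
      w ∉ (Q ⊔ h.centG) ⊔ centralizer ((Q ⊔ h.centG : Subgroup G) : Set G) := by
  obtain ⟨hVS, δ, hδ⟩ := h.exc_sup_quat e hQS
  obtain ⟨w, hw, hwX⟩ := h.exc_witness hδ
  refine ⟨w, w.2, mem_normalizer_of_conj_mem fun g hg =>
    (mem_normalizer_iff.mp hw ⟨g, hVS hg⟩).mp hg, fun hc => hwX ?_⟩
  rw [← SetLike.mem_coe, sup_comm, coe_mul_of_left_le_normalizer_right _ _
    (centralizer_le_normalizer _)] at hc
  obtain ⟨c, hc, v, hv, hcv⟩ := Set.mem_mul.mp hc
  have hcS : c ∈ (S : Subgroup G) := by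
    rw [show c = (w : G) * v⁻¹ by rw [← hcv, mul_inv_cancel_right]]
    exact mul_mem w.2 (inv_mem (hVS hv))
  have hcZ := h.quat_centG e hQS hcS fun q hq =>
    (mem_centralizer_iff.mp hc q (mem_sup_left hq)).symm
  show (w : G) ∈ Q ⊔ h.centG
  rw [← hcv]
  exact mul_mem (mem_sup_right hcZ) hv

theorem exc_relIndex_even [Finite G] {Q : Subgroup G} (e : Q ≃* QuaternionGroup 2)
    (hQS : Q ≤ (S : Subgroup G)) :
    ((Q ⊔ h.centG) ⊔ centralizer ((Q ⊔ h.centG : Subgroup G) : Set G)).relIndex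
        (normalizer ((Q ⊔ h.centG : Subgroup G) : Set G)) = 2 ∨
      ((Q ⊔ h.centG) ⊔ centralizer ((Q ⊔ h.centG : Subgroup G) : Set G)).relIndex
        (normalizer ((Q ⊔ h.centG : Subgroup G) : Set G)) = 6 := by
  obtain ⟨w, hwS, hwN, hwC⟩ := h.exc_witnessG e hQS
  obtain ⟨i, j, hq⟩ := exists_qGen e
  set V := Q ⊔ h.centG
  have h6 := h.exc_relIndex_eq hq e hQS ▸ (hq.tri (h.quat_of_sup e hQS)).card_range_dvd
  have h2 : 2 ∣ (V ⊔ centralizer (V : Set G)).relIndex (normalizer (V : Set G)) := by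
    refine two_dvd_relIndex ?_ hwN hwC (h.sylow_two_power w hwS)
    rw [subgroupOf_sup le_normalizer (centralizer_le_normalizer _)]
    haveI : ((centralizer (V : Set G)).subgroupOf (normalizer (V : Set G))).Normal := by
      rw [← normalizerMonoidHom_ker]; exact MonoidHom.normal_ker _
    haveI : (V.subgroupOf (normalizer (V : Set G))).Normal := Subgroup.normal_in_normalizer
    infer_instance
  have h7 := Nat.le_of_dvd (by norm_num) h6
  interval_cases (V ⊔ centralizer (V : Set G)).relIndex (normalizer (V : Set G)) <;> omega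

theorem exc_acts_of_two [Finite G] {Q : Subgroup G} (e : Q ≃* QuaternionGroup 2)
    (hQS : Q ≤ (S : Subgroup G))
    (h2 : ((Q ⊔ h.centG) ⊔ centralizer ((Q ⊔ h.centG : Subgroup G) : Set G)).relIndex
        (normalizer ((Q ⊔ h.centG : Subgroup G) : Set G)) = 2) :
    normalizer ((Q ⊔ h.centG : Subgroup G) : Set G) ≤ actsLike (S : Subgroup G) (Q ⊔ h.centG) := by
  obtain ⟨w, hwS, hwN, hwC⟩ := h.exc_witnessG e hQS
  exact normalizer_le_actsLike_of_two
    (sup_le (le_actsLike_self (sup_le hQS h.centG_le)) (centralizer_le_actsLike _ _))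
    h2 hwS hwN hwC

/-- All exceptional subgroups are conjugate in `S`. -/
theorem exc_relIndex_conj [Finite G] {V₁ V₂ : Subgroup G} (h₁ : h.IsExcG V₁) (h₂ : h.IsExcG V₂) :
    (V₂ ⊔ centralizer (V₂ : Set G)).relIndex (normalizer (V₂ : Set G))
      = (V₁ ⊔ centralizer (V₁ : Set G)).relIndex (normalizer (V₁ : Set G)) := by
  obtain ⟨h₁S, δ₁, hδ₁⟩ := h₁
  obtain ⟨h₂S, δ₂, hδ₂⟩ := h₂
  obtain ⟨s, hs⟩ := h.exc_conj hδ₁ hδ₂
  have e := congrArg (fun W : Subgroup (S : Subgroup G) => W.map (S : Subgroup G).subtype) hs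
  simp only [Subgroup.map_map] at e
  rw [show (S : Subgroup G).subtype.comp (MulAut.conj s).toMonoidHom
    = (MulAut.conj (s : G)).toMonoidHom.comp (S : Subgroup G).subtype from rfl, ← Subgroup.map_map,
    map_subgroupOf_eq_of_le h₁S, map_subgroupOf_eq_of_le h₂S] at e
  rw [← e, map_conj_normalizer, map_conj_centralizer, ← Subgroup.map_sup,
    relIndex_map_map_of_injective _ _ (MulAut.conj (s : G)).injective]

end WGen

end Cfsg.Agent.H39
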